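import Mathlib
import Cfsg.Agent.Base
import Cfsg.Agent.Lib.Rk3G.Tr2
import Cfsg.Agent.Lib.NE8.Tri
import Cfsg.Agent.Lib.PS4.Tools
import Cfsg.Prelude.Def_ClassificationK
import Cfsg.Prelude.Def_LieTwisted
import Cfsg.Prelude.Def_Sz
import Cfsg.Prelude.Def_Spor_Mathieu
import Cfsg.Prelude.Def_Spor_J1
import Cfsg.Prelude.Def_Spor_ON

/-! Simple groups of 2-rank 3: definitions (see `blueprint/RK3/README.md`). -/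

set_option autoImplicit false
set_option linter.unusedSectionVars false
set_option linter.unusedVariables false

namespace H13.R3

open Subgroup H69 H70 Cfsg H22.RK H22.RG

variable {G : Type*} [Group G]

/-- the conclusion of the theorem -/
def Concl (G : Type*) [Group G] : Prop :=
  (∃ (F : Type) (_ : Field F) (_ : Fintype F), Odd (Fintype.card F) ∧ Nonempty (G ≃* ↥(Cfsg.Lie.chevG2.group F))) ∨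
    (∃ (K : Type) (_ : Field K) (_ : Fintype K) (q : ℕ), Odd q ∧ Fintype.card K = q ^ 3 ∧ Nonempty (G ≃* ↥(Cfsg.Lie.twistedD4 K q))) ∨
    Cfsg.Lie.IsoRee G ∨
    (∃ (F : Type) (_ : Field F) (_ : Fintype F), Fintype.card F = 8 ∧
      (Nonempty (G ≃* Matrix.ProjectiveSpecialLinearGroup (Fin 2) F) ∨ Nonempty (G ≃* ↥(Cfsg.Lie.Sz F 4)) ∨
        ∃ (E : Type) (_ : Field E) (_ : Fintype E), Fintype.card E = 64 ∧ Nonempty (G ≃* Cfsg.PSU 3 E 8))) ∨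
    Cfsg.Spor.IsoJ1 G ∨ Cfsg.Spor.IsoM12 G ∨ Cfsg.Spor.IsoON G

/-- Sylow 2-subgroup `S` with the normal four-group `U = ⟨z, u⟩`; `T = S ⊓ 𝐂(U)`. -/
structure P1 (S U : Subgroup G) (z u : G) : Prop where
  fu : H45.NE8.Fu G
  syl : IsSylowIn 2 S ⊤
  nsc : NSC S
  rk : PRankLE 2 3 G
  four : H23.GW.Four U z u
  US : U ≤ S
  nU : S ≤ 𝐍(U)
  cz : S ≤ centralizer {z}
  oz : ∀ x ∈ S, S ≤ centralizer {x} → x * x = 1 → x = 1 ∨ x = z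
  oT : ∀ x ∈ S ⊓ 𝐂(U), x ∈ 𝐂(S ⊓ 𝐂(U)) → x * x = 1 → x ∈ U

/-- the 3-element `β` rotating `z → u → z u`. -/
structure Rot (S U : Subgroup G) (z u β : G) : Prop where
  three : ∃ k : ℕ, β ^ 3 ^ k = 1
  nT : β ∈ 𝐍(S ⊓ 𝐂(U))
  rz : β * z * β⁻¹ = u
  ru : β * u * β⁻¹ = z * u
  inv : ∀ s ∈ S, s ∉ 𝐂(U) → β * s * β * s⁻¹ ∈ S ⊓ 𝐂(U)

/-- the normal eight-group `V = U × ⟨f⟩`; `A = S ⊓ 𝐂(V)`. -/
structure Q3 (S U V : Subgroup G) (z u f β : G) : Prop extends P1 S U z u, Rot S U z u β where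
  e8 : E8 V
  UV : U ≤ V
  VS : V ≤ S
  nV : S ≤ 𝐍(V)
  fV : f ∈ V
  fU : f ∉ U
  bf : β * f * β⁻¹ = f
  cube : β ^ 3 ∈ 𝐂(S ⊓ 𝐂(U))

/-- the element `l` of order 4, `m = β l β⁻¹`. -/
structure Q4 (S U V : Subgroup G) (z u f β l : G) : Prop extends Q3 S U V z u f β where
  lA : l ∈ S ⊓ 𝐂(V)
  l2 : l * l = z
  lS : ∀ s ∈ S, s * l * s⁻¹ * l⁻¹ ∈ V
  lm : l * (β * l * β⁻¹) = β * l * β⁻¹ * l
  nm : l * (β * l * β⁻¹) * (β * (β * l * β⁻¹) * β⁻¹) = 1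
  sm : ∀ s ∈ S, s ∉ 𝐂(U) → s * (β * l * β⁻¹) * s⁻¹ * (l * (β * l * β⁻¹))⁻¹ ∈ V

/-- the abelian group `2 × 4 × 4`. -/
def A0 (f β l : G) : Subgroup G := closure {f, l, β * l * β⁻¹}

/-- `B` induces all transvections with axis `U` on `⟨U, e⟩`. -/
def On (U B : Subgroup G) (e : G) : Prop := ∀ v ∈ U, ∃ a ∈ B, e * a * e⁻¹ = v * a

/-- all conjugates of `z` in `T - A` are `On`. -/
def Hon (S U V : Subgroup G) (z : G) (B : Subgroup G) : Prop :=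
  ∀ e ∈ S ⊓ 𝐂(U), e ∉ 𝐂(V) → IsConj z e → On U B e

/-- `x` acts trivially on `W / ⟨z⟩`. -/
def St0 (W : Subgroup G) (z x : G) : Prop := ∀ w ∈ W, x * w * x⁻¹ = w ∨ x * w * x⁻¹ = z * w

/-- the second eight-group `W = U ⊔ zpowers e` and the element `γ`. -/
structure EE (S U V : Subgroup G) (z u f β l e ρ γ : G) : Prop extends Q4 S U V z u f β l where
  eT : e ∈ S ⊓ 𝐂(U)
  ez : IsConj z e
  ef : e * f * e⁻¹ = z * f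
  rS : ρ ∈ S
  rU : ρ ∉ 𝐂(U)
  r2 : ρ * ρ = 1
  rb : ρ * β * ρ⁻¹ = β⁻¹
  rf : ρ * f * ρ⁻¹ = f
  rl : ρ * l * ρ⁻¹ = l
  re : ρ * e * ρ⁻¹ = e
  on : On U (A0 f β l) e
  y0 : ∃ y, y * l⁻¹ ∈ V ∧ e * y * e⁻¹ = y
  gz : γ * z * γ⁻¹ = z
  gu : γ * u * γ⁻¹ = e ∨ γ * u * γ⁻¹ = z * e
  gW : γ ∈ 𝐍(U ⊔ zpowers e)
  gS : ∀ x ∈ S, St0 (U ⊔ zpowers e) z x → γ * x * γ⁻¹ ∈ S
  gS' : ∀ x ∈ S, St0 (U ⊔ zpowers e) z x → γ⁻¹ * x * γ ∈ S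
  gv : ∃ v ∈ V, v ∉ U ∧ γ * v * γ⁻¹ = ρ
  sqR : ∀ w ∈ closure {y | ∃ x ∈ S ⊓ 𝐂(U ⊔ zpowers e), x * x = y}, w ∈ U ⊔ zpowers e → w = 1 ∨ w = z

/-- `𝐍(A)` is transitive on the ordered bases of `V`. -/
def FullA (A V : Subgroup G) : Prop :=
  ∀ a ∈ V, ∀ b ∈ V, ∀ c ∈ V, ∀ a' ∈ V, ∀ b' ∈ V, ∀ c' ∈ V, Ind a b c → Ind a' b' c' →
    ∃ m ∈ 𝐍(A), m * a * m⁻¹ = a' ∧ m * b * m⁻¹ = b' ∧ m * c * m⁻¹ = c'

/-- the case in which `A = S ⊓ 𝐂(V)` is abelian and `𝐍(A)` induces the full automorphism group of `V`. -/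
structure LA (S V : Subgroup G) : Prop where
  full : FullA (S ⊓ 𝐂(V)) V
  wc : ∀ g : G, (S ⊓ 𝐂(V)) ^ᶜ g ≤ S → g ∈ 𝐍(S ⊓ 𝐂(V))
  comm : S ⊓ 𝐂(V) ≤ 𝐂(S ⊓ 𝐂(V))
  cv : ∀ g ∈ 𝐍(S ⊓ 𝐂(V)), g ∈ 𝐂(V) → g ∈ 𝐂(S ⊓ 𝐂(V))

/-- coordinates on the homocyclic group `A`. -/
structure CO (S U V : Subgroup G) (z u f β φ : G) (n : ℕ) : Prop where
  n2 : 2 ≤ n
  pA : φ ∈ S ⊓ 𝐂(V)
  bp : β * φ * β⁻¹ = φ
  pf : φ ^ 2 ^ (n - 1) = f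
  ex : ∀ a ∈ S ⊓ 𝐂(V), a ^ 2 ^ n = 1
  card : Nat.card (S ⊓ 𝐂(V) : Subgroup G) = 8 ^ n
  nz : ∀ x ∈ S ⊓ 𝐂(U), x * f * x⁻¹ = z * f → (φ * (x * φ * x⁻¹)) ^ 2 ^ (n - 1) = z
  nm1 : ∀ x ∈ S ⊓ 𝐂(U), x * f * x⁻¹ = z * f → ∀ a ∈ S ⊓ 𝐂(V),
    a * (x * a * x⁻¹) ∈ zpowers (φ * (x * φ * x⁻¹))
  gen : ∀ x ∈ S ⊓ 𝐂(U), x * f * x⁻¹ = z * f →
    closure {φ, φ * (x * φ * x⁻¹), β * (φ * (x * φ * x⁻¹)) * β⁻¹} = S ⊓ 𝐂(V)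
  ninv : ∀ x ∈ S ⊓ 𝐂(U), x * f * x⁻¹ = z * f → ∀ y ∈ S ⊓ 𝐂(U),
    (y * f * y⁻¹ = u * f ∨ y * f * y⁻¹ = z * u * f) →
    y * (φ * (x * φ * x⁻¹)) * y⁻¹ = (φ * (x * φ * x⁻¹))⁻¹
  rho : ∀ ρ ∈ S, ρ ∉ 𝐂(U) → ρ * ρ = 1 → ρ * β * ρ⁻¹ = β⁻¹ → ρ * φ * ρ⁻¹ = φ⁻¹

/-- the Sylow configuration of the O'Nan group. -/
structure ON (S U V : Subgroup G) (z u f β l e ρ γ φ y : G) : Prop
    extends EE S U V z u f β l e ρ γ, LA S V, CO S U V z u f β φ 2 where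
  hy : y = φ * (e * φ * e⁻¹) * u

/-- the 3-element `θ` of `𝐂(y)`. -/
structure TH (S V : Subgroup G) (z β e y θ : G) : Prop where
  three : ∃ k : ℕ, θ ^ 3 ^ k = 1
  nA : θ ∈ 𝐍(S ⊓ 𝐂(V))
  nS : θ ∈ 𝐍(S ⊓ centralizer {y})
  cy : θ * y * θ⁻¹ = y
  fpf : ∀ v ∈ V, θ * v * θ⁻¹ * v⁻¹ ∈ zpowers z → v ∈ zpowers z
  inv : β * e * β⁻¹ * θ * (β * e * β⁻¹)⁻¹ = θ⁻¹
  cube : θ ^ 3 ∈ 𝐂(S ⊓ centralizer {y})

/-- conjugates of `z` outside `T`. -/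
def KK (S U : Subgroup G) (z t : G) : Prop := t ∈ S ∧ t ∉ 𝐂(U) ∧ IsConj z t

/-- no conjugate of `z` in `T - U`, and `f` is not a conjugate of `z`. -/
def NN (S U : Subgroup G) (z : G) : Prop := ∀ x ∈ S ⊓ 𝐂(U), IsConj z x → x ∈ U

/-- the element of order 4 in `l V` belonging to `t`. -/
structure XX (S U V : Subgroup G) (z l t x : G) : Prop where
  kt : KK S U z t
  xl : x * l⁻¹ ∈ V
  inv : t * x * t⁻¹ = x⁻¹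
  kx : KK S U z (t * x)

/-- the projective group of dimension 3. -/
abbrev L3 (F : Type) [Field F] : Type := Matrix.ProjectiveSpecialLinearGroup (Fin 3) F

/-- `P` is isomorphic to a Sylow 2-subgroup of `L₃(4)`. -/
def SylL34 (P : Type*) [Group P] : Prop :=
  ∃ (F : Type) (_ : Field F) (_ : Fintype F), Fintype.card F = 4 ∧
    ∃ Q : Sylow 2 (L3 F), Nonempty (P ≃* (Q : Subgroup (L3 F)))

/-- `J` maps onto `L₃(4)` with kernel `K`. -/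
def OntoL34 (J K : Subgroup G) : Prop :=
  ∃ (F : Type) (_ : Field F) (_ : Fintype F), Fintype.card F = 4 ∧
    ∃ π : J →* L3 F, Function.Surjective π ∧ ∀ x : J, π x = 1 ↔ (x : G) ∈ K

end H13.R3
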