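import Mathlib
import Cfsg.Agent.Base
import Cfsg.Agent.Lib.RK3.Defs

/-! Simple groups of 2-rank 3, package BAS (see `blueprint/RK3/README.md`). -/

set_option autoImplicit false
set_option linter.unusedSectionVars false
set_option linter.unusedVariables false

namespace H13.R3

open Subgroup H69 H70 Cfsg H22.RK H22.RG
open scoped commutatorElement Pointwise

variable {G : Type*} [Group G] [Finite G] {S U V M : Subgroup G}
  {z u f β l e ρ γ φ y θ t t' x a g s v w : G} {n : ℕ}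

local notation "T" => S ⊓ 𝐂(U)
local notation "A" => S ⊓ 𝐂(V)
local notation "W" => U ⊔ zpowers e
local notation "m" => β * l * β⁻¹
local notation "e₂" => β * e * β⁻¹
local notation "S₀" => S ⊓ centralizer (Singleton.singleton y : Set G)

theorem _root_.H22.RK.E8.eq_of_le' {Y Y' : Subgroup G} (h : E8 Y) (h' : E8 Y') (e : Y ≤ Y') : Y = Y' :=
  eq_of_le_of_card_ge e (h'.card.trans h.card.symm).le

theorem P1.z2 (h : P1 S U z u) :
    z * z = 1 := h.four.aa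

theorem P1.u2 (h : P1 S U z u) :
    u * u = 1 := h.four.bb

theorem P1.zu (h : P1 S U z u) :
    z * u = u * z := h.four.comm.eq

theorem P1.ne (h : P1 S U z u) :
    z ≠ 1 ∧ u ≠ 1 ∧ z ≠ u ∧ z * u ≠ 1 := ⟨(sq_of_orderOf h.four.ha).2, (sq_of_orderOf h.four.hb).2, h.four.ne,
    (sq_of_orderOf h.four.hab).2⟩

theorem P1.memU (h : P1 S U z u) :
    x ∈ U ↔ x = 1 ∨ x = z ∨ x = u ∨ x = z * u := h.four.mem_iff

theorem P1.zU (h : P1 S U z u) :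
    z ∈ U := h.four.mem_left

theorem P1.uU (h : P1 S U z u) :
    u ∈ U := h.four.mem_right

theorem P1.sqU (h : P1 S U z u) (hx : x ∈ U) :
    x * x = 1 := H45.NE8.four_sq h.four hx

theorem P1.UT (h : P1 S U z u) :
    U ≤ T := le_inf h.US h.four.le_cent

theorem P1.cjz (h : P1 S U z u) (hs : s ∈ S) :
    s * z * s⁻¹ = z := mcs.1 (h.cz hs)

theorem P1.memT (h : P1 S U z u) (hs : s ∈ S) :
    s ∈ 𝐂(U) ↔ s * u * s⁻¹ = u := by
  rw [h.four.cent, mem_inf, mcs, mcs]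
  exact ⟨fun e => e.2, fun e => ⟨h.cjz hs, e⟩⟩

theorem P1.conj_u (h : P1 S U z u) (hs : s ∈ S) (hc : s ∉ 𝐂(U)) :
    s * u * s⁻¹ = z * u := by
  rcases h.memU.1 (conj_mem_of_mem_normalizer (h.nU hs) h.uU) with e | e | e | e
  · exact absurd (by simpa using e) h.ne.2.1
  · rw [← h.cjz hs] at e
    exact absurd (by simpa using e) h.ne.2.2.1.symm
  · exact absurd ((h.memT hs).2 e) hc
  · exact e

theorem P1.u_conj (h : P1 S U z u) (hs : s ∈ S) (hc : s ∉ 𝐂(U)) :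
    u * s * u⁻¹ = z * s := by
  calc u * s * u⁻¹ = z * (z * u) * s * u⁻¹ := by rw [← mul_assoc z z, h.z2, one_mul]
    _ = z * s := by rw [← h.conj_u hs hc]; group

theorem P1.fix_out (h : P1 S U z u) (hs : s ∈ S) (hc : s ∉ 𝐂(U)) (hw : w ∈ U) (e : s * w * s⁻¹ = w) :
    w = 1 ∨ w = z := by
  rcases h.memU.1 hw with e' | e' | e' | e'
  · exact Or.inl e'
  · exact Or.inr e'
  · exact absurd ((h.memT hs).2 (e' ▸ e)) hc
  · rw [e', cj_mul, h.cjz hs, mul_right_inj] at e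
    exact absurd ((h.memT hs).2 e) hc

theorem P1.mul_mem (h : P1 S U z u) (hs : s ∈ S) (hc : s ∉ 𝐂(U)) (ht : t ∈ S) (hd : t ∉ 𝐂(U)) :
    s * t ∈ T := by
  refine ⟨S.mul_mem hs ht, (h.memT (S.mul_mem hs ht)).2 ?_⟩
  calc s * t * u * (s * t)⁻¹ = s * (t * u * t⁻¹) * s⁻¹ := by group
    _ = u := by rw [h.conj_u ht hd, cj_mul, h.cjz hs, h.conj_u hs hc, ← mul_assoc, h.z2, one_mul]

theorem P1.sq_mem (h : P1 S U z u) (hs : s ∈ S) :
    s * s ∈ T := by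
  by_cases hn : s ∈ 𝐂(U)
  · exact ⟨S.mul_mem hs hs, (𝐂(U)).mul_mem hn hn⟩
  · exact h.mul_mem hs hn hs hn

theorem P1.nT (h : P1 S U z u) :
    S ≤ 𝐍(T) := H69.le_normalizer_inf le_normalizer (H69.le_normalizer_centralizer h.nU)

theorem P1.exists_out (h : P1 S U z u) :
    ∃ s ∈ S, s ∉ 𝐂(U) := by
  by_contra hn
  push Not at hn
  rcases h.oz u (h.US h.uU) (fun s hs => mcs.2 ((h.memT hs).1 (hn s hs))) h.u2 with e | e
  exacts [h.ne.2.1 e, h.ne.2.2.1 e.symm]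

theorem P1.no16 (h : P1 S U z u) {E : Subgroup G} (hE : E8 E) (hx : x ∈ 𝐂(E)) (h2 : x * x = 1) :
    x ∈ E := hE.mem_of_cent h.rk h2 hx

theorem P1.e8_sup (h : P1 S U z u) (he : e ∈ 𝐂(U)) (hU : e ∉ U) (h2 : e * e = 1) :
    E8 (W) := ⟨sq_adj (fun _ => h.sqU) h2 he, by
    rw [card_adj h2 he hU, h.four.eq, card_sp2 h.z2 h.u2 h.zu h.ne.1 h.ne.2.1 h.ne.2.2.1.symm]⟩

theorem P1.mem_sup (h : P1 S U z u) (he : e ∈ 𝐂(U)) (h2 : e * e = 1) :
    w ∈ W ↔ w ∈ U ∨ ∃ v ∈ U, w = v * e := by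
  rw [mem_adj h2 he]
  refine or_congr Iff.rfl ⟨fun k => ⟨_, k, by rw [mul_assoc, h2, mul_one]⟩, ?_⟩
  rintro ⟨v, hv, rfl⟩
  rwa [mul_assoc, h2, mul_one]

theorem P1.le_e8 (h : P1 S U z u) {E : Subgroup G} (hE : E8 E) (hc : E ≤ 𝐂(U)) :
    U ≤ E := fun _ hx => h.no16 hE (le_centralizer_iff.1 hc hx) (h.sqU hx)

theorem P1.sylT (h : P1 S U z u) :
    IsSylowIn 2 (T) 𝐂(U) := haveI := Fact.mk Nat.prime_two
  h.syl.inf_of_le_normalizer le_top (H69.le_normalizer_centralizer h.nU)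

theorem P1.cardS (h : P1 S U z u) :
    Nat.card S = 2 * Nat.card (T : Subgroup G) := by
  obtain ⟨s, hs, hn⟩ := h.exists_out
  have e : S = T ⊔ zpowers s := by
    refine le_antisymm (fun x hx => ?_) (sup_le inf_le_left (zpowers_le.2 hs))
    refine (H45.NE8.mem_sup_zp (h.nT hs) (h.sq_mem hs)).2 ?_
    by_cases hx' : x ∈ 𝐂(U)
    · exact Or.inl ⟨hx, hx'⟩
    · exact Or.inr (h.mul_mem hx hx' (inv_mem hs) (by simpa using hn))
  conv_lhs => rw [e]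
  rw [mul_comm]
  exact H45.NE8.card_sup_zp (h.nT hs) (h.sq_mem hs) fun e => hn e.2

theorem Q3.f2 (h : Q3 S U V z u f β) :
    f * f = 1 := h.e8.sq f h.fV

theorem Q3.memV (h : Q3 S U V z u f β) :
    v ∈ V ↔ v ∈ U ∨ ∃ w ∈ U, v = w * f := by
  have c : f ∈ 𝐂(U) := centralizer_anti h.UV (E8.le_cent h.e8 h.fV)
  rw [← h.mem_sup c h.f2, (h.e8_sup c h.fU h.f2).eq_of_le' h.e8 (sup_le h.UV (zpowers_le.2 h.fV))]

theorem Q3.VA (h : Q3 S U V z u f β) :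
    V ≤ A := le_inf h.VS (E8.le_cent h.e8)

theorem Q3.AT (h : Q3 S U V z u f β) :
    A ≤ T := inf_le_inf_left _ (centralizer_anti h.UV)

theorem Q3.nA (h : Q3 S U V z u f β) :
    S ≤ 𝐍(A) := H69.le_normalizer_inf le_normalizer (H69.le_normalizer_centralizer h.nV)

theorem Q3.bU (h : Q3 S U V z u f β) :
    β ∈ 𝐍(U) := by
  rw [h.four.eq]
  exact nrm2 (h.rz ▸ m2r z u) (h.ru ▸ (zpowers z ⊔ zpowers u).mul_mem (m2l z u) (m2r z u))

theorem Q3.bV (h : Q3 S U V z u f β) :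
    β ∈ 𝐍(V) := by
  refine nrm_of fun x hx => ?_
  rcases h.memV.1 hx with k | ⟨w, hw, rfl⟩
  · exact h.UV (conj_mem_of_mem_normalizer h.bU k)
  · rw [cj_mul, h.bf]
    exact V.mul_mem (h.UV (conj_mem_of_mem_normalizer h.bU hw)) h.fV

theorem Q3.bA (h : Q3 S U V z u f β) :
    β ∈ 𝐍(A) := nrm_of fun x hx => ⟨(conj_mem_of_mem_normalizer h.toRot.nT (h.AT hx)).1,
    conj_mem_of_mem_normalizer (H69.normalizer_le_normalizer_centralizer V h.bV) hx.2⟩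

theorem Q3.rzu (h : Q3 S U V z u f β) :
    β * (z * u) * β⁻¹ = z := by
  rw [cj_mul, h.rz, h.ru, ← mul_assoc, ← h.zu, mul_assoc, h.u2, mul_one]

theorem Q3.conjU (h : Q3 S U V z u f β) (hw : w ∈ U) (h1 : w ≠ 1) :
    IsConj z w := by
  rcases h.memU.1 hw with rfl | rfl | rfl | rfl
  · exact absurd rfl h1
  · exact IsConj.refl _
  · exact isConj_iff.2 ⟨β, h.rz⟩
  · exact (isConj_iff.2 ⟨β, h.rzu⟩ : IsConj _ _).symm

theorem Q3.bU_fix (h : Q3 S U V z u f β) (hw : w ∈ U) (e : β * w * β⁻¹ = w) :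
    w = 1 := by
  rcases h.memU.1 hw with k | k | k | k
  · exact k
  · rw [k, h.rz] at e; exact absurd e.symm h.ne.2.2.1
  · rw [k, h.ru] at e; exact absurd (by simpa using e) h.ne.1
  · rw [k, h.rzu] at e; exact absurd (by simpa using e) h.ne.2.1

theorem Q3.b3 (h : Q3 S U V z u f β) (hx : x ∈ T) :
    β * (β * x * β⁻¹) * β⁻¹ = β⁻¹ * x * β := by
  calc _ = β⁻¹ * (β ^ 3 * x * (β ^ 3)⁻¹) * β := by rw [pow_three]; group
    _ = _ := by rw [conj_eq_of_mem_centralizer h.cube hx]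

theorem Q3.memA (h : Q3 S U V z u f β) (hx : x ∈ T) :
    x ∈ 𝐂(V) ↔ x * f * x⁻¹ = f := by
  refine ⟨fun k => conj_eq_of_mem_centralizer k h.fV, fun k v hv => ?_⟩
  refine (comm_of_cj ?_).symm
  rcases h.memV.1 hv with k' | ⟨w, hw, rfl⟩
  · exact conj_eq_of_mem_centralizer hx.2 k'
  · rw [cj_mul, k, conj_eq_of_mem_centralizer hx.2 hw]

theorem Q3.cf (h : Q3 S U V z u f β) (hs : s ∈ S) :
    ∃ w ∈ U, s * f * s⁻¹ = w * f := by
  rcases h.memV.1 (conj_mem_of_mem_normalizer (h.nV hs) h.fV) with k | k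
  · exact absurd (by simpa [mul_assoc] using conj_mem_of_mem_normalizer' (h.nU hs) k) h.fU
  · exact k

theorem Q3.onto (h : Q3 S U V z u f β) (hw : w ∈ U) :
    ∃ x ∈ T, x * f * x⁻¹ = w * f := by
  have k : ∃ x ∈ T, x * f * x⁻¹ = z * f ∨ x * f * x⁻¹ = u * f ∨ x * f * x⁻¹ = z * u * f := by
    by_contra hn
    push Not at hn
    refine h.fU (h.oT f (h.AT (h.VA h.fV)) (fun x hx => comm_of_cj ?_) h.f2)
    obtain ⟨w, hw, e⟩ := h.cf hx.1
    rcases h.memU.1 hw with rfl | rfl | rfl | rfl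
    · rw [e, one_mul]
    exacts [absurd e (hn x hx).1, absurd e (hn x hx).2.1, absurd e (hn x hx).2.2]
  have st : ∀ w : G, (∃ x ∈ T, x * f * x⁻¹ = w * f) → ∃ x ∈ T, x * f * x⁻¹ = β * w * β⁻¹ * f :=
    fun w ⟨x, hx, e⟩ => ⟨_, conj_mem_of_mem_normalizer h.toRot.nT hx, by
      calc _ = β * (x * (β⁻¹ * (β * f * β⁻¹) * β) * x⁻¹) * β⁻¹ := by rw [h.bf]; group
        _ = β * w * β⁻¹ * (β * f * β⁻¹) := by
          rw [show β⁻¹ * (β * f * β⁻¹) * β = f by group, e]; group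
        _ = _ := by rw [h.bf]⟩
  have k1 : ∃ x ∈ T, x * f * x⁻¹ = z * f := by
    obtain ⟨x, hx, e | e | e⟩ := k
    · exact ⟨x, hx, e⟩
    · simpa only [h.ru, h.rzu] using st _ (st _ ⟨x, hx, e⟩)
    · simpa only [h.rzu] using st _ ⟨x, hx, e⟩
  rcases h.memU.1 hw with rfl | rfl | rfl | rfl
  · exact ⟨1, one_mem _, by group⟩
  · exact k1
  · simpa only [h.rz] using st _ k1
  · simpa only [h.rz, h.ru] using st _ (st _ k1)

theorem Q3.conjf (h : Q3 S U V z u f β) (hv : v ∈ V) (hU : v ∉ U) :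
    ∃ x ∈ T, x * f * x⁻¹ = v := by
  obtain ⟨w, hw, rfl⟩ := (h.memV.1 hv).resolve_left hU
  exact h.onto hw

theorem Q3.invA (h : Q3 S U V z u f β) (ha : a ∈ A) (h2 : a * a = 1) :
    a ∈ V := h.no16 h.e8 ha.2 h2

theorem Q3.sqT (h : Q3 S U V z u f β) (hx : x ∈ T) :
    x * x ∈ A := by
  refine ⟨S.mul_mem hx.1 hx.1, (h.memA ((T).mul_mem hx hx)).2 ?_⟩
  obtain ⟨w, hw, e⟩ := h.cf hx.1
  calc x * x * f * (x * x)⁻¹ = x * (x * f * x⁻¹) * x⁻¹ := by group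
    _ = f := by rw [e, cj_mul, e, conj_eq_of_mem_centralizer hx.2 hw, ← mul_assoc, h.sqU hw, one_mul]

theorem Q3.cmT (h : Q3 S U V z u f β) (hx : x ∈ T) (hy : y ∈ T) :
    x * y * x⁻¹ * y⁻¹ ∈ A := by
  have : x * y * x⁻¹ * y⁻¹ = x * x * ((x⁻¹ * y) * (x⁻¹ * y)) * (y * y)⁻¹ := by group
  rw [this]
  exact (A).mul_mem ((A).mul_mem (h.sqT hx) (h.sqT ((T).mul_mem (inv_mem hx) hy))) (inv_mem (h.sqT hy))

theorem Q3.sqS (h : Q3 S U V z u f β) (hs : s ∈ S) :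
    s * s * f * (s * s)⁻¹ = f ∨ s * s * f * (s * s)⁻¹ = z * f := by
  by_cases hc : s ∈ 𝐂(U)
  · exact Or.inl ((h.memA (h.AT (h.sqT ⟨hs, hc⟩))).1 (h.sqT ⟨hs, hc⟩).2)
  obtain ⟨w, hw, e⟩ := h.cf hs
  have e2 : s * s * f * (s * s)⁻¹ = s * w * s⁻¹ * w * f := by
    calc s * s * f * (s * s)⁻¹ = s * (s * f * s⁻¹) * s⁻¹ := by group
      _ = _ := by rw [e, cj_mul, e, ← mul_assoc]
  rw [e2]
  rcases h.memU.1 hw with rfl | rfl | rfl | rfl
  · exact Or.inl (by group)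
  · exact Or.inl (by rw [h.cjz hs, h.z2, one_mul])
  · exact Or.inr (by rw [h.conj_u hs hc, mul_assoc z, h.u2, mul_one])
  · refine Or.inr ?_
    rw [cj_mul, h.cjz hs, h.conj_u hs hc, ← mul_assoc z z, h.z2, one_mul, h.zu, ← mul_assoc u u, h.u2,
      one_mul]

theorem Q3.fixV (h : Q3 S U V z u f β) (hx : x ∈ T) (hA : x ∉ 𝐂(V)) (hv : v ∈ V) (e : x * v * x⁻¹ = v) :
    v ∈ U := by
  refine (h.memV.1 hv).resolve_right ?_
  rintro ⟨w, hw, rfl⟩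
  rw [cj_mul, conj_eq_of_mem_centralizer hx.2 hw, mul_right_inj] at e
  exact hA ((h.memA hx).2 e)

theorem Q3.cmV (h : Q3 S U V z u f β) (hs : s ∈ S) (hv : v ∈ V) :
    s * v * s⁻¹ * v⁻¹ ∈ U := by
  rcases h.memV.1 hv with k | ⟨w, hw, rfl⟩
  · exact U.mul_mem (conj_mem_of_mem_normalizer (h.nU hs) k) (inv_mem k)
  · obtain ⟨w', hw', e⟩ := h.cf hs
    rw [cj_mul, e, show s * w * s⁻¹ * (w' * f) * (w * f)⁻¹ = s * w * s⁻¹ * w' * w⁻¹ by group]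
    exact U.mul_mem (U.mul_mem (conj_mem_of_mem_normalizer (h.nU hs) hw) hw') (inv_mem hw)

theorem Q3.out (h : Q3 S U V z u f β) (hs : s ∈ S) (hc : s ∉ 𝐂(U)) (h2 : s * s ∈ 𝐂(V)) :
    St0 V z s := by
  intro v hv
  have k := h.cmV hs hv
  have e1 : s * (s * v * s⁻¹ * v⁻¹) * s⁻¹ = (s * v * s⁻¹ * v⁻¹)⁻¹ := by
    calc _ = s * s * v * (s * s)⁻¹ * (s * v⁻¹ * s⁻¹) := by group
      _ = _ := by rw [conj_eq_of_mem_centralizer h2 hv]; group
  rw [inv_of_sq (h.sqU k)] at e1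
  rcases h.fix_out hs hc k e1 with e | e
  · exact Or.inl (mul_inv_eq_one.1 e)
  · exact Or.inr (by rw [← e]; group)

theorem Q3.out_c (h : Q3 S U V z u f β) (hs : s ∈ S) (hx : x ∈ T) (hw : w ∈ U) (e : x * f * x⁻¹ = w * f) :
    s * x * s⁻¹ * f * (s * x * s⁻¹)⁻¹ = s * w * s⁻¹ * f := by
  obtain ⟨w', hw', e'⟩ := h.cf (inv_mem hs)
  have c := comm_of_sq (fun _ => h.sqU) hw hw'
  calc _ = s * (x * (s⁻¹ * f * s⁻¹⁻¹) * x⁻¹) * s⁻¹ := by group
    _ = s * (w * (s⁻¹ * f * s⁻¹⁻¹)) * s⁻¹ := by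
      rw [e', cj_mul x, e, conj_eq_of_mem_centralizer hx.2 hw', ← mul_assoc w' w, ← c, mul_assoc w]
    _ = _ := by group

theorem Q3.b_c (h : Q3 S U V z u f β) (e : x * f * x⁻¹ = w * f) :
    β * x * β⁻¹ * f * (β * x * β⁻¹)⁻¹ = β * w * β⁻¹ * f := by
  calc _ = β * (x * (β⁻¹ * (β * f * β⁻¹) * β) * x⁻¹) * β⁻¹ := by rw [h.bf]; group
    _ = β * w * β⁻¹ * (β * f * β⁻¹) := by
      rw [show β⁻¹ * (β * f * β⁻¹) * β = f by group, e]; group
    _ = _ := by rw [h.bf]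

theorem Q3.mul_c (h : Q3 S U V z u f β) (hx : x ∈ T) {w' : G} (hw : w' ∈ U) (e : x * f * x⁻¹ = w * f) (e' : y * f * y⁻¹ = w' * f) :
    x * y * f * (x * y)⁻¹ = w' * w * f := by
  calc _ = x * (y * f * y⁻¹) * x⁻¹ := by group
    _ = _ := by rw [e', cj_mul, e, conj_eq_of_mem_centralizer hx.2 hw, mul_assoc]

theorem Q3.bfix (h : Q3 S U V z u f β) (hx : x ∈ T) (h2 : x * x = 1) (e : β * x * β⁻¹ = x) :
    x = 1 ∨ x = f := by
  obtain ⟨w, hw, e'⟩ := h.cf hx.1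
  have k := h.b_c e'
  rw [e, e', mul_left_inj] at k
  rw [h.bU_fix hw k.symm, one_mul] at e'
  rcases h.memV.1 (h.invA ⟨hx.1, (h.memA hx).2 e'⟩ h2) with k' | ⟨w', hw', rfl⟩
  · exact Or.inl (h.bU_fix k' e)
  · rw [cj_mul, h.bf, mul_left_inj] at e
    exact Or.inr (by rw [h.bU_fix hw' e, one_mul])

theorem Q3.e16 (h : Q3 S U V z u f β) (hx : x ∈ T) (hy : y ∈ T) (x2 : x * x = 1) (y2 : y * y = 1) (c : x * y = y * x)
    (h1 : x ∉ 𝐂(V)) (h2 : y ∉ 𝐂(V)) :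
    x * y ∈ 𝐂(V) := by
  have k : ∀ {a : G}, a ∉ 𝐂(V) → a ∉ U := fun ha hu => ha (h.VA (h.UV hu)).2
  have hy' : y ∈ U ⊔ zpowers x :=
    h.no16 (h.e8_sup hx.2 (k h1) x2) (cent_sup hy.2 (cent_zpowers c)) y2
  obtain ⟨v, hv, rfl⟩ := ((h.mem_sup hx.2 x2).1 hy').resolve_left (k h2)
  rw [c, mul_assoc, x2, mul_one]
  exact (h.VA (h.UV hv)).2

theorem Q3.inv_sub (h : Q3 S U V z u f β) {X : Subgroup G} (hX : X ≤ V) (h1 : T ≤ 𝐍(X)) (h2 : β ∈ 𝐍(X)) :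
    X = ⊥ ∨ X = U ∨ X = V := by
  have hz : ∀ w ∈ X, w ∈ U → w ≠ 1 → U ≤ X := fun w hw hu h0 => by
    have st : ∀ a ∈ X, β * a * β⁻¹ ∈ X := fun a => conj_mem_of_mem_normalizer h2
    have k : z ∈ X := by
      rcases h.memU.1 hu with rfl | rfl | rfl | rfl
      · exact absurd rfl h0
      · exact hw
      · simpa only [h.ru, h.rzu] using st _ (st _ hw)
      · simpa only [h.rzu] using st _ hw
    rw [h.four.eq]
    exact sup_le (zpowers_le.2 k) (zpowers_le.2 (h.rz ▸ st _ k))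
  by_cases hU : X ≤ U
  · by_cases hb : X = ⊥
    · exact Or.inl hb
    obtain ⟨⟨w, hw⟩, h0⟩ := ne_bot_iff_exists_ne_one.1 hb
    exact Or.inr (Or.inl (le_antisymm hU (hz w hw (hU hw) fun e => h0 (Subtype.ext e))))
  obtain ⟨v, hv, hn⟩ := SetLike.not_le_iff_exists.1 hU
  obtain ⟨w, hw, rfl⟩ := (h.memV.1 (hX hv)).resolve_left hn
  obtain ⟨x, hx, e⟩ := h.onto h.zU
  have k := X.mul_mem (conj_mem_of_mem_normalizer (h1 hx) hv) (inv_mem hv)
  rw [cj_mul, e, conj_eq_of_mem_centralizer hx.2 hw, show w * (z * f) * (w * f)⁻¹ = w * z * w⁻¹ by group,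
    h.cjz (h.US hw)] at k
  have hUX := hz z k h.zU h.ne.1
  refine Or.inr (Or.inr (le_antisymm hX fun a ha => ?_))
  rcases h.memV.1 ha with k' | ⟨w', hw', rfl⟩
  · exact hUX k'
  · exact X.mul_mem (hUX hw') (by simpa using X.mul_mem (inv_mem (hUX hw)) hv)

theorem Q3.cardT (h : Q3 S U V z u f β) :
    Nat.card (T : Subgroup G) = 4 * Nat.card (A : Subgroup G) := by
  choose c hc ec using fun x : (T : Subgroup G) => h.cf x.2.1
  let p : (T : Subgroup G) →* U := MonoidHom.mk' (fun x => ⟨c x, hc x⟩) fun x y => Subtype.ext (by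
    have := h.mul_c x.2 (hc y) (ec x) (ec y)
    rw [show (x : G) * y = (x * y : (T : Subgroup G)) from rfl, ec, mul_left_inj,
      comm_of_sq (fun _ => h.sqU) (hc y) (hc x)] at this
    exact this)
  have k1 : p.ker = (A).subgroupOf (T) := by
    ext x
    rw [MonoidHom.mem_ker, mem_subgroupOf, mem_inf, h.memA x.2, ec, Subtype.ext_iff]
    exact ⟨fun e => ⟨x.2.1, by rw [show c x = 1 from e, one_mul]⟩, fun e => mul_eq_right.1 e.2⟩
  have k2 : p.range = ⊤ := MonoidHom.range_eq_top.2 fun w => by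
    obtain ⟨x, hx, e⟩ := h.onto w.2
    exact ⟨⟨x, hx⟩, Subtype.ext (mul_right_cancel ((ec ⟨x, hx⟩).symm.trans e))⟩
  have k3 := p.ker.card_mul_index
  rw [index_ker, k2, card_top, k1, card_subgroupOf h.AT] at k3
  have k4 : Nat.card U = 4 := by
    rw [h.four.eq, card_sp2 h.z2 h.u2 h.zu h.ne.1 h.ne.2.1 h.ne.2.2.1.symm]
  rw [← k3, k4, mul_comm]

theorem Q3.sylA (h : Q3 S U V z u f β) :
    IsSylowIn 2 (A) 𝐂(V) := haveI := Fact.mk Nat.prime_two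
  h.syl.inf_of_le_normalizer le_top (H69.le_normalizer_centralizer h.nV)

end H13.R3
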