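import Mathlib
import Cfsg.Agent.Base
import Cfsg.Agent.Lib.RK3.BAS

/-! Simple groups of 2-rank 3, package BAS2 (see `blueprint/RK3/README.md`). -/

set_option autoImplicit false
set_option linter.unusedSectionVars false
set_option linter.unusedVariables false

namespace H13.R3

open Subgroup H69 H70 Cfsg H22.RK H22.RG
open scoped commutatorElement Pointwise

variable {G : Type*} [Group G] [Finite G] {S U V M : Subgroup G}
  {z u f β l e ρ γ φ y θ t t' x a g s v w : G} {n : ℕ}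

local notation "T" => S ⊓ 𝐂(U)
local notation "A" => S ⊓ 𝐂(V)
local notation "W" => U ⊔ zpowers e
local notation "m" => β * l * β⁻¹
local notation "e₂" => β * e * β⁻¹
local notation "S₀" => S ⊓ centralizer (Singleton.singleton y : Set G)

theorem Q4.mA (h : Q4 S U V z u f β l) :
    m ∈ A := conj_mem_of_mem_normalizer h.bA h.lA

theorem Q4.m2 (h : Q4 S U V z u f β l) :
    m * (m) = u := by rw [← cj_mul, h.l2, h.rz]

theorem Q4.lm2 (h : Q4 S U V z u f β l) :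
    l * (m) * (l * (m)) = z * u := by
  calc _ = l * (m * l) * (m) := by group
    _ = l * l * (m * (m)) := by rw [← h.lm]; group
    _ = _ := by rw [h.l2, h.m2]

theorem Q4.lV (h : Q4 S U V z u f β l) :
    l ∉ V := fun k => h.ne.1 (h.l2.symm.trans (h.e8.sq l k))

theorem Q4.memA0 (h : Q4 S U V z u f β l) :
    a ∈ A0 f β l ↔ ∃ v ∈ V, a = v ∨ a = v * l ∨ a = v * (m) ∨ a = v * (l * (m)) := by
  have cl : ∀ v ∈ V, l * v = v * l := fun v hv => (h.lA.2 v hv).symm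
  have cm : ∀ v ∈ V, m * v = v * (m) := fun v hv => (h.mA.2 v hv).symm
  have zV := h.UV h.zU
  have uV := h.UV h.uU
  have l2 := h.l2
  have m2 := h.m2
  have lm := h.lm
  refine ⟨fun k => ?_, ?_⟩
  · have key : ∀ b ∈ ({f, l, m} : Set G), ∀ a : G,
        (∃ v ∈ V, a = v ∨ a = v * l ∨ a = v * (m) ∨ a = v * (l * (m))) →
        ∃ v ∈ V, a * b = v ∨ a * b = v * l ∨ a * b = v * (m) ∨ a * b = v * (l * (m)) := by
      generalize m = n at *
      rintro b (rfl | rfl | rfl) a ⟨v, hv, rfl | rfl | rfl | rfl⟩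
      · exact ⟨_, V.mul_mem hv h.fV, Or.inl rfl⟩
      · exact ⟨_, V.mul_mem hv h.fV, Or.inr (Or.inl (by rw [mul_assoc, cl _ h.fV, mul_assoc]))⟩
      · exact ⟨_, V.mul_mem hv h.fV, Or.inr (Or.inr (Or.inl (by rw [mul_assoc, cm _ h.fV, mul_assoc])))⟩
      · exact ⟨_, V.mul_mem hv h.fV, Or.inr (Or.inr (Or.inr (by
          rw [mul_assoc, mul_assoc, cm _ h.fV, ← mul_assoc l, cl _ h.fV, mul_assoc, mul_assoc])))⟩
      · exact ⟨_, hv, Or.inr (Or.inl rfl)⟩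
      · exact ⟨_, V.mul_mem hv zV, Or.inl (by rw [mul_assoc, l2])⟩
      · exact ⟨_, hv, Or.inr (Or.inr (Or.inr (by rw [mul_assoc, lm])))⟩
      · exact ⟨_, V.mul_mem hv zV, Or.inr (Or.inr (Or.inl (by
          rw [mul_assoc, mul_assoc, ← lm, ← mul_assoc b b, l2, mul_assoc])))⟩
      · exact ⟨_, hv, Or.inr (Or.inr (Or.inl rfl))⟩
      · exact ⟨_, hv, Or.inr (Or.inr (Or.inr (mul_assoc _ _ _)))⟩
      · exact ⟨_, V.mul_mem hv uV, Or.inl (by rw [mul_assoc, m2])⟩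
      · exact ⟨_, V.mul_mem hv uV, Or.inr (Or.inl (by
          rw [mul_assoc, mul_assoc, m2, cl _ uV, mul_assoc]))⟩
    have k' : a ∈ Submonoid.closure ({f, l, m} : Set G) := by
      rw [← closure_toSubmonoid_of_finite]; exact k
    induction k' using Submonoid.closure_induction_right with
    | one => exact ⟨1, one_mem _, Or.inl rfl⟩
    | mul_right x hx y hy ih =>
      exact key y hy x (ih (by rw [← closure_toSubmonoid_of_finite] at hx; exact hx))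
  · have k1 : f ∈ A0 f β l := subset_closure (by simp)
    have k2 : l ∈ A0 f β l := subset_closure (by simp)
    have k3 : m ∈ A0 f β l := subset_closure (by simp)
    have kU : U ≤ A0 f β l := by
      rw [h.four.eq]
      exact sup_le (zpowers_le.2 (l2 ▸ mul_mem k2 k2)) (zpowers_le.2 (m2 ▸ mul_mem k3 k3))
    have kV : V ≤ A0 f β l := fun v hv => by
      rcases h.memV.1 hv with k | ⟨w, hw, rfl⟩
      exacts [kU k, mul_mem (kU hw) k1]
    rintro ⟨v, hv, rfl | rfl | rfl | rfl⟩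
    exacts [kV hv, mul_mem (kV hv) k2, mul_mem (kV hv) k3, mul_mem (kV hv) (mul_mem k2 k3)]

theorem Q4.A0_le (h : Q4 S U V z u f β l) :
    A0 f β l ≤ A := (closure_le _).2 (by
    rintro _ (rfl | rfl | rfl)
    exacts [h.VA h.fV, h.lA, h.mA])

theorem Q4.V_le (h : Q4 S U V z u f β l) :
    V ≤ A0 f β l := fun v hv => h.memA0.2 ⟨v, hv, Or.inl rfl⟩

theorem Q4.l_mem (h : Q4 S U V z u f β l) :
    l ∈ A0 f β l := subset_closure (by simp)

theorem Q4.m_mem (h : Q4 S U V z u f β l) :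
    m ∈ A0 f β l := subset_closure (by simp)

theorem Q4.A0_comm (h : Q4 S U V z u f β l) :
    A0 f β l ≤ 𝐂(A0 f β l) := by
  have k : ∀ b ∈ ({f, l, m} : Set G), b ∈ 𝐂(A0 f β l) := by
    intro b hb
    rw [A0, centralizer_closure]
    rcases hb with rfl | rfl | rfl <;> rintro _ (rfl | rfl | rfl)
    exacts [rfl, (h.lA.2 _ h.fV).symm, (h.mA.2 _ h.fV).symm, h.lA.2 _ h.fV, rfl, h.lm.symm,
      h.mA.2 _ h.fV, h.lm, rfl]
  exact (closure_le _).2 k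

theorem BAS2.mT (h : Q4 S U V z u f β l) (hx : x ∈ T) : x * (m) * x⁻¹ * (m)⁻¹ ∈ V := by
  have := conj_mem_of_mem_normalizer h.bV (h.lS _ (conj_mem_of_mem_normalizer' h.toRot.nT hx).1)
  rwa [show β * (β⁻¹ * x * β * l * (β⁻¹ * x * β)⁻¹ * l⁻¹) * β⁻¹ = x * (m) * x⁻¹ * (m)⁻¹ by group] at this

theorem Q4.nA0 (h : Q4 S U V z u f β l) :
    S ≤ 𝐍(A0 f β l) := fun s hs => nrm_of fun a ha => by
  have k1 : s * l * s⁻¹ ∈ A0 f β l := by simpa using mul_mem (h.V_le (h.lS s hs)) h.l_mem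
  have k2 : s * (m) * s⁻¹ ∈ A0 f β l := by
    by_cases hc : s ∈ 𝐂(U)
    · simpa only [inv_mul_cancel_right] using mul_mem (h.V_le (BAS2.mT h ⟨hs, hc⟩)) h.m_mem
    · simpa only [inv_mul_cancel_right] using mul_mem (h.V_le (h.sm s hs hc)) (mul_mem h.l_mem h.m_mem)
  obtain ⟨v, hv, e⟩ := h.memA0.1 ha
  have k3 := h.V_le (conj_mem_of_mem_normalizer (h.nV hs) hv)
  rcases e with rfl | rfl | rfl | rfl
  · exact k3
  · rw [cj_mul]; exact mul_mem k3 k1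
  · rw [cj_mul s v]; exact mul_mem k3 k2
  · rw [cj_mul s v, cj_mul s l]; exact mul_mem k3 (mul_mem k1 k2)

theorem Q4.bA0 (h : Q4 S U V z u f β l) :
    β ∈ 𝐍(A0 f β l) := nrm_of fun a ha => by
  have k2 : β * (m) * β⁻¹ ∈ A0 f β l := by
    rw [eq_inv_of_mul_eq_one_right h.nm]; exact inv_mem (mul_mem h.l_mem h.m_mem)
  obtain ⟨v, hv, e⟩ := h.memA0.1 ha
  have k3 := h.V_le (conj_mem_of_mem_normalizer h.bV hv)
  rcases e with rfl | rfl | rfl | rfl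
  · exact k3
  · rw [cj_mul]; exact mul_mem k3 h.m_mem
  · rw [cj_mul β v]; exact mul_mem k3 k2
  · rw [cj_mul β v, cj_mul β l]; exact mul_mem k3 (mul_mem h.m_mem k2)

theorem Q4.T_mod (h : Q4 S U V z u f β l) (hx : x ∈ T) (ha : a ∈ A0 f β l) :
    x * a * x⁻¹ * a⁻¹ ∈ V := by
  have st : ∀ a b : G, a ∈ S → x * a * x⁻¹ * a⁻¹ ∈ V → x * b * x⁻¹ * b⁻¹ ∈ V →
      x * (a * b) * x⁻¹ * (a * b)⁻¹ ∈ V := fun a b ha h1 h2 => by
    rw [show x * (a * b) * x⁻¹ * (a * b)⁻¹ = x * a * x⁻¹ * a⁻¹ * (a * (x * b * x⁻¹ * b⁻¹) * a⁻¹) by group]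
    exact mul_mem h1 (conj_mem_of_mem_normalizer (h.nV ha) h2)
  obtain ⟨v, hv, e⟩ := h.memA0.1 ha
  have k3 := h.UV (h.cmV hx.1 hv)
  rcases e with rfl | rfl | rfl | rfl
  exacts [k3, st _ _ (h.VS hv) k3 (h.lS x hx.1), st _ _ (h.VS hv) k3 (BAS2.mT h hx),
    st _ _ (h.VS hv) k3 (st _ _ h.lA.1 (h.lS x hx.1) (BAS2.mT h hx))]

theorem Q4.inv_mod (h : Q4 S U V z u f β l) (he : e ∈ T) (hA : e ∉ 𝐂(V)) (h2 : e * e = 1) (ha : a ∈ A0 f β l) :
    e * a * e⁻¹ * a⁻¹ ∈ U := by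
  have k := h.T_mod he ha
  refine h.fixV he hA k ?_
  calc _ = (e * e * a * (e * e)⁻¹) * (e * a⁻¹ * e⁻¹) := by group
    _ = (e * a * e⁻¹ * a⁻¹)⁻¹ := by rw [h2]; group
    _ = _ := inv_of_sq (h.e8.sq _ k)

theorem Q4.A0_nW (h : Q4 S U V z u f β l) (he : e ∈ T) (hA : e ∉ 𝐂(V)) (h2 : e * e = 1) :
    A0 f β l ≤ 𝐍(W) := fun a ha => nrm_of fun w hw => by
  have c : ∀ v ∈ U, a * v * a⁻¹ = v := fun v hv => conj_eq_of_mem_centralizer (h.AT (h.A0_le ha)).2 hv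
  rcases (h.mem_sup he.2 h2).1 hw with k | ⟨v, hv, rfl⟩
  · rw [c w k]; exact hw
  · refine (h.mem_sup he.2 h2).2 (Or.inr ⟨_, U.mul_mem hv (inv_mem (h.inv_mod he hA h2 ha)), ?_⟩)
    rw [cj_mul, c v hv]; group

theorem Q4.sqA0 (h : Q4 S U V z u f β l) (ha : a ∈ A0 f β l) :
    a * a ∈ U := by
  have k : ∀ v ∈ V, ∀ b ∈ A, v * b * (v * b) = b * b := fun v hv b hb => by
    calc _ = v * (b * v) * b := by group
      _ = v * v * (b * b) := by rw [← hb.2 v hv]; group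
      _ = _ := by rw [h.e8.sq v hv, one_mul]
  obtain ⟨v, hv, rfl | rfl | rfl | rfl⟩ := h.memA0.1 ha
  · rw [h.e8.sq _ hv]; exact one_mem _
  · rw [k v hv l h.lA, h.l2]; exact h.zU
  · rw [k v hv _ h.mA, h.m2]; exact h.uU
  · rw [k v hv _ (mul_mem h.lA h.mA), h.lm2]; exact mul_mem h.zU h.uU

theorem Q4.sq_z (h : Q4 S U V z u f β l) (ha : a ∈ A0 f β l) (h2 : a * a = z) :
    a * l⁻¹ ∈ V := by
  refine h.invA (h.A0_le (mul_mem ha (inv_mem h.l_mem))) ?_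
  calc _ = a * (l⁻¹ * a) * l⁻¹ := by group
    _ = a * a * (l * l)⁻¹ := by rw [h.A0_comm ha _ (inv_mem h.l_mem)]; group
    _ = 1 := by rw [h2, h.l2, mul_inv_cancel]

theorem Q4.sq_l (h : Q4 S U V z u f β l) (hx : x * l⁻¹ ∈ V) :
    x ∈ A0 f β l ∧ x * x = z ∧ x⁻¹ = z * x ∧ x ≠ x⁻¹ := by
  obtain ⟨v, hv, rfl⟩ : ∃ v ∈ V, x = v * l := ⟨_, hx, by group⟩
  have k : v * l * (v * l) = z := by
    calc _ = v * (l * v) * l := by group
      _ = v * v * (l * l) := by rw [← h.lA.2 v hv]; group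
      _ = _ := by rw [h.e8.sq v hv, one_mul, h.l2]
  refine ⟨mul_mem (h.V_le hv) h.l_mem, k, inv_eq_of_mul_eq_one_left (by rw [mul_assoc, k, h.z2]), fun e => ?_⟩
  exact h.ne.1 (k.symm.trans (mul_eq_one_iff_eq_inv.2 e))

theorem Q4.bfix0 (h : Q4 S U V z u f β l) (ha : a ∈ A0 f β l) (e : β * a * β⁻¹ = a) :
    a = 1 ∨ a = f := by
  have k := h.bU_fix (h.sqA0 ha) (by rw [cj_mul, e])
  exact h.bfix (h.AT (h.A0_le ha)) k e

theorem Q4.card0 (h : Q4 S U V z u f β l) :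
    Nat.card (A0 f β l) = 32 := by
  have n1 : l ∈ 𝐍(V) := h.nV h.lA.1
  have c1 := H45.NE8.card_sup_zp n1 (h.l2 ▸ h.UV h.zU) h.lV
  have n2 : m ∈ 𝐍(V ⊔ zpowers l) := centralizer_le_normalizer _ (cent_sup h.mA.2 (cent_zpowers h.lm))
  have q2 : m * (m) ∈ V ⊔ zpowers l := h.m2 ▸ mem_sup_left (h.UV h.uU)
  have c2 := H45.NE8.card_sup_zp n2 q2 fun k => by
    rcases (H45.NE8.mem_sup_zp n1 (h.l2 ▸ h.UV h.zU)).1 k with k | k
    · exact h.ne.2.1 (h.m2.symm.trans (h.e8.sq _ k))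
    · exact h.ne.2.2.1 ((h.sq_l k).2.1.symm.trans h.m2)
  have e : A0 f β l = V ⊔ zpowers l ⊔ zpowers (m) := le_antisymm ((closure_le _).2 (by
    rintro _ (rfl | rfl | rfl)
    exacts [mem_sup_left (mem_sup_left h.fV), mem_sup_left (mem_sup_right (mem_zpowers _)),
      mem_sup_right (mem_zpowers _)]))
    (sup_le (sup_le h.V_le (zpowers_le.2 h.l_mem)) (zpowers_le.2 h.m_mem))
  rw [e, c2, c1, h.e8.card]

theorem Q4.on_conj (h : Q4 S U V z u f β l) (he : e ∈ T) (ho : On U (A0 f β l) e) (hv : v ∈ U) :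
    ∃ a ∈ A0 f β l, a * e * a⁻¹ = v * e := by
  obtain ⟨a, ha, k⟩ := ho v hv
  refine ⟨a⁻¹, inv_mem ha, ?_⟩
  calc _ = a⁻¹ * (e * a * e⁻¹) * e := by group
    _ = a⁻¹ * v * a⁻¹⁻¹ * e := by rw [k]; group
    _ = _ := by rw [conj_eq_of_mem_centralizer (inv_mem (h.AT (h.A0_le ha)).2) hv]

end H13.R3
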