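import Mathlib
import Cfsg.Agent.Base
import Cfsg.Agent.Lib.RK3.Defs
import Cfsg.Agent.Lib.Rk3G.VT

/-! Simple groups of 2-rank 3: passing between the two descriptions of the configuration. -/

set_option autoImplicit false
set_option linter.unusedSectionVars false
set_option linter.unusedVariables false

namespace H13.R3

open Subgroup H69 H70 Cfsg H22.RK H22.RG

variable {G : Type*} [Group G] [Finite G] {S U V : Subgroup G} {z u f β : G}

theorem P1.toPD (h : P1 S U z u) (r : Rot S U z u β) : PD S U z u β :=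
  ⟨h.rk, h.syl.isP, h.four, h.US, h.nU, h.cz, h.oz, h.oT, r.three, r.nT, r.rz, r.ru, r.inv⟩

theorem Q3.toPD (h : Q3 S U V z u f β) : PD S U z u β := h.toP1.toPD h.toRot

theorem Q3.toVD (h : Q3 S U V z u f β) : VD S U V z u β f :=
  ⟨h.toPD, h.e8, h.UV, h.VS, h.nV, h.fV, h.fU, h.bf⟩

theorem q3_of_vd (h : VD S U V z u β f) (hS : IsSylowIn 2 S ⊤) (F : H45.NE8.Fu G) (nsc : NSC S) :
    Q3 S U V z u f β :=
  { fu := F, syl := hS, nsc := nsc, rk := h.rk, four := h.four, US := h.le, nU := h.nrm, cz := h.zc,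
    oz := h.uniq, oT := h.om, three := h.three, nT := h.nT, rz := h.rz, ru := h.ru, inv := h.inv,
    e8 := h.e8, UV := h.sub, VS := h.leV, nV := h.nrmV, fV := h.fV, fU := h.fU, bf := h.bf,
    cube := h.toPD.cube }

theorem Q3.exists_q4 (h : Q3 S U V z u f β) (hn : ¬ S ⊓ 𝐂(V) ≤ V) : ∃ l, Q4 S U V z u f β l := by
  obtain ⟨l, h1, h2, h3, h4, h5, h6⟩ := h.toVD.a0 hn
  exact ⟨l, { toQ3 := h, lA := h1, l2 := h2, lS := h3, lm := h4, nm := h5, sm := h6 }⟩

end H13.R3
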