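import Mathlib
import Cfsg.Agent.Base
import Cfsg.Agent.Lib.RK3.BAS2

/-! Simple groups of 2-rank 3, package LD (see `blueprint/RK3/README.md`). -/

set_option autoImplicit false
set_option linter.unusedSectionVars false
set_option linter.unusedVariables false

namespace H13.R3

open Subgroup H69 H70 Cfsg H22.RK H22.RG
open scoped commutatorElement Pointwise

variable {G : Type*} [Group G] [Finite G] {S U V M : Subgroup G}
  {z u f β l e ρ γ φ y θ t t' x a g s v w : G} {n : ℕ}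

local notation "T" => S ⊓ 𝐂(U)
local notation "A" => S ⊓ 𝐂(V)
local notation "W" => U ⊔ zpowers e
local notation "m" => β * l * β⁻¹
local notation "e₂" => β * e * β⁻¹
local notation "S₀" => S ⊓ centralizer (Singleton.singleton y : Set G)

namespace LD

theorem tl {a b c : G} (h : a * b = c) : ∀ t, a * (b * t) = c * t := fun t => by rw [← mul_assoc, h]

theorem cU (hw : w ∈ U) (hy : y ∈ T) : y * w = w * y := (mem_centralizer_iff.1 hy.2 w hw).symm

theorem cT (hy : y ∈ T) (hw : w ∈ U) : y * w * y⁻¹ = w := cj_of_comm (cU hw hy)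

theorem nV (h : Q3 S U V z u f β) (hx : x ∈ T) (e : x * f * x⁻¹ = w * f) (n : w ≠ 1) : x ∉ 𝐂(V) :=
  fun c => n (by rw [(h.memA hx).1 c] at e; simpa using e)

theorem no2 (h : Q3 S U V z u f β) (hx : x ∈ T) (hy : y ∈ T) (x2 : x * x = 1) (y2 : y * y = 1)
    (c : x * y = y * x) {w' : G} (hw' : w' ∈ U) (e : x * f * x⁻¹ = w * f) (e' : y * f * y⁻¹ = w' * f)
    (n : w ≠ 1) (n' : w' ≠ 1) (n'' : w' * w ≠ 1) : False :=
  nV h (mul_mem hx hy) (h.mul_c hx hw' e e') n'' (h.e16 hx hy x2 y2 c (nV h hx e n) (nV h hy e' n'))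

theorem iota (h : Q3 S U V z u f β) {j : G} (hy : y ∈ T) (yf : y * f * y⁻¹ = u * f) (hj : j ∈ A)
    (j2 : j * j = 1) (j1 : j ≠ 1) (e : β * j * β⁻¹ = y * j * y⁻¹) : j = z * u * f := by
  have p := h.toP1
  obtain ⟨z1, u1, -, zu1⟩ := p.ne
  rcases h.memV.1 (h.invA hj j2) with c | ⟨w, hw, rfl⟩
  · exact absurd (h.bU_fix c (e.trans (cT hy c))) j1
  · rw [cj_mul, cj_mul, h.bf, yf, cT hy hw, ← mul_assoc, mul_left_inj] at e
    rcases p.memU.1 hw with c | c | c | c <;> rw [c] at e ⊢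
    · exact absurd (by simpa using e.symm) u1
    · exact absurd (by simpa [h.rz] using e) z1
    · exact absurd (by rw [← h.ru, e, p.u2]) zu1

theorem sum3 (h : Q3 S U V z u f β) (hw : w ∈ U) : β⁻¹ * w * β * (β * w * β⁻¹) = w := by
  have p := h.toP1
  have i1 : β⁻¹ * z * β = z * u := by rw [← h.rzu]; rw [h.rzu]; nth_rewrite 1 [← h.rzu]; group
  have i2 : β⁻¹ * u * β = z := by rw [← h.rz]; group
  have i3 : β⁻¹ * (z * u) * β = u := by rw [← h.ru]; group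
  rcases p.memU.1 hw with c | c | c | c <;> rw [c]
  · group
  · rw [i1, h.rz, mul_assoc, p.u2, mul_one]
  · rw [i2, h.ru, ← mul_assoc, p.z2, one_mul]
  · rw [i3, h.rzu, p.zu]

/-- the product of the three conjugates is not an involution -/
theorem nd (h : Q4 S U V z u f β l) (rS : ρ ∈ S) (rU : ρ ∉ 𝐂(U)) (rl : ρ * l * ρ⁻¹ = l) (hx : x ∈ T)
    (xf : x * f * x⁻¹ = z * f) (x2 : x * x = 1) (rx : ρ * x * ρ⁻¹ = x)
    (d : x * (β⁻¹ * x * β) * (β * x * β⁻¹) = z * u * f) : False := by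
  have q := h.toQ3
  have p := q.toP1
  obtain ⟨z1, u1, zu, zu1⟩ := p.ne
  have zU := p.zU
  have uU := p.uU
  have fT : f ∈ T := q.AT (q.VA q.fV)
  have lT : l ∈ T := q.AT h.lA
  have kT : m ∈ T := q.AT h.mA
  have h2 : β * x * β⁻¹ ∈ T := (mem_normalizer_iff.1 q.nT x).1 hx
  have h3 : β⁻¹ * x * β ∈ T := (mem_normalizer_iff''.1 q.nT x).1 hx
  have bU : ∀ w ∈ U, β * w * β⁻¹ ∈ U := fun w hw => (mem_normalizer_iff.1 q.bU w).1 hw
  have bU' : ∀ w ∈ U, β⁻¹ * w * β ∈ U := fun w hw => (mem_normalizer_iff''.1 q.bU w).1 hw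
  have xV := nV q hx xf z1
  have f2 : β * x * β⁻¹ * f * (β * x * β⁻¹)⁻¹ = u * f := by rw [q.b_c xf, q.rz]
  have xi : x⁻¹ = x := inv_eq_of_mul_eq_one_right x2
  have s2 := sq_cj β x2
  have lf : l * f = f * l := (mem_centralizer_iff.1 h.lA.2 f q.fV).symm
  have kf : m * f = f * (m) := (mem_centralizer_iff.1 h.mA.2 f q.fV).symm
  -- the commutator of `x` and its conjugate
  have c32 : β⁻¹ * x * β * (β * x * β⁻¹) * (β⁻¹ * x * β * (β * x * β⁻¹)) = z := by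
    have : β⁻¹ * x * β * (β * x * β⁻¹) = x * (z * u * f) := by rw [← d, mul_assoc x, tl x2, one_mul]
    rw [this]
    refine mul_right_cancel (b := ρ) ?_
    simp only [mul_assoc, tl (cU zU hx), tl (cU uU hx), tl (cU zU fT), tl (cU uU fT), tl p.zu.symm, tl p.z2,
      tl p.u2, tl (mul_inv_eq_iff_eq_mul.1 xf), tl x2, tl q.f2, one_mul]
  have c12 : x * (β * x * β⁻¹) = z * u * (β * x * β⁻¹) * x := by
    have e1 : β * (β * x * β⁻¹ * x * (β * x * β⁻¹ * x)) * β⁻¹ = β * (z * u) * β⁻¹ := by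
      rw [q.rzu, ← c32, cj_mul, cj_mul, q.b3 hx]
    have e2 : β * x * β⁻¹ * x * (β * x * β⁻¹ * x) = z * u := mul_left_cancel (mul_right_cancel e1)
    have e3 : (β * x * β⁻¹ * x)⁻¹ = x * (β * x * β⁻¹) := by
      rw [mul_inv_rev, xi, inv_eq_of_mul_eq_one_right s2]
    rw [← e3, inv_eq_iff_mul_eq_one, mul_assoc (z * u), ← mul_assoc,
      cU (mul_mem zU uU) (mul_mem h2 hx), mul_assoc (z * u), e2, p.sqU (mul_mem zU uU)]
  -- the action on `l` and `m`
  obtain ⟨α, hα, xl⟩ : ∃ α ∈ U, x * l * x⁻¹ = α * l := ⟨_, h.inv_mod hx xV x2 h.l_mem, by group⟩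
  obtain ⟨b, hb, xk⟩ : ∃ b ∈ U, x * (m) * x⁻¹ = b * (m) := ⟨_, h.inv_mod hx xV x2 h.m_mem, by group⟩
  have k2 : β * x * β⁻¹ * (m) * (β * x * β⁻¹)⁻¹ = β * α * β⁻¹ * (m) := by
    rw [← cj_mul β α, ← xl]; group
  have l3 : β⁻¹ * x * β * l * (β⁻¹ * x * β)⁻¹ = β⁻¹ * b * β * l := by
    calc _ = β⁻¹ * (x * (m) * x⁻¹) * β := by group
      _ = _ := by rw [xk]; group
  have l2 : β * x * β⁻¹ * l * (β * x * β⁻¹)⁻¹ = β * (α * b) * β⁻¹ * l := by
    have n1 : β * (m) * β⁻¹ = (l * (m))⁻¹ := eq_inv_of_mul_eq_one_right h.nm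
    have n2 : β * (l * (m))⁻¹ * β⁻¹ = l := by rw [← n1, q.b3 kT]; group
    have n3 : x * (l * (m))⁻¹ * x⁻¹ = α * b * (l * (m))⁻¹ := by
      have : x * (l * (m)) * x⁻¹ = l * (m) * (α * b) := by
        rw [cj_mul, xl, xk, cU (mul_mem hα hb) (mul_mem lT kT), mul_assoc α, ← mul_assoc l, cU hb lT]; group
      rw [← inv_eq_of_mul_eq_one_right (p.sqU (mul_mem hα hb)), ← mul_inv_rev, ← this]; group
    calc _ = β * x * β⁻¹ * (β * (l * (m))⁻¹ * β⁻¹) * (β * x * β⁻¹)⁻¹ := by rw [n2]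
      _ = β * (x * (l * (m))⁻¹ * x⁻¹) * β⁻¹ := by group
      _ = _ := by rw [n3, cj_mul, n2]
  have E : b * (α * (β * α * β⁻¹)) = 1 := by
    have dl : z * u * f * l * (z * u * f)⁻¹ = l :=
      cj_of_comm (mem_centralizer_iff.1 h.lA.2 _ (mul_mem (q.UV (mul_mem zU uU)) q.fV))
    have c2 := bU _ (mul_mem hα hb)
    have : β * (α * b) * β⁻¹ * (β⁻¹ * b * β) * α * l = 1 * l := by
      rw [one_mul]
      nth_rewrite 2 [← dl]
      rw [← d]
      calc _ = x * (β⁻¹ * x * β * (β * (α * b) * β⁻¹) * (β⁻¹ * x * β)⁻¹ *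
            (β⁻¹ * x * β * l * (β⁻¹ * x * β)⁻¹)) * x⁻¹ := by
            rw [cT h3 c2, l3, cj_mul x, cj_mul x _ l, cT hx c2, cT hx (bU' _ hb), xl]; group
        _ = x * (β⁻¹ * x * β * (β * (α * b) * β⁻¹ * l) * (β⁻¹ * x * β)⁻¹) * x⁻¹ := by group
        _ = _ := by rw [← l2]; group
    rw [mul_left_inj, cj_mul, mul_assoc (β * α * β⁻¹), cU (bU' _ hb) (p.UT (bU _ hb)), sum3 q hb] at this
    rw [← mul_assoc b, cU (bU _ hα) (p.UT (mul_mem hb hα)), ← mul_assoc, this]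
  have ra : ρ * α * ρ⁻¹ = α := by
    have : α = x * l * x⁻¹ * l⁻¹ := by rw [xl]; group
    rw [this]
    calc _ = ρ * x * ρ⁻¹ * (ρ * l * ρ⁻¹) * (ρ * x * ρ⁻¹)⁻¹ * (ρ * l * ρ⁻¹)⁻¹ := by group
      _ = _ := by rw [rx, rl]
  have l2' := h.l2
  have m2 := h.m2
  have lm := h.lm
  have fl : l * f * l⁻¹ = 1 * f := by rw [one_mul]; exact cj_of_comm lf
  have fk : m * f * (m)⁻¹ = 1 * f := by rw [one_mul]; exact cj_of_comm kf
  have ff : f * f * f⁻¹ = 1 * f := by group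
  generalize β * l * β⁻¹ = k at *
  rcases p.fix_out rS rU hα ra with c | c
  · have c' : b = 1 := by simpa [c] using E
    rw [c, c'] at l2
    rw [c] at xl k2
    rw [c'] at xk
    simp only [mul_one, mul_inv_cancel, one_mul, mul_inv_eq_iff_eq_mul] at l2 xl k2 xk
    have a1 := q.mul_c (mul_mem hx fT) (one_mem U) (q.mul_c hx (one_mem U) xf ff) fl
    have a2 := q.mul_c (mul_mem h2 fT) (one_mem U) (q.mul_c h2 (one_mem U) f2 ff) fk
    simp only [one_mul] at a1 a2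
    refine no2 q (mul_mem (mul_mem hx fT) lT) (mul_mem (mul_mem h2 fT) kT) ?_ ?_ ?_ uU a1 a2 z1 u1
      (p.zu ▸ zu1) <;>
    · generalize β * x * β⁻¹ = y at *
      refine mul_right_cancel (b := ρ) ?_
      simp only [mul_assoc, tl (cU zU hx), tl (cU uU hx), tl (cU zU fT), tl (cU uU fT), tl p.zu.symm, tl p.z2,
        tl p.u2, tl (mul_inv_eq_iff_eq_mul.1 xf), tl x2, tl q.f2, one_mul, tl (cU zU h2), tl (cU uU h2),
        tl (cU zU lT), tl (cU uU lT), tl (cU zU kT), tl (cU uU kT), tl (mul_inv_eq_iff_eq_mul.1 f2), tl s2,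
        tl c12, tl l2, tl xl, tl k2, tl xk, tl lf, tl kf, tl lm.symm, tl l2', tl m2]
  · have c' : b = z * u := by
      rw [c, q.rz] at E
      rw [eq_inv_of_mul_eq_one_left E, inv_eq_of_mul_eq_one_right (p.sqU (mul_mem zU uU))]
    rw [c, q.rz] at k2
    rw [c'] at xk
    have a2 := q.mul_c h2 (one_mem U) f2 fk
    rw [one_mul] at a2
    refine no2 q hx (mul_mem h2 kT) x2 ?_ ?_ uU xf a2 z1 u1 (p.zu ▸ zu1) <;>
    · generalize β * x * β⁻¹ = y at *
      refine mul_right_cancel (b := ρ) ?_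
      simp only [mul_assoc, tl (cU zU hx), tl (cU uU hx), tl p.zu.symm, tl p.z2,
        tl p.u2, tl x2, one_mul, tl (cU zU h2), tl (cU uU h2),
        tl (cU zU kT), tl (cU uU kT), tl s2, tl c12, tl (mul_inv_eq_iff_eq_mul.1 k2),
        tl (mul_inv_eq_iff_eq_mul.1 xk), tl m2]

end LD

open LD in
theorem Q4.ld (h : Q4 S U V z u f β l) (rS : ρ ∈ S) (rU : ρ ∉ 𝐂(U)) (r2 : ρ * ρ = 1)
    (rb : ρ * β * ρ⁻¹ = β⁻¹) (rf : ρ * f * ρ⁻¹ = f) (rl : ρ * l * ρ⁻¹ = l) (hx : x ∈ T)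
    (xf : x * f * x⁻¹ = z * f) (x2 : x * x = 1) (rx : ρ * x * ρ⁻¹ = x) :
    IsConj ρ (ρ * f) ∧ IsConj (ρ * x) (ρ * x * f * u) ∧ (∃ y ∈ T, y * x * y⁻¹ * x⁻¹ ∉ U) ∧
      x * (β⁻¹ * x * β) * (β * x * β⁻¹) * (x * (β⁻¹ * x * β) * (β * x * β⁻¹)) ∉ U := by
  have q := h.toQ3
  have p := q.toP1
  obtain ⟨z1, u1, zu, zu1⟩ := p.ne
  have zU := p.zU
  have uU := p.uU
  have fT : f ∈ T := q.AT (q.VA q.fV)
  have nd' := nd h rS rU rl hx xf x2 rx
  have h2 : β * x * β⁻¹ ∈ T := (mem_normalizer_iff.1 q.nT x).1 hx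
  have h3 : β⁻¹ * x * β ∈ T := (mem_normalizer_iff''.1 q.nT x).1 hx
  have f2 : β * x * β⁻¹ * f * (β * x * β⁻¹)⁻¹ = u * f := by rw [q.b_c xf, q.rz]
  have f3 : β⁻¹ * x * β * f * (β⁻¹ * x * β)⁻¹ = z * u * f := by rw [← q.b3 hx, q.b_c f2, q.ru]
  have s2 := sq_cj β x2
  have s3 : β⁻¹ * x * β * (β⁻¹ * x * β) = 1 := by simpa using sq_cj β⁻¹ x2
  have b2 := q.b3 hx
  have b3 : β * (β⁻¹ * x * β) * β⁻¹ = x := by group
  have r23 : ρ * (β * x * β⁻¹) * ρ⁻¹ = β⁻¹ * x * β := by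
    calc _ = ρ * β * ρ⁻¹ * (ρ * x * ρ⁻¹) * (ρ * β * ρ⁻¹)⁻¹ := by group
      _ = _ := by rw [rb, rx, inv_inv]
  generalize β⁻¹ * x * β = c at *
  generalize hb : β * x * β⁻¹ = b at h2 f2 s2 b2 r23 nd' ⊢
  have ri : ρ⁻¹ = ρ := inv_eq_of_mul_eq_one_right r2
  have bi : b⁻¹ = b := inv_eq_of_mul_eq_one_right s2
  have dT : x * c * b ∈ T := mul_mem (mul_mem hx h3) h2
  have dA : x * c * b ∈ A := by
    refine ⟨dT.1, (q.memA dT).2 ?_⟩
    rw [q.mul_c (mul_mem hx h3) uU (q.mul_c hx (mul_mem zU uU) xf f3) f2, ← mul_assoc u, ← mul_assoc u,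
      ← p.zu, mul_assoc z, p.u2, mul_one, p.z2, one_mul]
  have db : β * (x * c * b) * β⁻¹ = b * (x * c * b) * b⁻¹ := by rw [cj_mul, cj_mul, hb, b2, b3]; group
  have io : ∀ i : ℕ, (x * c * b) ^ i * (x * c * b) ^ i = 1 → (x * c * b) ^ i ≠ 1 →
      (x * c * b) ^ i = z * u * f := fun i e1 e2 =>
    iota q h2 f2 (pow_mem dA i) e1 e2 (by rw [← conj_pow, ← conj_pow, db])
  have d2 : x * c * b * (x * c * b) ≠ 1 := fun e => by
    by_cases d1 : x * c * b = 1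
    · have e1 : c * b = x := by rw [mul_assoc] at d1; rw [eq_inv_of_mul_eq_one_right d1, inv_eq_of_mul_eq_one_right x2]
      refine no2 q h3 h2 s3 s2 ?_ uU f3 f2 zu1 u1 ?_
      · rw [← inv_eq_of_mul_eq_one_right (e1 ▸ x2 : c * b * (c * b) = 1), mul_inv_rev, bi,
          inv_eq_of_mul_eq_one_right s3]
      · rwa [← mul_assoc, ← p.zu, mul_assoc, p.u2, mul_one]
    · exact nd' (by simpa using io 1 (by simpa using e) (by simpa using d1))
  have c4 : x * c * b * (x * c * b) ∉ U := fun e => by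
    have := io 2 (by rw [pow_two]; exact p.sqU e) (by rwa [pow_two])
    rw [pow_two] at this
    rw [this] at e
    exact q.fU ((U.mul_mem_cancel_left (mul_mem zU uU)).1 e)
  obtain ⟨j, i, ji, jj⟩ : ∃ j, ∃ i : ℕ, j = (x * c * b) ^ i ∧ j * j = z * u * f := by
    obtain ⟨k, hk⟩ := p.syl.isP ⟨_, dT.1⟩
    have hk' : (x * c * b) ^ 2 ^ k = 1 := congrArg Subtype.val hk
    clear hk
    induction k with
    | zero => exact absurd (by rw [pow_zero, pow_one] at hk'; rw [hk', one_mul]) d2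
    | succ k ih =>
      by_cases e : (x * c * b) ^ 2 ^ k = 1
      · exact ih e
      · rcases k with _ | k
        · exact absurd (by simpa [pow_two] using hk') d2
        · refine ⟨_, 2 ^ k, rfl, ?_⟩
          rw [← pow_add, ← mul_two, ← pow_succ]
          exact io _ (by rw [← pow_add, ← mul_two, ← pow_succ, hk']) e
  have dih : ∀ s : G, s * (x * c * b) * s⁻¹ = (x * c * b)⁻¹ → IsConj s (s * (z * u * f)) := fun s e => by
    have : s * j * s⁻¹ = j⁻¹ := by rw [ji, ← conj_pow, e, inv_pow]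
    refine isConj_iff.2 ⟨j⁻¹, ?_⟩
    rw [← jj, inv_inv, ← this]; group
  have ur : u * ρ = z * ρ * u := mul_inv_eq_iff_eq_mul.1 (p.u_conj rS rU)
  have rz : ρ * z = z * ρ := comm_of_cj (p.cjz rS)
  have cu : ∀ t : G, IsConj t (u * t * u) := fun t =>
    isConj_iff.2 ⟨u, by rw [inv_eq_of_mul_eq_one_right p.u2]⟩
  have e1 : x * c * b = ρ * x * (b * ρ * b) := by
    rw [← r23]; nth_rewrite 1 [← rx]; rw [ri]
    simp only [mul_assoc, tl r2, one_mul]
  have t1 : ρ * x * (ρ * x) = 1 := by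
    rw [mul_assoc, ← mul_assoc x, ← comm_of_cj rx, mul_assoc ρ, x2, mul_one, r2]
  have t2 : b * ρ * b * (b * ρ * b) = 1 := by simpa only [bi] using sq_cj b r2
  have i1 := inv_eq_of_mul_eq_one_right t1
  have i2 := inv_eq_of_mul_eq_one_right t2
  refine ⟨?_, ?_, ?_, c4⟩
  · have a1 := dih (b * ρ * b) (by rw [e1, mul_inv_rev (ρ * x), i1, i2, mul_assoc, mul_assoc (ρ * x), t2, mul_one])
    have a2 : IsConj ρ (b * ρ * b) := isConj_iff.2 ⟨b, by rw [bi]⟩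
    have a3 : IsConj (b * ρ * b * (z * u * f)) (ρ * (z * f)) := isConj_iff.2 ⟨b, mul_right_cancel (b := b) <|
      mul_right_cancel (b := ρ) <| by
        simp only [mul_assoc, bi, tl s2, one_mul, tl (cU zU h2), tl (cU uU h2), tl (mul_inv_eq_iff_eq_mul.1 f2),
          tl p.u2]⟩
    refine ((a2.trans a1).trans a3).trans ?_
    convert cu _ using 1
    refine mul_right_cancel (b := x) ?_
    simp only [mul_assoc, tl ur, tl rz.symm, tl p.zu.symm, tl (cU uU fT), tl p.u2, tl p.z2, one_mul]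
  · refine (dih (ρ * x) (by rw [e1, mul_inv_rev (ρ * x), i1, i2, ← mul_assoc (ρ * x), t1, one_mul])).trans ?_
    convert cu _ using 1
    refine mul_right_cancel (b := b) ?_
    simp only [mul_assoc, tl ur, tl rz.symm, tl p.zu.symm, tl (cU uU fT), tl p.u2, tl p.z2, one_mul,
      tl (cU uU hx), tl (cU zU hx)]
  · by_contra n
    simp only [not_exists, not_and, not_not] at n
    have n1 := n c h3
    have n2 := n b h2
    have n3 : b * c * b⁻¹ * c⁻¹ ∈ U := (mem_normalizer_iff.1 q.bU _).2 (by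
      have : β * (b * c * b⁻¹ * c⁻¹) * β⁻¹ =
        β * b * β⁻¹ * (β * c * β⁻¹) * (β * b * β⁻¹)⁻¹ * (β * c * β⁻¹)⁻¹ := by group
      rwa [this, b2, b3])
    obtain ⟨v1, hv1, a1⟩ : ∃ v ∈ U, c * x = v * x * c := ⟨_, n1, by group⟩
    obtain ⟨v2, hv2, a2⟩ : ∃ v ∈ U, b * x = v * x * b := ⟨_, n2, by group⟩
    obtain ⟨v3, hv3, a3⟩ : ∃ v ∈ U, b * c = v * c * b := ⟨_, n3, by group⟩
    refine c4 (?_ : _ ∈ U)
    have : x * c * b * (x * c * b) = v2 * v1 * v3 := by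
      refine mul_right_cancel (b := ρ) ?_
      calc _ = x * (c * (b * (x * (c * (b * ρ))))) := by simp only [mul_assoc]
        _ = v2 * (x * (c * (x * (b * (c * (b * ρ)))))) := by
          rw [tl a2, mul_assoc, mul_assoc, tl (cU hv2 h3), mul_assoc, tl (cU hv2 hx), mul_assoc]
        _ = v2 * (v1 * (c * (b * (c * (b * ρ))))) := by
          rw [tl a1, mul_assoc, mul_assoc, tl (cU hv1 hx), mul_assoc, tl x2, one_mul]
        _ = _ := by
          rw [tl a3]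
          simp only [mul_assoc, tl (cU hv3 h3), tl s2, tl s3, one_mul]
    rw [this]
    exact mul_mem (mul_mem hv2 hv1) hv3

end H13.R3
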