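import Mathlib
import Cfsg.Agent.Base
import Cfsg.Agent.Lib.RK3.LD

/-! Simple groups of 2-rank 3, package EK1 (see `blueprint/RK3/README.md`). -/

set_option autoImplicit false
set_option linter.unusedSectionVars false
set_option linter.unusedVariables false

namespace H13.R3

open Subgroup H69 H70 Cfsg H22.RK H22.RG
open scoped commutatorElement Pointwise

variable {G : Type*} [Group G] [Finite G] {S U V M : Subgroup G}
  {z u f β l e ρ γ φ y θ t t' x a g s v w : G} {n : ℕ}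

local notation "T" => S ⊓ 𝐂(U)
local notation "A" => S ⊓ 𝐂(V)
local notation "W" => U ⊔ zpowers e
local notation "m" => β * l * β⁻¹
local notation "e₂" => β * e * β⁻¹
local notation "S₀" => S ⊓ centralizer (Singleton.singleton y : Set G)

namespace EK1

theorem nm {X : Subgroup G} (hg : g ∈ 𝐍(X)) (hx : x ∈ X) : g * x * g⁻¹ ∈ X :=
  (mem_normalizer_iff.1 hg x).1 hx

theorem cc {X : Subgroup G} (hg : g ∈ 𝐂(X)) (hx : x ∈ X) : g * x * g⁻¹ = x := by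
  have := mem_centralizer_iff.1 hg x hx
  rw [← this]; group

theorem e2 (h : EE S U V z u f β l e ρ γ) : e * e = 1 := by
  obtain ⟨c, hc⟩ := isConj_iff.1 h.ez
  rw [← hc]; exact sq_cj c h.toQ4.toQ3.toP1.z2

theorem zf (h : Q3 S U V z u f β) (e : x * f * x⁻¹ = z * f) : x ∉ 𝐂(V) := by
  intro hc
  rw [cc hc h.fV] at e
  exact h.toP1.ne.1 (by simpa using e.symm)

theorem eA (h : EE S U V z u f β l e ρ γ) : e ∉ 𝐂(V) := zf h.toQ4.toQ3 h.ef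

theorem eU (h : EE S U V z u f β l e ρ γ) : e ∉ U := fun k =>
  eA h (h.toQ4.toQ3.VA (h.UV k)).2

theorem fe (h : EE S U V z u f β l e ρ γ) : f * e * f⁻¹ = z * e := by
  have h1 := h.ef
  have hz := h.toQ4.toQ3.toP1.z2
  calc f * e * f⁻¹ = (z * z) * (f * e * f⁻¹) := by rw [hz, one_mul]
    _ = z * ((z * f) * e * f⁻¹) := by group
    _ = z * ((e * f * e⁻¹) * e * f⁻¹) := by rw [h1]
    _ = z * e := by group

theorem eW : e ∈ W := mem_sup_right (mem_zpowers e)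

theorem cW (h : EE S U V z u f β l e ρ γ) (hx : x ∈ 𝐂(U)) (xe : x * e * x⁻¹ = e) : x ∈ 𝐂(W) :=
  cent_sup hx (cent_zpowers (comm_of_cj xe).symm)

theorem act (h : EE S U V z u f β l e ρ γ) (hs : s ∈ S) (hn : s ∈ 𝐍(W)) :
    ∃ v ∈ U, s * e * s⁻¹ = v * e := by
  have p := h.toQ4.toQ3.toP1
  rcases (p.mem_sup h.eT.2 (e2 h)).1 (nm hn (eW (U := U) (e := e))) with k | k
  · exfalso
    have := nm (inv_mem (p.nU hs)) k
    exact eU h (by simpa [mul_assoc] using this)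
  · exact k

theorem nW (h : EE S U V z u f β l e ρ γ) (hs : s ∈ S) (hv : s * e * s⁻¹ ∈ W) : s ∈ 𝐍(W) := by
  have p := h.toQ4.toQ3.toP1
  refine nrm_of fun w hw => ?_
  rcases (p.mem_sup h.eT.2 (e2 h)).1 hw with k | ⟨v, hv', rfl⟩
  · exact mem_sup_left (nm (p.nU hs) k)
  · rw [cj_mul]; exact mul_mem (mem_sup_left (nm (p.nU hs) hv')) hv

/-- `x` moves `b` at most by `z`. -/
theorem st_mul (h : P1 S U z u) {b b' : G} (hb : b ∈ S)
    (h1 : x * b * x⁻¹ = b ∨ x * b * x⁻¹ = z * b) (h2 : x * b' * x⁻¹ = b' ∨ x * b' * x⁻¹ = z * b') :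
    x * (b * b') * x⁻¹ = b * b' ∨ x * (b * b') * x⁻¹ = z * (b * b') := by
  have c : b * z = z * b := comm_of_cj (h.cjz hb)
  have z2 := h.z2
  rw [cj_mul]
  rcases h1 with h1 | h1 <;> rcases h2 with h2 | h2 <;> rw [h1, h2]
  · exact Or.inl rfl
  · right; rw [← mul_assoc, c, mul_assoc]
  · right; rw [mul_assoc]
  · left
    calc z * b * (z * b') = z * (b * z) * b' := by group
      _ = (z * z) * (b * b') := by rw [c]; group
      _ = b * b' := by rw [z2, one_mul]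

theorem not_on (h : Q4 S U V z u f β l)
    (hV : ∀ b ∈ V, x * b * x⁻¹ = b ∨ x * b * x⁻¹ = z * b)
    (hl : x * l * x⁻¹ = l ∨ x * l * x⁻¹ = z * l)
    (hm : x * (m) * x⁻¹ = m ∨ x * (m) * x⁻¹ = z * (m)) : ¬ On U (A0 f β l) x := by
  have p := h.toQ3.toP1
  intro ho
  obtain ⟨b, hb, eb⟩ := ho u p.uU
  have key : x * b * x⁻¹ = b ∨ x * b * x⁻¹ = z * b := by
    obtain ⟨v, hv, k | k | k | k⟩ := h.memA0.1 hb <;> rw [k]
    · exact hV v hv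
    · exact st_mul p (h.VS hv) (hV v hv) hl
    · exact st_mul p (h.VS hv) (hV v hv) hm
    · exact st_mul p (h.VS hv) (hV v hv) (st_mul p h.lA.1 hl hm)
  rw [eb] at key
  rcases key with k | k
  · exact p.ne.2.1 (by simpa using k)
  · exact p.ne.2.2.1 (mul_right_cancel k).symm

theorem stV (h : EE S U V z u f β l e ρ γ) {b : G} (hb : b ∈ V) :
    e * b * e⁻¹ = b ∨ e * b * e⁻¹ = z * b := by
  have q := h.toQ4.toQ3
  rcases q.memV.1 hb with k | ⟨w, hw, rfl⟩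
  · exact Or.inl (cc h.eT.2 k)
  · exact st_mul q.toP1 (q.US hw) (Or.inl (cc h.eT.2 hw)) (Or.inr h.ef)

theorem stl (h : EE S U V z u f β l e ρ γ) : e * l * e⁻¹ = l ∨ e * l * e⁻¹ = z * l := by
  have q := h.toQ4.toQ3
  obtain ⟨y, hy, ey⟩ := h.y0
  have := st_mul (b := (y * l⁻¹)⁻¹) (b' := y) q.toP1 (q.VS (inv_mem hy)) (stV h (inv_mem hy)) (Or.inl ey)
  have e1 : (y * l⁻¹)⁻¹ * y = l := by group
  rwa [e1] at this

end EK1

open EK1

theorem EE.typ (h : EE S U V z u f β l e ρ γ) (hx : x ∈ T) (x2 : x * x = 1) (xe : x * e * x⁻¹ = z * e) :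
    (∃ v ∈ U, x = v * f) ∨ ∃ a ∈ A, a * e = e * a ∧ a * a = z ∧ x = f * e * a := by
  have q := h.toQ4.toQ3
  have p := q.toP1
  have fT : f ∈ T := q.AT (q.VA q.fV)
  have rT : f * x ∈ T := mul_mem fT hx
  have fz : f * z * f⁻¹ = z := p.cjz fT.1
  have re : f * x * e * (f * x)⁻¹ = e := by
    calc f * x * e * (f * x)⁻¹ = f * (x * e * x⁻¹) * f⁻¹ := by group
      _ = (f * z * f⁻¹) * (f * e * f⁻¹) := by rw [xe]; group
      _ = (z * z) * e := by rw [fz, fe h]; group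
      _ = e := by rw [p.z2, one_mul]
  obtain ⟨w, hw, ew⟩ := q.cf hx.1
  have fw : f * w * f⁻¹ = w := cc fT.2 hw
  have r2 : f * x * (f * x) = w := by
    calc f * x * (f * x) = f * (x * f * x⁻¹) * (x * x) := by group
      _ = (f * w * f⁻¹) * (f * f) := by rw [ew, x2]; group
      _ = w := by rw [fw, q.f2, mul_one]
  rcases h.sqR w (subset_closure ⟨f * x, ⟨rT.1, cW h rT.2 re⟩, r2⟩) (mem_sup_left hw) with k | k
  · left
    rw [k, one_mul] at ew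
    have xA := (q.memA hx).2 ew
    rcases q.memV.1 (q.invA ⟨hx.1, xA⟩ x2) with k1 | k1
    · exfalso
      rw [cj_symm (cc h.eT.2 k1)] at xe
      exact p.ne.1 (by simpa using xe.symm)
    · exact k1
  · right
    rw [k] at ew r2
    have aT : e * (f * x) ∈ T := mul_mem h.eT rT
    have ez : e * z * e⁻¹ = z := p.cjz h.eT.1
    have c : f * x * e = e * (f * x) := comm_of_cj re
    refine ⟨e * (f * x), ⟨aT.1, (q.memA aT).2 ?_⟩, ?_, ?_, ?_⟩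
    · calc e * (f * x) * f * (e * (f * x))⁻¹ = e * (f * (x * f * x⁻¹) * f⁻¹) * e⁻¹ := by group
        _ = e * ((f * z * f⁻¹) * f) * e⁻¹ := by rw [ew]; group
        _ = (e * z * e⁻¹) * (e * f * e⁻¹) := by rw [fz]; group
        _ = (z * z) * f := by rw [ez, h.ef]; group
        _ = f := by rw [p.z2, one_mul]
    · rw [mul_assoc, c]
    · calc e * (f * x) * (e * (f * x)) = e * (f * x * e) * (f * x) := by group
        _ = (e * e) * (f * x * (f * x)) := by rw [c]; group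
        _ = z := by rw [e2 h, r2, one_mul]
    · calc x = f * (e * e) * f * x := by rw [e2 h, mul_one, q.f2, one_mul]
        _ = f * e * (e * (f * x)) := by group

theorem EE.rho_cm (h : EE S U V z u f β l e ρ γ) (hx : x ∈ S ⊓ 𝐂(W)) :
    ρ * x * ρ⁻¹ * x⁻¹ ∈ zpowers z ⊔ zpowers e := by
  have q := h.toQ4.toQ3
  have p := q.toP1
  have hy := h.gS' x hx.1 fun w hw => Or.inl (cc hx.2 hw)
  obtain ⟨v, hv, -, ev⟩ := h.gv
  have hc := inv_mem (q.cmV hy hv)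
  have e1 : ρ * x * ρ⁻¹ * x⁻¹ = γ * (γ⁻¹ * x * γ * v * (γ⁻¹ * x * γ)⁻¹ * v⁻¹)⁻¹ * γ⁻¹ := by
    rw [← ev]; group
  rw [e1]
  have hu : γ * u * γ⁻¹ ∈ zpowers z ⊔ zpowers e := by
    rcases h.gu with k | k <;> rw [k]
    · exact m2r z e
    · exact mul_mem (m2l z e) (m2r z e)
  rcases p.memU.1 hc with k | k | k | k <;> rw [k]
  · simp
  · rw [h.gz]; exact m2l z e
  · exact hu
  · rw [cj_mul, h.gz]; exact mul_mem (m2l z e) hu

theorem EE.vg (h : EE S U V z u f β l e ρ γ) :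
    V ^ᶜ γ = sp3 z e ρ := by
  have q := h.toQ4.toQ3
  have p := q.toP1
  have hz : z ∈ V ^ᶜ γ := by rw [← h.gz]; exact cj_mem γ (q.UV p.zU)
  have hu := cj_mem γ (q.UV p.uU)
  have he : e ∈ V ^ᶜ γ := by
    rcases h.gu with k | k <;> rw [k] at hu
    · exact hu
    · simpa using mul_mem (inv_mem hz) hu
  obtain ⟨v, hv, -, ev⟩ := h.gv
  have hr : ρ ∈ V ^ᶜ γ := by rw [← ev]; exact cj_mem γ hv
  have zT := (p.UT p.zU).2
  refine (e8_cj q.e8 γ).eq_sp3 hz he hr ⟨p.ne.1, ?_, ?_, ?_, ?_, ?_, ?_⟩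
  · intro k; exact eU h (k ▸ one_mem U)
  · intro k; exact eU h (k ▸ p.zU)
  · intro k; exact h.rU (k ▸ one_mem _)
  · intro k; exact h.rU (k ▸ zT)
  · intro k; exact h.rU (k ▸ h.eT.2)
  · intro k; exact h.rU (k ▸ mul_mem zT h.eT.2)

theorem EE.exz (h : EE S U V z u f β l e ρ γ) :
    ∃ x ∈ T, IsConj z x ∧ x * e * x⁻¹ = z * e := by
  have q := h.toQ4.toQ3
  have p := q.toP1
  obtain ⟨-, -, ⟨y, hy, ey⟩, -⟩ := h.toQ4.ld h.rS h.rU h.r2 h.rb h.rf h.rl h.eT h.ef (e2 h) h.re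
  have hlt : S ⊓ 𝐍(W) < S := by
    refine lt_of_le_of_ne inf_le_left fun k => ?_
    have : y ∈ S ⊓ 𝐍(W) := by rw [k]; exact hy.1
    obtain ⟨v, hv, ev⟩ := act h hy.1 this.2
    exact ey (by rw [ev]; simpa using hv)
  obtain ⟨g, hg, hg'⟩ := SetLike.exists_of_lt (lt_inf_normalizer_of_lt p.syl.isP hlt)
  have eN : e ∈ S ⊓ 𝐍(W) := ⟨h.eT.1, le_normalizer eW⟩
  have sN := nm hg.2 eN
  have sT : g * e * g⁻¹ ∈ T := nm (p.nT hg.1) h.eT
  obtain ⟨v, hv, ev⟩ := act h sN.1 sN.2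
  have rN : ρ ∈ S ⊓ 𝐍(W) := ⟨h.rS, nW h h.rS (by rw [h.re]; exact eW)⟩
  have r'N := nm (inv_mem hg.2) rN
  obtain ⟨v', hv', ev'⟩ := act h r'N.1 r'N.2
  have hv'' := nm (p.nU hg.1) hv'
  have e1 : ρ * (g * e * g⁻¹) * ρ⁻¹ = g * v' * g⁻¹ * (g * e * g⁻¹) := by
    calc ρ * (g * e * g⁻¹) * ρ⁻¹ = g * (g⁻¹ * ρ * g⁻¹⁻¹ * e * (g⁻¹ * ρ * g⁻¹⁻¹)⁻¹) * g⁻¹ := by group
      _ = _ := by rw [ev']; group
  have c1 : g * v' * g⁻¹ * v * (g * v' * g⁻¹)⁻¹ = v := cc (p.UT hv'').2 hv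
  have c2 : g * v' * g⁻¹ * e * (g * v' * g⁻¹)⁻¹ = e := cj_symm (cc h.eT.2 hv'')
  have e3 : ρ * v * ρ⁻¹ = v := by
    have : ρ * v * ρ⁻¹ * e = v * e := by
      calc ρ * v * ρ⁻¹ * e = ρ * v * ρ⁻¹ * (ρ * e * ρ⁻¹) := by rw [h.re]
        _ = ρ * (g * e * g⁻¹ * e * (g * e * g⁻¹)⁻¹) * ρ⁻¹ := by rw [ev]; group
        _ = ρ * (g * e * g⁻¹) * ρ⁻¹ * (ρ * e * ρ⁻¹) * (ρ * (g * e * g⁻¹) * ρ⁻¹)⁻¹ := by group
        _ = g * v' * g⁻¹ * (g * e * g⁻¹ * e * (g * e * g⁻¹)⁻¹) * (g * v' * g⁻¹)⁻¹ := by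
          rw [e1, h.re]; group
        _ = (g * v' * g⁻¹ * v * (g * v' * g⁻¹)⁻¹) * (g * v' * g⁻¹ * e * (g * v' * g⁻¹)⁻¹) := by
          rw [ev]; group
        _ = v * e := by rw [c1, c2]
    exact mul_right_cancel this
  rcases p.fix_out h.rS h.rU hv e3 with k | k
  · exfalso
    rw [k, one_mul] at ev
    have := p.no16 (p.e8_sup h.eT.2 (eU h) (e2 h)) (cW h sT.2 ev) (sq_cj g (e2 h))
    exact hg' ⟨hg.1, nW h hg.1 this⟩
  · exact ⟨_, sT, h.ez.trans (isConj_iff.2 ⟨g, rfl⟩), k ▸ ev⟩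

namespace EK1

theorem claim (h : EE S U V z u f β l e ρ γ) (ha : a ∈ A) (ae : a * e = e * a) (a2 : a * a = z)
    (ho : On U (A0 f β l) (f * e * a)) (hy : y * l⁻¹ ∈ V) (ey : e * y * e⁻¹ = y) : a * y⁻¹ ∈ U := by
  have r := h.toQ4
  have q := r.toQ3
  have p := q.toP1
  obtain ⟨y0, y2, -, -⟩ := r.sq_l hy
  have yA := r.A0_le y0
  have ea : e * a * e⁻¹ = a := cj_of_comm ae.symm
  have aR : a ∈ S ⊓ 𝐂(W) := ⟨ha.1, cW h (q.AT ha).2 (cj_of_comm ae)⟩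
  have yR : y ∈ S ⊓ 𝐂(W) := ⟨yA.1, cW h (q.AT yA).2 (cj_symm ey)⟩
  have kV := r.T_mod (q.AT ha) y0
  have kU : a * y * a⁻¹ * y⁻¹ ∈ U := q.fixV h.eT (eA h) kV (by
    calc e * (a * y * a⁻¹ * y⁻¹) * e⁻¹
        = (e * a * e⁻¹) * (e * y * e⁻¹) * (e * a * e⁻¹)⁻¹ * (e * y * e⁻¹)⁻¹ := by group
      _ = _ := by rw [ea, ey])
  have kJ : a * y * a⁻¹ * y⁻¹ ∈ closure {y | ∃ x ∈ S ⊓ 𝐂(W), x * x = y} := by
    have : a * y * a⁻¹ * y⁻¹ = a * a * (a⁻¹ * y * (a⁻¹ * y)) * (y⁻¹ * y⁻¹) := by group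
    rw [this]
    exact mul_mem (mul_mem (subset_closure ⟨a, aR, rfl⟩)
      (subset_closure ⟨_, mul_mem (inv_mem aR) yR, rfl⟩)) (subset_closure ⟨_, inv_mem yR, rfl⟩)
  rcases h.sqR _ kJ (mem_sup_left kU) with k | k
  · have c : a * y * a⁻¹ = y := mul_inv_eq_one.1 k
    refine q.fixV h.eT (eA h) (q.invA (mul_mem ha (inv_mem yA)) ?_) ?_
    · calc a * y⁻¹ * (a * y⁻¹) = (a * y * a⁻¹)⁻¹ * (a * a) * y⁻¹ := by group
        _ = y⁻¹ * (y * y) * y⁻¹ := by rw [c, a2, y2]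
        _ = 1 := by group
    · calc e * (a * y⁻¹) * e⁻¹ = (e * a * e⁻¹) * (e * y * e⁻¹)⁻¹ := by group
        _ = _ := by rw [ea, ey]
  exfalso
  have az : ∀ {s : G}, s ∈ S → s * z = z * s := fun hs => comm_of_cj (p.cjz hs)
  have al : a * l * a⁻¹ = z * l := by
    have c := cc ha.2 (inv_mem hy)
    have k' : a * y * a⁻¹ = z * y := by rw [← k]; group
    calc a * l * a⁻¹ = (a * (y * l⁻¹)⁻¹ * a⁻¹) * (a * y * a⁻¹) := by group
      _ = ((y * l⁻¹)⁻¹ * z) * y := by rw [c, k']; group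
      _ = z * l := by rw [az (q.VS (inv_mem hy))]; group
  obtain ⟨ξ, hξ, em⟩ : ∃ ξ ∈ U, e * (m) * e⁻¹ = ξ * (m) :=
    ⟨_, r.inv_mod h.eT (eA h) (e2 h) r.m_mem, by group⟩
  obtain ⟨ψ, ψV, am⟩ : ∃ ψ ∈ V, a * (m) * a⁻¹ = ψ * (m) :=
    ⟨_, r.T_mod (q.AT ha) r.m_mem, by group⟩
  have ψU : ψ ∈ U := by
    refine q.fixV h.eT (eA h) ψV ?_
    have c1 := cc ha.2 (q.UV hξ)
    have c2 : ξ * ψ * ξ⁻¹ = ψ := E8.cj q.e8 (q.UV hξ) ψV
    calc e * ψ * e⁻¹ = e * (ψ * (m)) * e⁻¹ * (e * (m) * e⁻¹)⁻¹ := by group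
      _ = (e * a * e⁻¹) * (e * (m) * e⁻¹) * (e * a * e⁻¹)⁻¹ * (e * (m) * e⁻¹)⁻¹ := by
        rw [← am]; group
      _ = (a * ξ * a⁻¹) * (a * (m) * a⁻¹) * (ξ * (m))⁻¹ := by rw [ea, em]; group
      _ = ξ * ψ * ξ⁻¹ := by rw [c1, am]; group
      _ = ψ := c2
  obtain ⟨κ, hκ, ra⟩ : ∃ κ, (κ = 1 ∨ κ = z) ∧ ρ * a * ρ⁻¹ = κ * a := by
    refine ⟨ρ * a * ρ⁻¹ * a⁻¹, ?_, by group⟩
    have k1 := h.rho_cm aR
    have k2 : ρ * a * ρ⁻¹ * a⁻¹ ∈ A := mul_mem (nm (q.nA h.rS) ha) (inv_mem ha)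
    rcases (mem_sp2 p.z2 (e2 h) (az h.eT.1).symm).1 k1 with j | j | j | j
    · exact Or.inl j
    · exact Or.inr j
    · exact absurd (j ▸ k2.2) (eA h)
    · exfalso
      have k3 : z⁻¹ * (z * e) ∈ A := mul_mem (inv_mem (q.VA (q.UV p.zU))) (j ▸ k2)
      exact eA h (by simpa using k3.2)
  obtain ⟨v2, hv2, rm⟩ : ∃ v2 ∈ V, ρ * (m) * ρ⁻¹ = v2 * (l * (m)) :=
    ⟨_, r.sm ρ h.rS h.rU, by group⟩
  have rψ : ρ * ψ * ρ⁻¹ = z * ψ := by
    have bS : v2 * (l * (m)) ∈ S := mul_mem (q.VS hv2) (mul_mem r.lA.1 r.mA.1)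
    have c0 : ∀ {s : G}, s ∈ S → κ * s * κ⁻¹ = s := by
      intro s hs
      rcases hκ with j | j <;> rw [j]
      · group
      · exact cj_of_comm (az hs).symm
    have c1 := cc ha.2 hv2
    have c2 : l * ψ * l⁻¹ = ψ := cc r.lA.2 ψV
    have c3 : v2 * (z * ψ) * v2⁻¹ = z * ψ := E8.cj q.e8 hv2 (mul_mem (q.UV p.zU) ψV)
    calc ρ * ψ * ρ⁻¹ = ρ * (ψ * (m)) * ρ⁻¹ * (ρ * (m) * ρ⁻¹)⁻¹ := by group
      _ = (ρ * a * ρ⁻¹) * (ρ * (m) * ρ⁻¹) * (ρ * a * ρ⁻¹)⁻¹ * (ρ * (m) * ρ⁻¹)⁻¹ := by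
        rw [← am]; group
      _ = κ * (a * (v2 * (l * (m))) * a⁻¹) * κ⁻¹ * (v2 * (l * (m)))⁻¹ := by rw [ra, rm]; group
      _ = (a * v2 * a⁻¹) * (a * l * a⁻¹) * (a * (m) * a⁻¹) * (v2 * (l * (m)))⁻¹ := by
        rw [c0 (mul_mem (mul_mem ha.1 bS) (inv_mem ha.1))]; group
      _ = v2 * (z * (l * ψ * l⁻¹)) * v2⁻¹ := by rw [c1, al, am]; group
      _ = z * ψ := by rw [c2, c3]
  have hψ : ψ = u ∨ ψ = z * u := by
    rcases p.memU.1 ψU with j | j | j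
    · rw [j] at rψ; exact absurd (by simpa using rψ.symm) p.ne.1
    · rw [j, p.cjz h.rS] at rψ; exact absurd (by simpa using rψ.symm) p.ne.1
    · exact j
  have hξ' : ξ = u ∨ ξ = z * u := by
    rcases p.memU.1 hξ with j | j | j
    · exact absurd h.on (not_on r (fun b hb => stV h hb) (stl h) (Or.inl (by rw [em, j, one_mul])))
    · exact absurd h.on (not_on r (fun b hb => stV h hb) (stl h) (Or.inr (by rw [em, j])))
    · exact j
  have fA := q.VA q.fV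
  have fz : f * z * f⁻¹ = z := p.cjz fA.1
  have ez : e * z * e⁻¹ = z := p.cjz h.eT.1
  have fin : ∀ {b : G}, f * b * f⁻¹ = b → (e * (a * b * a⁻¹) * e⁻¹ = b ∨ e * (a * b * a⁻¹) * e⁻¹ = z * b) →
      f * e * a * b * (f * e * a)⁻¹ = b ∨ f * e * a * b * (f * e * a)⁻¹ = z * b := by
    intro b fb hb
    have : f * e * a * b * (f * e * a)⁻¹ = f * (e * (a * b * a⁻¹) * e⁻¹) * f⁻¹ := by group
    rw [this]
    rcases hb with j | j <;> rw [j]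
    · exact Or.inl fb
    · right; rw [cj_mul, fz, fb]
  refine not_on r (fun b hb => fin (cc fA.2 hb) ?_) (fin (cj_symm (cc r.lA.2 q.fV)) ?_)
    (fin (cj_symm (cc r.mA.2 q.fV)) ?_) ho
  · rw [cc ha.2 hb]; exact stV h hb
  · rw [al, cj_mul, ez]
    rcases stl h with j | j <;> rw [j]
    · exact Or.inr rfl
    · left; rw [← mul_assoc, p.z2, one_mul]
  · rw [am, cj_mul, em, cc h.eT.2 ψU, ← mul_assoc ψ]
    have u2 := p.u2
    have z2 := p.z2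
    have zu := p.zu
    rcases hψ with j | j <;> rcases hξ' with j' | j' <;> rw [j, j']
    · left; rw [u2, one_mul]
    · right; rw [← mul_assoc u, ← zu, mul_assoc z, u2, mul_one]
    · right; rw [mul_assoc z, u2, mul_one]
    · left; rw [p.sqU (mul_mem p.zU p.uU), one_mul]

theorem form (h : EE S U V z u f β l e ρ γ) (hf : ¬ IsConj z f) (hon : Hon S U V z (A0 f β l)) (hx : x ∈ T)
    (c : IsConj z x) (xe : x * e * x⁻¹ = z * e) (hy : y * l⁻¹ ∈ V) (ey : e * y * e⁻¹ = y) :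
    x * x = 1 ∧ ∃ w ∈ U, x = f * e * (w * y) := by
  have q := h.toQ4.toQ3
  have p := q.toP1
  have x2 : x * x = 1 := by
    obtain ⟨k, hk⟩ := isConj_iff.1 c
    rw [← hk]; exact sq_cj k p.z2
  refine ⟨x2, ?_⟩
  rcases h.typ hx x2 xe with ⟨v, hv, k⟩ | ⟨a, ha, ae, a2, k⟩
  · exfalso
    have xV : x ∈ V := q.memV.2 (Or.inr ⟨v, hv, k⟩)
    have xU : x ∉ U := fun j => q.fU (by simpa [k] using mul_mem (inv_mem hv) j)
    obtain ⟨s, -, es⟩ := q.conjf xV xU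
    exact hf (c.trans (isConj_iff.2 ⟨s, es⟩).symm)
  · have fz : f * z * f⁻¹ = z := p.cjz (q.VS q.fV)
    have xf : x * f * x⁻¹ = z * f := by
      calc x * f * x⁻¹ = f * (e * (a * f * a⁻¹) * e⁻¹) * f⁻¹ := by rw [k]; group
        _ = (f * z * f⁻¹) * f := by rw [cc ha.2 q.fV, h.ef]; group
        _ = z * f := by rw [fz]
    have ho := hon x hx (zf q xf) c
    rw [k] at ho
    exact ⟨_, claim h ha ae a2 ho hy ey, by rw [k]; group⟩

end EK1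

theorem EE.uniq (h : EE S U V z u f β l e ρ γ) (hf : ¬ IsConj z f) (hon : Hon S U V z (A0 f β l)) {x' : G} (hx : x ∈ T) (hx' : x' ∈ T)
    (c : IsConj z x) (c' : IsConj z x') (xe : x * e * x⁻¹ = z * e) (xe' : x' * e * x'⁻¹ = z * e) :
    x * x' ∈ U := by
  have r := h.toQ4
  obtain ⟨y, hy, ey⟩ := h.y0
  obtain ⟨x2, w, hw, k⟩ := form h hf hon hx c xe hy ey
  obtain ⟨-, w', hw', k'⟩ := form h hf hon hx' c' xe' hy ey
  have yS : y ∈ S := (r.A0_le (r.sq_l hy).1).1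
  have : x * x' = y⁻¹ * (w⁻¹ * w') * y⁻¹⁻¹ := by
    rw [← inv_of_sq x2, k, k']; group
  rw [this]
  exact nm (inv_mem (r.nU yS)) (mul_mem (inv_mem hw) hw')

end H13.R3
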