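import Mathlib
import Cfsg.Agent.Base
import Cfsg.Agent.Lib.RK3.EK1

/-! Simple groups of 2-rank 3, package EK2 (see `blueprint/RK3/README.md`). -/

set_option autoImplicit false
set_option linter.unusedSectionVars false
set_option linter.unusedVariables false

namespace H13.R3

open Subgroup H69 H70 Cfsg H22.RK H22.RG
open scoped commutatorElement Pointwise

variable {G : Type*} [Group G] [Finite G] {S U V M : Subgroup G}
  {z u f β l e ρ γ φ y θ t t' x a g s v w : G} {n : ℕ}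

local notation "T" => S ⊓ 𝐂(U)
local notation "A" => S ⊓ 𝐂(V)
local notation "W" => U ⊔ zpowers e
local notation "m" => β * l * β⁻¹
local notation "e₂" => β * e * β⁻¹
local notation "S₀" => S ⊓ centralizer (Singleton.singleton y : Set G)

namespace EK2

theorem conj_sq {x y : G} (c : IsConj x y) (h : x * x = 1) : y * y = 1 := by
  obtain ⟨k, rfl⟩ := isConj_iff.1 c
  calc k * x * k⁻¹ * (k * x * k⁻¹) = k * (x * x) * k⁻¹ := by group
    _ = 1 := by rw [h]; group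

theorem inv_eq {x : G} (h : x * x = 1) : x⁻¹ = x := inv_eq_of_mul_eq_one_right h

theorem cj (x k : G) : IsConj x (k * x * k⁻¹) := isConj_iff.2 ⟨k, rfl⟩

theorem zc (h : P1 S U z u) (hs : s ∈ S) : s * z = z * s := by
  have := h.cjz hs
  calc s * z = s * z * s⁻¹ * s := by group
    _ = z * s := by rw [this]

theorem cjU (h : P1 S U z u) (hs : s ∈ S) (hv : v ∈ U) :
    s * v * s⁻¹ = v ∨ s * v * s⁻¹ = z * v := by
  by_cases hc : s ∈ 𝐂(U)
  · left
    have := (mem_centralizer_iff.1 hc) v hv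
    rw [← this]; group
  · have e1 := h.conj_u hs hc
    have e2 := h.cjz hs
    rcases h.memU.1 hv with rfl | rfl | rfl | rfl
    · left; group
    · left; exact e2
    · right; exact e1
    · right
      calc s * (z * u) * s⁻¹ = (s * z * s⁻¹) * (s * u * s⁻¹) := by group
        _ = z * (z * u) := by rw [e1, e2]

theorem st0 (h : P1 S U z u) (he : e ∈ 𝐂(U)) (e2 : e * e = 1) (hx : x ∈ S)
    (xe : x * e * x⁻¹ = e ∨ x * e * x⁻¹ = z * e) : St0 (W) z x := by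
  intro w hw
  rcases (h.mem_sup he e2).1 hw with hU | ⟨v, hv, rfl⟩
  · exact cjU h hx hU
  · have hz : v * z = z * v := zc h (h.US hv)
    have sp : x * (v * e) * x⁻¹ = (x * v * x⁻¹) * (x * e * x⁻¹) := by group
    rcases cjU h hx hv with a | a <;> rcases xe with b | b <;> rw [sp, a, b]
    · left; rfl
    · right; rw [← mul_assoc, hz, mul_assoc]
    · right; rw [mul_assoc]
    · left
      calc z * v * (z * e) = z * (v * z) * e := by group
        _ = (z * z) * (v * e) := by rw [hz]; group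
        _ = v * e := by rw [h.z2, one_mul]

theorem cW (h : P1 S U z u) (he : e ∈ 𝐂(U)) (e2 : e * e = 1) (hx : x ∈ 𝐂(U))
    (xe : x * e * x⁻¹ = e) (hw : w ∈ W) : x * w * x⁻¹ = w := by
  have c : ∀ v ∈ U, x * v * x⁻¹ = v := fun v hv => by
    rw [← (mem_centralizer_iff.1 hx) v hv]; group
  rcases (h.mem_sup he e2).1 hw with hU | ⟨v, hv, rfl⟩
  · exact c _ hU
  · calc x * (v * e) * x⁻¹ = (x * v * x⁻¹) * (x * e * x⁻¹) := by group
      _ = v * e := by rw [c v hv, xe]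

theorem e2 (h : EE S U V z u f β l e ρ γ) : e * e = 1 := conj_sq h.ez h.toP1.z2

theorem eV (h : EE S U V z u f β l e ρ γ) : e ∉ 𝐂(V) := by
  intro c
  have := (h.toQ3.memA h.eT).1 c
  rw [h.ef] at this
  exact h.toP1.ne.1 (by simpa using this)

theorem eW : e ∈ W := mem_sup_right (mem_zpowers e)

theorem uW (h : P1 S U z u) : u ∈ W := mem_sup_left h.uU

/-- `γ` maps type `f` to type `ρ`. -/
theorem g_fr (h : EE S U V z u f β l e ρ γ) (hx : x ∈ T) (xe : x * e * x⁻¹ = z * e) :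
    γ * x * γ⁻¹ ∈ S ∧ γ * x * γ⁻¹ ∉ 𝐂(U) ∧ γ * x * γ⁻¹ * e * (γ * x * γ⁻¹)⁻¹ = e := by
  have p := h.toP1
  have hS : γ * x * γ⁻¹ ∈ S := h.gS x hx.1 (st0 p h.eT.2 (e2 h) hx.1 (Or.inr xe))
  have xu : x * u * x⁻¹ = u := (p.memT hx.1).1 hx.2
  have k : γ * x * γ⁻¹ * (γ * u * γ⁻¹) * (γ * x * γ⁻¹)⁻¹ = γ * u * γ⁻¹ := by
    calc _ = γ * (x * u * x⁻¹) * γ⁻¹ := by group
      _ = _ := by rw [xu]
  have ye : γ * x * γ⁻¹ * e * (γ * x * γ⁻¹)⁻¹ = e := by
    rcases h.gu with a | a <;> rw [a] at k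
    · exact k
    · have k2 := p.cjz hS
      generalize γ * x * γ⁻¹ = y at k k2
      have : y * (z * e) * y⁻¹ = (y * z * y⁻¹) * (y * e * y⁻¹) := by group
      rw [this, k2] at k
      exact mul_left_cancel k
  refine ⟨hS, fun c => ?_, ye⟩
  have hw : γ * e * γ⁻¹ ∈ W := (mem_normalizer_iff.1 h.gW e).1 eW
  have := cW p h.eT.2 (e2 h) c ye hw
  have k3 : γ * (x * e * x⁻¹) * γ⁻¹ = γ * e * γ⁻¹ := by rw [← this]; group
  rw [xe] at k3
  have k4 : z * e = e := mul_left_cancel (mul_right_cancel k3)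
  exact p.ne.1 (by simpa using k4)

/-- `γ⁻¹` maps type `ρ` to type `f`. -/
theorem g_rf (h : EE S U V z u f β l e ρ γ) (hy : y ∈ S) (hc : y ∉ 𝐂(U)) (ye : y * e * y⁻¹ = e) :
    γ⁻¹ * y * γ ∈ T ∧ γ⁻¹ * y * γ * e * (γ⁻¹ * y * γ)⁻¹ = z * e := by
  have p := h.toP1
  have st := st0 p h.eT.2 (e2 h) hy (Or.inl ye)
  have hS : γ⁻¹ * y * γ ∈ S := h.gS' y hy st
  have k : y * (γ * u * γ⁻¹) * y⁻¹ = γ * u * γ⁻¹ := by
    rcases h.gu with a | a <;> rw [a]
    · exact ye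
    · calc y * (z * e) * y⁻¹ = (y * z * y⁻¹) * (y * e * y⁻¹) := by group
        _ = _ := by rw [p.cjz hy, ye]
  have xu : γ⁻¹ * y * γ * u * (γ⁻¹ * y * γ)⁻¹ = u := by
    calc _ = γ⁻¹ * (y * (γ * u * γ⁻¹) * y⁻¹) * γ := by group
      _ = u := by rw [k]; group
  have xc : γ⁻¹ * y * γ ∈ 𝐂(U) := (p.memT hS).2 xu
  refine ⟨⟨hS, xc⟩, ?_⟩
  have hw : γ * e * γ⁻¹ ∈ W := (mem_normalizer_iff.1 h.gW e).1 eW
  have sp : γ⁻¹ * y * γ * e * (γ⁻¹ * y * γ)⁻¹ = γ⁻¹ * (y * (γ * e * γ⁻¹) * y⁻¹) * γ := by group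
  rcases st _ hw with a | a
  · exfalso
    have xe : γ⁻¹ * y * γ * e * (γ⁻¹ * y * γ)⁻¹ = e := by rw [sp, a]; group
    have hw2 : γ⁻¹ * u * γ ∈ W := (mem_normalizer_iff''.1 h.gW u).1 (uW p)
    have := cW p h.eT.2 (e2 h) xc xe hw2
    apply hc
    apply (p.memT hy).2
    calc y * u * y⁻¹ = γ * (γ⁻¹ * y * γ * (γ⁻¹ * u * γ) * (γ⁻¹ * y * γ)⁻¹) * γ⁻¹ := by group
      _ = u := by rw [this]; group
  · rw [sp, a]
    calc γ⁻¹ * (z * (γ * e * γ⁻¹)) * γ = γ⁻¹ * ((γ * z * γ⁻¹) * (γ * e * γ⁻¹)) * γ := by rw [h.gz]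
      _ = z * e := by group

/-- the action of `m` on `e`. -/
theorem me (h : EE S U V z u f β l e ρ γ) :
    m * e * (m)⁻¹ = u * e ∨ m * e * (m)⁻¹ = z * u * e := by
  have p := h.toP1
  have q := h.toQ3
  have r := h.toQ4
  have mulP : ∀ a ∈ S, ∀ b : G, (e * a * e⁻¹ = a ∨ e * a * e⁻¹ = z * a) →
      (e * b * e⁻¹ = b ∨ e * b * e⁻¹ = z * b) →
      (e * (a * b) * e⁻¹ = a * b ∨ e * (a * b) * e⁻¹ = z * (a * b)) := by
    intro a ha b h1 h2
    have hz : a * z = z * a := zc p ha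
    have sp : e * (a * b) * e⁻¹ = (e * a * e⁻¹) * (e * b * e⁻¹) := by group
    rcases h1 with a1 | a1 <;> rcases h2 with b1 | b1 <;> rw [sp, a1, b1]
    · left; rfl
    · right; rw [← mul_assoc, hz, mul_assoc]
    · right; rw [mul_assoc]
    · left
      calc z * a * (z * b) = z * (a * z) * b := by group
        _ = (z * z) * (a * b) := by rw [hz]; group
        _ = a * b := by rw [p.z2, one_mul]
  have cU : ∀ v ∈ U, e * v * e⁻¹ = v := fun v hv => by
    rw [← (mem_centralizer_iff.1 h.eT.2) v hv]; group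
  have PV : ∀ v ∈ V, e * v * e⁻¹ = v ∨ e * v * e⁻¹ = z * v := by
    intro v hv
    rcases q.memV.1 hv with a | ⟨w, hw, rfl⟩
    · exact Or.inl (cU v a)
    · exact mulP w (p.US hw) f (Or.inl (cU w hw)) (Or.inr h.ef)
  have Pl : e * l * e⁻¹ = l ∨ e * l * e⁻¹ = z * l := by
    obtain ⟨y, hy, ey⟩ := h.y0
    have := mulP _ (h.VS (V.inv_mem hy)) y (PV _ (V.inv_mem hy)) (Or.inl ey)
    have k : (y * l⁻¹)⁻¹ * y = l := by group
    rwa [k] at this
  have hm := r.inv_mod h.eT (eV h) (e2 h) r.m_mem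
  have fin : ∀ k ∈ U, e * (m) * e⁻¹ * (m)⁻¹ = k → m * e * (m)⁻¹ = k * e := by
    intro k hk a
    have c := (mem_centralizer_iff.1 h.eT.2) k hk
    have ei := inv_eq (e2 h)
    calc m * e * (m)⁻¹ = e⁻¹ * (e * (m) * e⁻¹ * (m)⁻¹) := by rw [ei]; nth_rewrite 2 [← ei]; group
      _ = k * e := by rw [a, ei, c]
  have no : ¬ (e * (m) * e⁻¹ = m ∨ e * (m) * e⁻¹ = z * (m)) := by
    intro Pm
    obtain ⟨a, ha, ea⟩ := h.on u p.uU
    have Pa : e * a * e⁻¹ = a ∨ e * a * e⁻¹ = z * a := by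
      obtain ⟨v, hv, rfl | rfl | rfl | rfl⟩ := r.memA0.1 ha
      · exact PV _ hv
      · exact mulP _ (h.VS hv) _ (PV _ hv) Pl
      · exact mulP _ (h.VS hv) _ (PV _ hv) Pm
      · exact mulP _ (h.VS hv) _ (PV _ hv) (mulP _ h.lA.1 _ Pl Pm)
    rw [ea] at Pa
    rcases Pa with b | b
    · exact p.ne.2.1 (by simpa using b)
    · exact p.ne.2.2.1 (mul_right_cancel b).symm
  rcases p.memU.1 hm with a | a | a | a
  · exact (no (Or.inl (by rw [← mul_inv_eq_one]; exact a))).elim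
  · exact (no (Or.inr (by rw [← a]; group))).elim
  · exact Or.inl (fin _ p.uU a)
  · exact Or.inr (fin _ (U.mul_mem p.zU p.uU) a)

theorem me' (h : EE S U V z u f β l e ρ γ) :
    ∃ v ∈ U, (v = u ∨ v = z * u) ∧ m * e * (m)⁻¹ = v * e ∧
      ∀ y ∈ S, y ∉ 𝐂(U) → y * v * y⁻¹ = z * v := by
  have p := h.toP1
  rcases me h with a | a
  · exact ⟨u, p.uU, Or.inl rfl, a, fun y hy hc => p.conj_u hy hc⟩
  · refine ⟨z * u, U.mul_mem p.zU p.uU, Or.inr rfl, a, fun y hy hc => ?_⟩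
    calc y * (z * u) * y⁻¹ = (y * z * y⁻¹) * (y * u * y⁻¹) := by group
      _ = _ := by rw [p.cjz hy, p.conj_u hy hc]

theorem mT (h : EE S U V z u f β l e ρ γ) : m ∈ T := h.toQ3.AT h.toQ4.mA

/-- `m` maps type `ρ` to type `ρ f`. -/
theorem m_rp (h : EE S U V z u f β l e ρ γ) (hy : y ∈ S) (hc : y ∉ 𝐂(U)) (ye : y * e * y⁻¹ = e) :
    m * y * (m)⁻¹ ∈ S ∧ m * y * (m)⁻¹ ∉ 𝐂(U) ∧ m * y * (m)⁻¹ * e * (m * y * (m)⁻¹)⁻¹ = z * e := by
  have p := h.toP1
  obtain ⟨v, hv, -, a, b⟩ := me' h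
  have hk := mT h
  generalize m = k at a hk
  have hS : k * y * k⁻¹ ∈ S := S.mul_mem (S.mul_mem hk.1 hy) (S.inv_mem hk.1)
  have hC : k * y * k⁻¹ ∉ 𝐂(U) := by
    intro c
    apply hc
    have hk2 : k ∈ 𝐂(U) := hk.2
    have := mul_mem (mul_mem (inv_mem hk2) c) hk2
    simpa [mul_assoc] using this
  refine ⟨hS, hC, ?_⟩
  have c1 : k * y * k⁻¹ * (v * e) * (k * y * k⁻¹)⁻¹ = v * e := by
    rw [← a]
    calc _ = k * (y * e * y⁻¹) * k⁻¹ := by group
      _ = _ := by rw [ye]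
  have c2 := b _ hS hC
  generalize k * y * k⁻¹ = Y at c1 c2
  have hz : v * z = z * v := zc p (p.US hv)
  have c3 : Y * (v * e) * Y⁻¹ = (Y * v * Y⁻¹) * (Y * e * Y⁻¹) := by group
  rw [c3, c2] at c1
  calc Y * e * Y⁻¹ = v⁻¹ * z⁻¹ * (z * v * (Y * e * Y⁻¹)) := by group
    _ = v⁻¹ * (z * v) * e := by rw [c1, inv_eq p.z2]; group
    _ = z * e := by rw [← hz]; group

/-- `m⁻¹` maps type `ρ f` to type `ρ`. -/
theorem m_pr (h : EE S U V z u f β l e ρ γ) (hy : y ∈ S) (hc : y ∉ 𝐂(U))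
    (ye : y * e * y⁻¹ = z * e) :
    (m)⁻¹ * y * (m) ∈ S ∧ (m)⁻¹ * y * (m) ∉ 𝐂(U) ∧
      (m)⁻¹ * y * (m) * e * ((m)⁻¹ * y * (m))⁻¹ = e := by
  have p := h.toP1
  obtain ⟨v, hv, -, a, b⟩ := me' h
  have hk := mT h
  generalize m = k at a hk
  refine ⟨S.mul_mem (S.mul_mem (S.inv_mem hk.1) hy) hk.1, fun c => hc ?_, ?_⟩
  · have hk2 : k ∈ 𝐂(U) := hk.2
    have := mul_mem (mul_mem hk2 c) (inv_mem hk2)
    simpa [mul_assoc] using this
  · have hz : v * z = z * v := zc p (p.US hv)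
    calc _ = k⁻¹ * (y * (k * e * k⁻¹) * y⁻¹) * k := by group
      _ = k⁻¹ * ((y * v * y⁻¹) * (y * e * y⁻¹)) * k := by rw [a]; group
      _ = k⁻¹ * (z * (v * z) * e) * k := by rw [b y hy hc, ye]; group
      _ = k⁻¹ * ((z * z) * (v * e)) * k := by rw [hz]; group
      _ = e := by rw [p.z2, ← a]; group

/-- the image of `U` under `m γ`. -/
theorem gU (h : EE S U V z u f β l e ρ γ) :
    m * γ * z * (m * γ)⁻¹ = z ∧
      (m * γ * u * (m * γ)⁻¹ = u * e ∨ m * γ * u * (m * γ)⁻¹ = z * (u * e)) := by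
  have p := h.toP1
  obtain ⟨v, hv, hv', a, -⟩ := me' h
  have hk := mT h
  generalize m = k at a hk
  have kz := p.cjz hk.1
  have sp : ∀ x : G, k * γ * x * (k * γ)⁻¹ = k * (γ * x * γ⁻¹) * k⁻¹ := fun x => by group
  refine ⟨by rw [sp, h.gz, kz], ?_⟩
  have a' : k * (z * e) * k⁻¹ = z * (v * e) := by
    calc _ = (k * z * k⁻¹) * (k * e * k⁻¹) := by group
      _ = _ := by rw [kz, a]
  rw [sp]
  rcases h.gu with b | b <;> rw [b] <;> rcases hv' with rfl | rfl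
  · exact Or.inl a
  · exact Or.inr (by rw [a, mul_assoc])
  · exact Or.inr a'
  · left
    rw [a', ← mul_assoc, ← mul_assoc, p.z2, one_mul]

theorem pull (h : EE S U V z u f β l e ρ γ) (hy : y ∈ S) (hc : y ∉ 𝐂(U))
    (ye : y * e * y⁻¹ = z * e) :
    ∃ x ∈ T, x * e * x⁻¹ = z * e ∧ y = m * γ * x * (m * γ)⁻¹ := by
  obtain ⟨a, b, c⟩ := m_pr h hy hc ye
  obtain ⟨d, d'⟩ := g_rf h a b c
  exact ⟨_, d, d', by group⟩

/-- products of two conjugates of `z` of type `ρ f`. -/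
theorem k1 (h : EE S U V z u f β l e ρ γ) (hf : ¬ IsConj z f) (hon : Hon S U V z (A0 f β l))
    (ht : t ∈ S) (hc : t ∉ 𝐂(U)) (te : t * e * t⁻¹ = z * e) (tz : IsConj z t)
    (ht' : t' ∈ S) (hc' : t' ∉ 𝐂(U)) (te' : t' * e * t'⁻¹ = z * e) (tz' : IsConj z t') :
    t * t' = 1 ∨ t * t' = z ∨ t * t' = u * e ∨ t * t' = z * (u * e) := by
  have p := h.toP1
  obtain ⟨x, hx, xe, rfl⟩ := pull h ht hc te
  obtain ⟨x', hx', xe', rfl⟩ := pull h ht' hc' te'
  obtain ⟨gz, gu⟩ := gU h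
  generalize m * γ = g at *
  have hU := h.uniq hf hon hx hx' (tz.trans (cj x g).symm) (tz'.trans (cj x' g).symm) xe xe'
  have sp : g * x * g⁻¹ * (g * x' * g⁻¹) = g * (x * x') * g⁻¹ := by group
  have zu : g * (z * u) * g⁻¹ = z * (g * u * g⁻¹) := by
    calc _ = (g * z * g⁻¹) * (g * u * g⁻¹) := by group
      _ = _ := by rw [gz]
  rw [sp]
  rcases p.memU.1 hU with a | a | a | a <;> rw [a]
  · left; group
  · exact Or.inr (Or.inl gz)
  · exact Or.inr (Or.inr gu)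
  · rw [zu]
    rcases gu with b | b <;> rw [b]
    · exact Or.inr (Or.inr (Or.inr rfl))
    · refine Or.inr (Or.inr (Or.inl ?_))
      rw [← mul_assoc, p.z2, one_mul]

/-- multiplying a conjugate of `z` of type `ρ f` by `u e`. -/
theorem k2 (h : EE S U V z u f β l e ρ γ) (hf : ¬ IsConj z f) (hon : Hon S U V z (A0 f β l))
    (ht : t ∈ S) (hc : t ∉ 𝐂(U)) (te : t * e * t⁻¹ = z * e) (tz : IsConj z t) :
    IsConj z (u * e * t) := by
  have p := h.toP1
  have q := h.toQ3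
  obtain ⟨x, hx, xe, rfl⟩ := pull h ht hc te
  obtain ⟨gz, gu⟩ := gU h
  generalize m * γ = g at *
  have xz : IsConj z x := tz.trans (cj x g).symm
  have xV : x ∉ 𝐂(V) := by
    intro c
    have hV := q.invA ⟨hx.1, c⟩ (conj_sq xz p.z2)
    have hU : x ∉ U := by
      intro c'
      have := (mem_centralizer_iff.1 h.eT.2) x c'
      have k : x * e * x⁻¹ = e := by rw [this]; group
      rw [xe] at k
      exact p.ne.1 (by simpa using k)
    obtain ⟨k, -, hk⟩ := q.conjf hV hU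
    exact hf (xz.trans (hk ▸ cj f k).symm)
  have on := hon x hx xV xz
  have key : ∀ v ∈ U, IsConj z (g * v * g⁻¹ * (g * x * g⁻¹)) := by
    intro v hv
    obtain ⟨a, -, ha⟩ := h.toQ4.on_conj hx on hv
    have : g * v * g⁻¹ * (g * x * g⁻¹) = (g * a) * x * (g * a)⁻¹ := by
      calc _ = g * (v * x) * g⁻¹ := by group
        _ = _ := by rw [← ha]; group
    rw [this]
    exact xz.trans (cj _ _)
  rcases gu with b | b
  · rw [← b]; exact key u p.uU
  · have : u * e = g * (z * u) * g⁻¹ := by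
      calc u * e = (z * z) * (u * e) := by rw [p.z2, one_mul]
        _ = (g * z * g⁻¹) * (g * u * g⁻¹) := by rw [gz, b]; group
        _ = _ := by group
    rw [this]
    exact key _ (U.mul_mem p.zU p.uU)

/-- a conjugate of `z` of type `ρ f` commuting with `ρ`. -/
theorem ex (h : EE S U V z u f β l e ρ γ) (hf : ¬ IsConj z f) (hon : Hon S U V z (A0 f β l)) :
    ∃ t ∈ S, t ∉ 𝐂(U) ∧ t * e * t⁻¹ = z * e ∧ IsConj z t ∧ ρ * t * (ρ * t) = 1 := by
  have p := h.toP1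
  obtain ⟨x, hx, xz, xe⟩ := h.exz
  obtain ⟨a, b, c⟩ := g_fr h hx xe
  obtain ⟨ht, hc, te⟩ := m_rp h a b c
  have tz : IsConj z (m * (γ * x * γ⁻¹) * (m)⁻¹) := (xz.trans (cj _ _)).trans (cj _ _)
  generalize m * (γ * x * γ⁻¹) * (m)⁻¹ = t at ht hc te tz
  have ri := inv_eq h.r2
  have hT : ρ * t ∈ T := p.mul_mem h.rS h.rU ht hc
  have x1e : ρ * t * e * (ρ * t)⁻¹ = z * e := by
    calc _ = ρ * (t * e * t⁻¹) * ρ⁻¹ := by group
      _ = (ρ * z * ρ⁻¹) * (ρ * e * ρ⁻¹) := by rw [te]; group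
      _ = _ := by rw [p.cjz h.rS, h.re]
  have x1u : ρ * t * u * (ρ * t)⁻¹ = u := (p.memT hT.1).1 hT.2
  have x1ue : ρ * t * (u * e) * (ρ * t)⁻¹ = z * (u * e) := by
    calc _ = (ρ * t * u * (ρ * t)⁻¹) * (ρ * t * e * (ρ * t)⁻¹) := by group
      _ = (u * z) * e := by rw [x1e, x1u]; group
      _ = _ := by rw [← p.zu]; group
  have hS : ρ * t * ρ⁻¹ ∈ S := S.mul_mem hT.1 (S.inv_mem h.rS)
  have hC : ρ * t * ρ⁻¹ ∉ 𝐂(U) := by
    intro c
    apply h.rU
    have := mul_mem (inv_mem c) hT.2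
    simpa [mul_assoc] using this
  have he : ρ * t * ρ⁻¹ * e * (ρ * t * ρ⁻¹)⁻¹ = z * e := by
    calc _ = ρ * t * (ρ⁻¹ * e * ρ⁻¹⁻¹) * (ρ * t)⁻¹ := by group
      _ = _ := by rw [ri, h.re, x1e]
  have hk := k1 h hf hon hS hC he (tz.trans (cj _ _)) ht hc te tz
  have sq : ρ * t * ρ⁻¹ * t = ρ * t * (ρ * t) := by rw [ri]; group
  rw [sq] at hk
  have cm : ρ * t * (ρ * t * (ρ * t)) * (ρ * t)⁻¹ = ρ * t * (ρ * t) := by group
  have uec : u * e = e * u := (mem_centralizer_iff.1 h.eT.2) u p.uU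
  have ue2 : u * e * (u * e) = 1 := by
    calc u * e * (u * e) = u * (e * u) * e := by group
      _ = (u * u) * (e * e) := by rw [← uec]; group
      _ = 1 := by rw [p.u2, e2 h, one_mul]
  rcases hk with k | k | k | k
  · exact ⟨t, ht, hc, te, tz, k⟩
  · have hue : u * e ∈ T := mul_mem (p.UT p.uU) h.eT
    have tue : t * (u * e) * t⁻¹ = u * e := by
      calc _ = (t * u * t⁻¹) * (t * e * t⁻¹) := by group
        _ = z * (u * z) * e := by rw [p.conj_u ht hc, te]; group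
        _ = (z * z) * (u * e) := by rw [← p.zu]; group
        _ = _ := by rw [p.z2, one_mul]
    have tue' : u * e * t = t * (u * e) := by nth_rewrite 1 [← tue]; group
    refine ⟨u * e * t, S.mul_mem hue.1 ht, fun c => hc ?_, ?_, k2 h hf hon ht hc te tz, ?_⟩
    · have hue2 : u * e ∈ 𝐂(U) := hue.2
      have := mul_mem (inv_mem hue2) c
      simpa [mul_assoc] using this
    · rw [tue']
      calc _ = t * (u * e * u⁻¹) * t⁻¹ := by group
        _ = t * e * t⁻¹ := by rw [uec]; group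
        _ = _ := te
    · rw [tue']
      calc _ = (ρ * t * (u * e) * (ρ * t)⁻¹) * (ρ * t * (ρ * t)) * (u * e) := by group
        _ = z * (u * e * z) * (u * e) := by rw [x1ue, k]; group
        _ = (z * z) * (u * e * (u * e)) := by rw [zc p hue.1]; group
        _ = 1 := by rw [p.z2, ue2, one_mul]
  · rw [k, x1ue] at cm
    exact (p.ne.1 (by simpa using cm)).elim
  · exfalso
    rw [k] at cm
    have : ρ * t * (z * (u * e)) * (ρ * t)⁻¹ = (ρ * t * z * (ρ * t)⁻¹) * (ρ * t * (u * e) * (ρ * t)⁻¹) := by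
      group
    rw [this, p.cjz hT.1, x1ue] at cm
    exact p.ne.1 (by simpa using cm)

end EK2

theorem EE.ek (h : EE S U V z u f β l e ρ γ) (hf : ¬ IsConj z f) (hon : Hon S U V z (A0 f β l)) :
    False := by
  have p := h.toP1
  have q := h.toQ3
  have r := h.toQ4
  obtain ⟨t, ht, hc, te, tz, x2⟩ := EK2.ex h hf hon
  have ri := EK2.inv_eq h.r2
  have t2 : t * t = 1 := EK2.conj_sq tz p.z2
  have ti := EK2.inv_eq t2
  have hT : ρ * t ∈ T := p.mul_mem h.rS h.rU ht hc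
  have x1e : ρ * t * e * (ρ * t)⁻¹ = z * e := by
    calc _ = ρ * (t * e * t⁻¹) * ρ⁻¹ := by group
      _ = (ρ * z * ρ⁻¹) * (ρ * e * ρ⁻¹) := by rw [te]; group
      _ = _ := by rw [p.cjz h.rS, h.re]
  have rx : ρ * (ρ * t) * ρ⁻¹ = ρ * t := by
    calc ρ * (ρ * t) * ρ⁻¹ = (ρ * ρ) * (t⁻¹ * ρ⁻¹) := by rw [ti]; group
      _ = (ρ * t)⁻¹ := by rw [h.r2]; group
      _ = ρ * t := EK2.inv_eq x2
  have tx : t = ρ * (ρ * t) := by rw [← mul_assoc, h.r2, one_mul]
  have fT : f ∈ T := q.AT (q.VA h.fV)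
  have fi := EK2.inv_eq q.f2
  rcases h.typ hT x2 x1e with ⟨v, hv, hx⟩ | ⟨a, ha, ae, a2, hx⟩
  · have c1 : IsConj ρ (ρ * f) := (r.ld h.rS h.rU h.r2 h.rb h.rf h.rl h.eT h.ef (EK2.e2 h) h.re).1
    have c2 : IsConj f ρ := by
      obtain ⟨v', hv', hU, hg⟩ := h.gv
      obtain ⟨k, -, hk⟩ := q.conjf hv' hU
      have d1 : IsConj f v' := hk ▸ EK2.cj f k
      exact d1.trans (hg ▸ EK2.cj v' γ)
    have rv : ρ * v * ρ⁻¹ = v := by
      rw [hx] at rx
      have : ρ * (v * f) * ρ⁻¹ = (ρ * v * ρ⁻¹) * (ρ * f * ρ⁻¹) := by group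
      rw [this, h.rf] at rx
      exact mul_right_cancel rx
    have c3 : IsConj (ρ * f) t := by
      rw [tx, hx]
      rcases p.fix_out h.rS h.rU hv rv with rfl | rfl
      · rw [one_mul]
      · have hS : ρ * f ∈ S := S.mul_mem h.rS fT.1
        have hC : ρ * f ∉ 𝐂(U) := by
          intro c
          have f2 : f ∈ 𝐂(U) := fT.2
          apply h.rU
          simpa using mul_mem c (inv_mem f2)
        have := p.u_conj hS hC
        rw [← mul_assoc, EK2.zc p h.rS, mul_assoc, ← this]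
        exact EK2.cj _ _
    exact hf (tz.trans ((c2.trans c1).trans c3).symm)
  · have aV : a ∈ 𝐂(V) := ha.2
    have af : f * a = a * f := (mem_centralizer_iff.1 aV) f h.fV
    have au : u * a = a * u := (mem_centralizer_iff.1 aV) u (h.UV p.uU)
    have fz : f * z = z * f := EK2.zc p fT.1
    have xf : ρ * t * f * (ρ * t)⁻¹ = z * f := by
      rw [hx]
      calc _ = f * e * (a * f) * a⁻¹ * e⁻¹ * f⁻¹ := by group
        _ = f * (e * f * e⁻¹) * f⁻¹ := by rw [← af]; group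
        _ = z * f := by rw [h.ef, ← mul_assoc, fz]; group
    have c1 := (r.ld h.rS h.rU h.r2 h.rb h.rf h.rl hT xf x2 rx).2.1
    rw [← tx] at c1
    have fe : f * e * f⁻¹ = z * e := by
      calc f * e * f⁻¹ = (z * z) * f * e * f⁻¹ := by rw [p.z2, one_mul]
        _ = z * (e * f * e⁻¹) * e * f⁻¹ := by rw [h.ef]; group
        _ = _ := by group
    have uec : u * e = e * u := (mem_centralizer_iff.1 h.eT.2) u p.uU
    have hfu : f * u ∈ T := mul_mem fT (p.UT p.uU)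
    have hS : t * f * u ∈ S := by rw [mul_assoc]; exact S.mul_mem ht hfu.1
    have hC : t * f * u ∉ 𝐂(U) := by
      intro c
      have f2 : f * u ∈ 𝐂(U) := hfu.2
      apply hc
      simpa [mul_assoc] using mul_mem c (inv_mem f2)
    have he : t * f * u * e * (t * f * u)⁻¹ = e := by
      calc _ = t * (f * (u * e) * u⁻¹ * f⁻¹) * t⁻¹ := by group
        _ = t * (f * e * f⁻¹) * t⁻¹ := by rw [uec]; group
        _ = (t * z * t⁻¹) * (t * e * t⁻¹) := by rw [fe]; group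
        _ = e := by rw [p.cjz ht, te, ← mul_assoc, p.z2, one_mul]
    obtain ⟨h3, c3, e3⟩ := EK2.m_rp h hS hC he
    have hk := EK2.k1 h hf hon h3 c3 e3 ((tz.trans c1).trans (EK2.cj _ _)) ht hc te tz
    obtain ⟨v, hv, -, me, -⟩ := EK2.me' h
    have v1 := h.sm ρ h.rS h.rU
    have v2 := V.inv_mem (r.T_mod (q.AT ha) r.m_mem)
    have hk' := EK2.mT h
    generalize m = k at *
    have ku : k * u * k⁻¹ = u := (p.memT hk'.1).1 hk'.2
    have kz := p.cjz hk'.1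
    have t2' : t * f * u = ρ * z * e * a * u := by
      rw [tx, hx]
      calc ρ * (f * e * a) * f * u = ρ * (f * e * (a * f)) * u := by group
        _ = ρ * (f * e * f⁻¹) * (f * f) * a * u := by rw [← af]; group
        _ = _ := by rw [fe, q.f2]; group
    obtain ⟨v1, hv1, k1⟩ : ∃ v1 ∈ V, k * ρ * k⁻¹ = ρ * (v1 * l) := by
      refine ⟨_, v1, ?_⟩
      calc k * ρ * k⁻¹ = (ρ * ρ) * k * ρ⁻¹ * k⁻¹ := by rw [h.r2, ri]; group
        _ = _ := by group
    obtain ⟨v2, hv2, k2⟩ : ∃ v2 ∈ V, k * a * k⁻¹ = v2 * a := ⟨_, v2, by group⟩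
    have t3 : k * (t * f * u) * k⁻¹ = ρ * (v1 * l * z * v * e * v2 * u) * a := by
      rw [t2']
      calc _ = (k * ρ * k⁻¹) * (k * z * k⁻¹) * (k * e * k⁻¹) * (k * a * k⁻¹) * (k * u * k⁻¹) := by
            group
        _ = ρ * (v1 * l * z * v * e * v2) * (a * u) := by rw [k1, kz, me, k2, ku]; group
        _ = _ := by rw [← au]; group
    have key : ∀ w : G, k * (t * f * u) * k⁻¹ * t = w →
        v1 * l * z * v * e * v2 * u = ρ * w * ρ⁻¹ * f * e := by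
      intro w hw
      have : k * (t * f * u) * k⁻¹ = w * (ρ * (f * e * a)) := by
        rw [← hx, ← tx, ← hw, mul_assoc _ t t, t2, mul_one]
      rw [t3] at this
      calc _ = ρ⁻¹ * (ρ * (v1 * l * z * v * e * v2 * u) * a) * a⁻¹ := by group
        _ = ρ⁻¹ * w * ρ * f * e := by rw [this]; group
        _ = _ := by rw [ri]
    have zV : z ∈ V := h.UV p.zU
    have uV : u ∈ V := h.UV p.uU
    have vV : v ∈ V := h.UV hv
    have case1 : ∀ w ∈ V, v1 * l * z * v * e * v2 * u = w * f * e → False := by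
      intro w hw k3
      have n1 : e * (v2 * u) * e⁻¹ ∈ V :=
        (mem_normalizer_iff.1 (h.nV h.eT.1) _).1 (V.mul_mem hv2 uV)
      have : l = v1⁻¹ * w * f * (e * (v2 * u) * e⁻¹)⁻¹ * v⁻¹ * z⁻¹ := by
        calc l = v1⁻¹ * (v1 * l * z * v * e * v2 * u) * e⁻¹ * (e * (v2 * u) * e⁻¹)⁻¹ * v⁻¹ * z⁻¹ := by
              group
          _ = _ := by rw [k3]; group
      apply r.lV
      rw [this]
      exact mul_mem (mul_mem (mul_mem (mul_mem (mul_mem (inv_mem hv1) hw) h.fV) (inv_mem n1))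
        (inv_mem vV)) (inv_mem zV)
    have case2 : ∀ w ∈ V, v1 * l * z * v * e * v2 * u = w * e * f * e → False := by
      intro w hw k3
      have VC : ∀ x ∈ V, x ∈ 𝐂(V) := fun x hx => (q.VA hx).2
      have lC : l ∈ 𝐂(V) := h.lA.2
      have : e = (v1 * l * z * v)⁻¹ * (w * (z * f)) * (v2 * u)⁻¹ := by
        calc e = (v1 * l * z * v)⁻¹ * (v1 * l * z * v * e * v2 * u) * (v2 * u)⁻¹ := by group
          _ = (v1 * l * z * v)⁻¹ * (w * (e * f * e⁻¹)) * (v2 * u)⁻¹ := by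
            rw [k3, EK2.inv_eq (EK2.e2 h)]; group
          _ = _ := by rw [h.ef]
      apply EK2.eV h
      rw [this]
      exact mul_mem (mul_mem (inv_mem (mul_mem (mul_mem (mul_mem (VC _ hv1) lC) (VC _ zV)) (VC _ vV)))
        (VC _ (mul_mem hw (mul_mem zV h.fV)))) (inv_mem (VC _ (mul_mem hv2 uV)))
    have rue : ρ * (u * e) * ρ⁻¹ = z * u * e := by
      calc _ = (ρ * u * ρ⁻¹) * (ρ * e * ρ⁻¹) := by group
        _ = _ := by rw [p.conj_u h.rS h.rU, h.re]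
    rcases hk with d | d | d | d
    · exact case1 1 V.one_mem (by rw [key _ d]; group)
    · exact case1 z zV (by rw [key _ d, p.cjz h.rS])
    · exact case2 (z * u) (mul_mem zV uV) (by rw [key _ d, rue])
    · refine case2 (z * (z * u)) (mul_mem zV (mul_mem zV uV)) ?_
      rw [key _ d]
      calc _ = (ρ * z * ρ⁻¹) * (ρ * (u * e) * ρ⁻¹) * f * e := by group
        _ = _ := by rw [p.cjz h.rS, rue]; group

end H13.R3
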