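import Mathlib
import Cfsg.Agent.Base
import Cfsg.Agent.Lib.RK3.BAS
import Cfsg.Agent.Lib.H81.G2S
import Cfsg.Agent.Lib.RK3.ToVD
import Cfsg.Agent.Lib.Rk3G.AV

/-! Simple groups of 2-rank 3, package G1 (see `blueprint/RK3/README.md`). -/

set_option autoImplicit false
set_option linter.unusedSectionVars false
set_option linter.unusedVariables false

namespace H13.R3

open Subgroup H69 H70 Cfsg H22.RK H22.RG
open scoped commutatorElement Pointwise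

variable {G : Type*} [Group G] [Finite G] {S U V M : Subgroup G}
  {z u f β l e ρ γ φ y θ t t' x a g s v w : G} {n : ℕ}

local notation "T" => S ⊓ 𝐂(U)
local notation "A" => S ⊓ 𝐂(V)
local notation "W" => U ⊔ zpowers e
local notation "m" => β * l * β⁻¹
local notation "e₂" => β * e * β⁻¹
local notation "S₀" => S ⊓ centralizer (Singleton.singleton y : Set G)

namespace G1

theorem ev {p q : G} (p2 : p * p = 1) (q2 : q * q = 1) (p1 : p ≠ 1) (q1 : q ≠ 1) (pq : p * q ≠ 1) {i j : ℤ}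
    (e : p ^ i * q ^ j = 1) : 2 ∣ i ∧ 2 ∣ j := by
  have k : ∀ {r : G}, r * r = 1 → ∀ i : ℤ, r ^ (2 * i) = 1 ∧ r ^ (2 * i + 1) = r := fun {r} r2 i => by
    have : r ^ (2 * i) = 1 := by rw [zpow_mul, zpow_two, r2, one_zpow]
    exact ⟨this, by rw [zpow_add_one, this, one_mul]⟩
  rcases Int.even_or_odd' i with ⟨i, rfl | rfl⟩ <;> rcases Int.even_or_odd' j with ⟨j, rfl | rfl⟩
  · exact ⟨dvd_mul_right _ _, dvd_mul_right _ _⟩
  · rw [(k p2 i).1, (k q2 j).2, one_mul] at e; exact absurd e q1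
  · rw [(k p2 i).2, (k q2 j).1, mul_one] at e; exact absurd e p1
  · rw [(k p2 i).2, (k q2 j).2] at e; exact absurd e pq

theorem ind {a b p q : G} (c : a * b = b * a) (a2 : a * a = p) (b2 : b * b = q) (p2 : p * p = 1) (q2 : q * q = 1)
    (p1 : p ≠ 1) (q1 : q ≠ 1) (pq : p * q ≠ 1) (i j : ℤ) :
    a ^ i * b ^ j = 1 ↔ (2 ^ 2 : ℤ) ∣ i ∧ (2 ^ 2 : ℤ) ∣ j := by
  have k : ∀ {r s : G}, r * r = s → ∀ i : ℤ, r ^ (2 * i) = s ^ i := fun {r s} e i => by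
    rw [zpow_mul, zpow_two, e]
  constructor
  · intro e
    have C : Commute (a ^ i) (b ^ j) := Commute.zpow_zpow c i j
    obtain ⟨⟨i, rfl⟩, ⟨j, rfl⟩⟩ := ev p2 q2 p1 q1 pq (i := i) (j := j) (by
      rw [← k a2, ← k b2, mul_comm 2 i, mul_comm 2 j, zpow_mul, zpow_mul, ← C.mul_zpow, e, one_zpow])
    rw [k a2, k b2] at e
    obtain ⟨⟨i, rfl⟩, ⟨j, rfl⟩⟩ := ev p2 q2 p1 q1 pq e
    exact ⟨⟨i, by ring⟩, ⟨j, by ring⟩⟩
  · rintro ⟨⟨i, rfl⟩, ⟨j, rfl⟩⟩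
    rw [show (2 : ℤ) ^ 2 * i = 2 * (2 * i) by ring, show (2 : ℤ) ^ 2 * j = 2 * (2 * j) by ring, k a2, k b2, k p2,
      k q2, one_zpow, one_zpow, one_mul]

end G1

theorem Q3.g1 (h : Q3 S U V z u f β) (hA : A ≤ V) :
    ∃ (a b f' t : G) (k : H81.G2S 2 a b f' t), k.S = S := by
  have p := h.toP1
  obtain ⟨a, aS, t, tS, a2, a3, cm, t2, tf, fa, hc⟩ := h.toVD.av hA h.fu h.syl
  have k : H81.G2S 2 a (t * a * t⁻¹) f t :=
    ⟨le_rfl, cm, G1.ind cm a2 a3 p.u2 (p.sqU (mul_mem p.zU p.uU)) p.ne.2.1 p.ne.2.2.2 (by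
      rw [p.zu, ← mul_assoc, p.u2, one_mul]; exact p.ne.1), fa, by
      calc _ = (f * t) * a * (f * t)⁻¹ := by group
        _ = t * (f * a * f⁻¹) * t⁻¹ := by rw [← tf]; group
        _ = _ := by rw [fa]; group, rfl, h.f2, t2, tf.symm⟩
  exact ⟨_, _, _, _, k, eq_of_le_of_card_ge (k.S_le aS (h.VS h.fV) tS) (by rw [k.card_S]; exact hc)⟩

end H13.R3
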