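import Mathlib
import Cfsg.Agent.Base
import Cfsg.Agent.Lib.RK3.BAS2

/-! Simple groups of 2-rank 3, package II2 (see `blueprint/RK3/README.md`). -/

set_option autoImplicit false
set_option linter.unusedSectionVars false
set_option linter.unusedVariables false

namespace H13.R3

open Subgroup H69 H70 Cfsg H22.RK H22.RG
open scoped commutatorElement Pointwise

variable {G : Type*} [Group G] [Finite G] {S U V M : Subgroup G}
  {z u f β l e ρ γ φ y θ t t' x a g s v w : G} {n : ℕ}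

local notation "T" => S ⊓ 𝐂(U)
local notation "A" => S ⊓ 𝐂(V)
local notation "W" => U ⊔ zpowers e
local notation "m" => β * l * β⁻¹
local notation "e₂" => β * e * β⁻¹
local notation "S₀" => S ⊓ centralizer (Singleton.singleton y : Set G)

namespace II2

theorem tri (h : P1 S U z u) {a b c : G} (ha : a ∈ U) (hb : b ∈ U) (hc : c ∈ U) (c1 : c ≠ 1) :
    (a = 1 ∨ a = c) ∨ (b = 1 ∨ b = c) ∨ (a * b = 1 ∨ a * b = c) := by
  have h1 := h.z2
  have h2 := h.u2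
  have h3 := h.zu.symm
  have h4 : ∀ x, z * (z * x) = x := fun x => by rw [← mul_assoc, h1, one_mul]
  have h6 : ∀ x, u * (z * x) = z * (u * x) := fun x => by rw [← mul_assoc, h3, mul_assoc]
  rcases h.memU.1 ha with ea | ea | ea | ea <;> rcases h.memU.1 hb with eb | eb | eb | eb <;>
    rcases h.memU.1 hc with ec | ec | ec | ec <;>
    first
      | exact (c1 ec).elim
      | simp only [ea, eb, ec, mul_assoc, h1, h2, h3, h4, h6, mul_one, one_mul, true_or, or_true]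

theorem gen (h : P1 S U z u) {X : Subgroup G} {a b : G} (ha : a ∈ U) (hb : b ∈ U) (a1 : a ≠ 1) (b1 : b ≠ 1)
    (ab : b ≠ a) (aX : a ∈ X) (bX : b ∈ X) : U ≤ X := fun c hc => by
  rcases tri h hc hb ha a1 with (e | e) | (e | e) | (e | e)
  · exact e ▸ one_mem X
  · exact e ▸ aX
  · exact (b1 e).elim
  · exact (ab e).elim
  · rw [eq_inv_of_mul_eq_one_left e]
    exact inv_mem bX
  · rw [eq_mul_inv_of_mul_eq e]
    exact mul_mem aX (inv_mem bX)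

theorem ex_y (h : Q4 S U V z u f β l) (he : e ∈ T) (hA : e ∉ 𝐂(V)) (h2 : e * e = 1) :
    ∃ y ∈ A0 f β l, e * y * e⁻¹ = y ∧ y * y ≠ 1 := by
  obtain ⟨c, cU, ec⟩ := h.toQ3.cf he.1
  have c1 : c ≠ 1 := fun k => hA ((h.toQ3.memA he).2 (by rw [ec, k, one_mul]))
  have key : ∀ μ ∈ A0 f β l, μ * μ ≠ 1 → (e * μ * e⁻¹ * μ⁻¹ = 1 ∨ e * μ * e⁻¹ * μ⁻¹ = c) →
      ∃ y ∈ A0 f β l, e * y * e⁻¹ = y ∧ y * y ≠ 1 := fun μ hμ sq k => by
    rcases k with k | k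
    · exact ⟨μ, hμ, mul_inv_eq_one.1 k, sq⟩
    · have c2 : c * μ = μ * c := (h.A0_le hμ).2 c (h.UV cU)
      have c3 : f * μ = μ * f := (h.A0_le hμ).2 f h.fV
      refine ⟨μ * f, mul_mem hμ (h.V_le h.fV), ?_, ?_⟩
      · rw [← conj_mul, ec, eq_mul_of_mul_inv_eq k, c2, mul_assoc, ← mul_assoc c, h.toP1.sqU cU, one_mul]
      · rwa [mul_assoc, ← mul_assoc f, c3, mul_assoc, h.toQ3.f2, mul_one]
  obtain ⟨n1, n2, -, n4⟩ := h.toP1.ne
  have hl := h.inv_mod he hA h2 h.l_mem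
  have hm := h.inv_mod he hA h2 h.m_mem
  rcases tri h.toP1 hl hm cU c1 with k | k | k
  · exact key _ h.l_mem (h.l2 ▸ n1) k
  · exact key _ h.m_mem (h.m2 ▸ n2) k
  · refine key _ (mul_mem h.l_mem h.m_mem) (h.lm2 ▸ n4) ?_
    have c2 := h.lA.2 _ (h.UV hm)
    generalize β * l * β⁻¹ = μ at *
    have : e * (l * μ) * e⁻¹ * (l * μ)⁻¹ = e * l * e⁻¹ * l⁻¹ * (l * (e * μ * e⁻¹ * μ⁻¹)) * l⁻¹ := by group
    rwa [this, ← c2, ← mul_assoc, mul_inv_cancel_right]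

theorem nJ {R : Subgroup G} (ha : a ∈ 𝐍(R)) : a ∈ 𝐍(closure {y | ∃ x ∈ R, x * x = y}) := by
  refine mem_normalizer_of_cj_le ?_
  rw [cj_le_iff, closure_le]
  rintro _ ⟨x, hx, rfl⟩
  refine mem_cj.2 (subset_closure ⟨a * x * a⁻¹, conj_mem_of_mem_normalizer ha hx, ?_⟩)
  group

/-- a transvection with centre `w` acts like an element of the Sylow subgroup -/
theorem syl_act {X P : Subgroup G} (hs : IsSylowIn 2 P 𝐍(X)) (hw : ∀ k ∈ 𝐍(X), k * w * k⁻¹ = w)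
    (hg : g ∈ 𝐍(X)) (h2 : IsPGroup 2 (zpowers g)) (h1 : ∀ y ∈ X, g * y * g⁻¹ * y⁻¹ ∈ zpowers w) :
    ∃ s ∈ P, ∀ y ∈ X, s * y * s⁻¹ = y → g * y * g⁻¹ = y := by
  have cw : ∀ k ∈ 𝐍(X), ∀ t ∈ zpowers w, k * t * k⁻¹ = t := fun k hk t ht => by
    obtain ⟨i, rfl⟩ := ht
    rw [← conj_zpow, hw k hk]
  let K : Subgroup G :=
    { carrier := {x | x ∈ 𝐍(X) ∧ ∀ y ∈ X, x * y * x⁻¹ * y⁻¹ ∈ zpowers w}
      one_mem' := ⟨one_mem _, fun y _ => by simp⟩
      mul_mem' := fun {a b} ha hb => ⟨mul_mem ha.1 hb.1, fun y hy => by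
        have := mul_mem ((cw a ha.1 _ (hb.2 y hy)).symm ▸ hb.2 y hy) (ha.2 y hy)
        convert this using 1
        group⟩
      inv_mem' := fun {a} ha => ⟨inv_mem ha.1, fun y hy => by
        have := inv_mem (ha.2 _ (conj_mem_of_mem_normalizer' ha.1 hy))
        convert this using 1
        group⟩ }
  have nK : 𝐍(X) ≤ 𝐍(K) := le_normalizer_of_cj_le fun k hk x hx => by
    obtain ⟨a, ha, rfl⟩ := mem_cj'.1 hx
    refine ⟨mul_mem (mul_mem hk ha.1) (inv_mem hk), fun y hy => ?_⟩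
    have h3 := ha.2 _ (conj_mem_of_mem_normalizer' hk hy)
    have := (cw k hk _ h3).symm ▸ h3
    convert this using 1
    group
  obtain ⟨c, hc, hle⟩ := (hs.inf_normal (N := K) (fun x hx => hx.1) nK).exists_cj_le h2
    (zpowers_le_of_mem ⟨hg, h1⟩)
  refine ⟨_, (hle (cj_mem c (mem_zpowers g))).1, fun y hy e => ?_⟩
  have h3 := (inv_mem hc).2 y hy
  have h4 := cw g hg _ h3
  have h5 : g * (c⁻¹ * y * c) * g⁻¹ = c⁻¹ * y * c := by
    conv_rhs => rw [← e]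
    group
  calc g * y * g⁻¹ = (g * (c⁻¹ * y * c⁻¹⁻¹ * y⁻¹) * g⁻¹)⁻¹ * (g * (c⁻¹ * y * c) * g⁻¹) := by group
    _ = y := by rw [h4, h5]; group

end II2

theorem Q4.ii2 (h : Q4 S U V z u f β l) (hon : Hon S U V z (A0 f β l)) (he : e ∈ T) (hA : e ∉ 𝐂(V)) (hz : IsConj z e)
    (hk : ∃ k ∈ 𝐍(W), k ∉ 𝐍(U)) (hs : IsSylowIn 2 (S ⊓ 𝐍(W)) 𝐍(W)) :
    e * f * e⁻¹ = z * f ∧ (∃ y, y * l⁻¹ ∈ V ∧ e * y * e⁻¹ = y) ∧ (∀ k ∈ 𝐍(W), k * z * k⁻¹ = z) ∧
      ∀ w ∈ closure {y | ∃ x ∈ S ⊓ 𝐂(W), x * x = y}, w ∈ W → w = 1 ∨ w = z := by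
  have p := h.toP1
  have q := h.toQ3
  have e2 : e * e = 1 := by
    obtain ⟨c, rfl⟩ := isConj_iff.1 hz
    exact sq_cj c p.z2
  have eU : e ∉ U := fun k => hA (q.VA (h.UV k)).2
  have CN : 𝐂(W) ≤ 𝐍(W) := centralizer_le_normalizer _
  have hR : IsSylowIn 2 (S ⊓ 𝐂(W)) 𝐂(W) := by
    have := hs.inf_normal CN (H69.normalizer_le_normalizer_centralizer _)
    rwa [inf_assoc, inf_eq_right.2 CN] at this
  set J := closure {y | ∃ x ∈ S ⊓ 𝐂(W), x * x = y} with hJ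
  have nJW : 𝐍(W) ≤ 𝐍((J ⊓ (W) : Subgroup G)) := fun k hk => mem_normalizer_of_cj_le fun y hy => by
    obtain ⟨x, hx, rfl⟩ := mem_cj'.1 hy
    obtain ⟨a, ha, c, hc, rfl⟩ := hR.frattini' (H69.normalizer_le_normalizer_centralizer _ hk)
    refine ⟨?_, conj_mem_of_mem_normalizer hk hx.2⟩
    have := conj_mem_of_mem_normalizer (II2.nJ ha) hx.1
    rw [← conj_eq_of_mem_centralizer hc hx.2, H13.PS.cj_cj'] at this
    exact this
  have JA : J ≤ A := (closure_le _).2 (by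
    rintro _ ⟨x, hx, rfl⟩
    exact q.sqT ⟨hx.1, centralizer_anti le_sup_left hx.2⟩)
  have JU : J ⊓ (W) ≤ U := fun y hy => by
    rcases (p.mem_sup he.2 e2).1 hy.2 with k | ⟨v, hv, rfl⟩
    · exact k
    · exact (hA ((𝐂(V).mul_mem_cancel_left (q.VA (h.UV hv)).2).1 (JA hy.1).2)).elim
  obtain ⟨y, hy, ey, y1⟩ := II2.ex_y h he hA e2
  have wU : y * y ∈ U := h.sqA0 hy
  have yT := q.AT (h.A0_le hy)
  have wJ : y * y ∈ J ⊓ (W) := ⟨subset_closure ⟨y, ⟨yT.1, cent_sup yT.2 (cent_zpowers (comm_of_cj ey))⟩, rfl⟩,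
    mem_sup_left wU⟩
  obtain ⟨k, hk, kU⟩ := hk
  have one : ∀ w ∈ J ⊓ (W), w = 1 ∨ w = y * y := fun w hw => by
    by_contra hn
    rw [not_or] at hn
    have := le_antisymm JU (II2.gen p wU (JU hw) y1 hn.1 hn.2 wJ hw)
    exact kU (this ▸ nJW hk)
  have fx : ∀ k ∈ 𝐍(W), k * (y * y) * k⁻¹ = y * y := fun k hk =>
    (one _ (conj_mem_of_mem_normalizer (nJW hk) wJ)).resolve_left fun e => y1 (by simpa using e)
  have out : ∃ s ∈ S ⊓ 𝐍(W), s ∉ 𝐂(U) := by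
    obtain ⟨a, ha, ea⟩ := h.on_conj he (hon e he hA hz) wU
    have aT := q.AT (h.A0_le ha)
    have aW := h.A0_nW he hA e2 ha
    have ea' : ∀ v ∈ U, a * (v * e) * a⁻¹ = y * y * (v * e) := fun v hv => by
      rw [← conj_mul, ea, conj_eq_of_mem_centralizer aT.2 hv, ← mul_assoc, ← mul_assoc _ v,
        (p.UT wU).2 v hv]
    obtain ⟨s, hs1, hs2⟩ := II2.syl_act (g := k * a * k⁻¹) hs fx (mul_mem (mul_mem hk aW) (inv_mem hk))
      (cj_zpowers a k ▸ isPGroup_cj (h.syl.isP.to_le (zpowers_le_of_mem aT.1)) k) fun x hx => by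
        have e1 : k * a * k⁻¹ * x * (k * a * k⁻¹)⁻¹ * x⁻¹ =
            k * (a * (k⁻¹ * x * k) * a⁻¹ * (k⁻¹ * x * k)⁻¹) * k⁻¹ := by group
        rw [e1]
        rcases (p.mem_sup he.2 e2).1 (conj_mem_of_mem_normalizer' hk hx) with k1 | ⟨v, hv, k1⟩
        · rw [conj_eq_of_mem_centralizer aT.2 k1]
          simp
        · rw [k1, ea' v hv, mul_inv_cancel_right, fx k hk]
          exact mem_zpowers _
    refine ⟨s, hs1, fun sU => kU ((inv_mem_iff (x := k)).1 (nrm_of fun x hx => ?_))⟩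
    have xW : x ∈ W := mem_sup_left hx
    have e1 := hs2 x xW (conj_eq_of_mem_centralizer sU hx)
    have e3 : a * (k⁻¹ * x * k) * a⁻¹ = k⁻¹ * x * k := by
      conv_rhs => rw [← e1]
      group
    rw [inv_inv]
    rcases (p.mem_sup he.2 e2).1 (conj_mem_of_mem_normalizer' hk xW) with k1 | ⟨v, hv, k1⟩
    · exact k1
    · rw [k1, ea' v hv, mul_eq_right] at e3
      exact (y1 e3).elim
  obtain ⟨s, hs1, sU⟩ := out
  have wz : y * y = z := (p.fix_out hs1.1 sU wU (fx s hs1.2)).resolve_left y1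
  refine ⟨?_, ⟨y, h.sq_z hy wz, ey⟩, wz ▸ fx, fun w hw hW => wz ▸ one w ⟨hw, hW⟩⟩
  obtain ⟨c, cU, ec⟩ := q.cf he.1
  have c1 : c ≠ 1 := fun k => hA ((q.memA he).2 (by rw [ec, k, one_mul]))
  have e1 := q.out_c hs1.1 he cU ec
  rcases (p.mem_sup he.2 e2).1 (conj_mem_of_mem_normalizer hs1.2 (mem_sup_right (mem_zpowers e))) with
    k1 | ⟨v, hv, k1⟩
  · have := conj_mem_of_mem_normalizer' (h.nU hs1.1) k1
    exact (eU (by simpa [mul_assoc] using this)).elim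
  · have e3 : v * e * f * (v * e)⁻¹ = v * (e * f * e⁻¹) * v⁻¹ := by group
    rw [k1, e3, ec, conj_eq_of_mem_centralizer (q.VA (h.UV hv)).2 (mul_mem (h.UV cU) h.fV), mul_left_inj] at e1
    rw [ec, (p.fix_out hs1.1 sU cU e1.symm).resolve_left c1]

end H13.R3
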