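import Mathlib
import Cfsg.Agent.Base
import Cfsg.Agent.Lib.RK3.BAS2

/-! Simple groups of 2-rank 3, package LH (see `blueprint/RK3/README.md`). -/

set_option autoImplicit false
set_option linter.unusedSectionVars false
set_option linter.unusedVariables false

namespace H13.R3

open Subgroup H69 H70 Cfsg H22.RK H22.RG
open scoped commutatorElement Pointwise

variable {G : Type*} [Group G] [Finite G] {S U V M : Subgroup G}
  {z u f β l e ρ γ φ y θ t t' x a g s v w : G} {n : ℕ}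

local notation "T" => S ⊓ 𝐂(U)
local notation "A" => S ⊓ 𝐂(V)
local notation "W" => U ⊔ zpowers e
local notation "m" => β * l * β⁻¹
local notation "e₂" => β * e * β⁻¹
local notation "S₀" => S ⊓ centralizer (Singleton.singleton y : Set G)

namespace LH

theorem sq_of_conj (h : P1 S U z u) (hz : IsConj z e) : e * e = 1 := by
  obtain ⟨c, rfl⟩ := isConj_iff.1 hz
  exact sq_cj c h.z2

theorem four (h : P1 S U z u) {c : G} (hc : c ∈ U) (c1 : c ≠ 1) (hw : w ∈ U) (w1 : w ≠ 1) (wc : w ≠ c)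
    (hv : v ∈ U) : v = 1 ∨ v = c ∨ v = w ∨ v = c * w := by
  have cm := comm_of_sq (fun _ => h.sqU) hc hw
  have k4 : Nat.card U = 4 := by
    rw [h.four.eq, card_sp2 h.z2 h.u2 h.zu h.ne.1 h.ne.2.1 h.ne.2.2.1.symm]
  have e : zpowers c ⊔ zpowers w = U :=
    eq_of_le_of_card_ge (sup_le (zpowers_le.2 hc) (zpowers_le.2 hw))
      (by rw [k4, card_sp2 (h.sqU hc) (h.sqU hw) cm c1 w1 wc])
  rwa [← e, mem_sp2 (h.sqU hc) (h.sqU hw) cm] at hv

theorem notU (h : Q3 S U V z u f β) (hA : e ∉ 𝐂(V)) : e ∉ U := fun k => hA (h.VA (h.UV k)).2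

theorem cjW {k : G} (hk : k ∈ 𝐍(U)) : (W) ^ᶜ k = U ⊔ zpowers (k * e * k⁻¹) := by
  rw [cj_sup, cj_eq_of_mem_normalizer hk, cj_zpowers]

end LH

theorem Q4.lh (h : Q4 S U V z u f β l) (hf : ¬ IsConj z f) :
    Hon S U V z (A0 f β l) := by
  intro e he hA hz
  have e2 := LH.sq_of_conj h.toP1 hz
  have eU := LH.notU h.toQ3 hA
  by_contra hn
  obtain ⟨c, hc, ec⟩ := h.cf he.1
  have c1 : c ≠ 1 := fun k => hA ((h.memA he).2 (by rw [ec, k, one_mul]))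
  have fA : f ∈ A0 f β l := h.V_le h.fV
  have cm : ∀ a ∈ A0 f β l, ∀ b ∈ A0 f β l, a * b = b * a := fun a ha b hb => h.A0_comm hb a ha
  have UA : U ≤ A0 f β l := h.UV.trans h.V_le
  have fix : ∀ a ∈ A0 f β l, ∃ b ∈ A0 f β l, e * b * e⁻¹ = b ∧ b * b = a * a := fun a ha => by
    have k := h.inv_mod he hA e2 ha
    have ea : e * a * e⁻¹ = e * a * e⁻¹ * a⁻¹ * a := by group
    generalize e * a * e⁻¹ * a⁻¹ = w at k ea
    have af : e * (a * f) * e⁻¹ = c * w * (a * f) := by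
      rw [cj_mul, ea, ec, mul_assoc w, ← mul_assoc a, cm a ha c (UA hc), ← mul_assoc, ← mul_assoc,
        cm w (UA k) c (UA hc), mul_assoc (c * w)]
    by_cases w1 : w = 1
    · exact ⟨a, ha, by rw [ea, w1, one_mul], rfl⟩
    by_cases wc : w = c
    · refine ⟨a * f, mul_mem ha fA, by rw [af, wc, h.sqU hc, one_mul], ?_⟩
      rw [mul_assoc, ← mul_assoc f, cm f fA a ha, mul_assoc a f, h.f2, mul_one]
    refine absurd (fun v hv => ?_) hn
    rcases LH.four h.toP1 hc c1 k w1 wc hv with rfl | rfl | rfl | rfl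
    · exact ⟨1, one_mem _, by group⟩
    · exact ⟨f, fA, ec⟩
    · exact ⟨a, ha, ea⟩
    · exact ⟨a * f, mul_mem ha fA, af⟩
  have sq : ∀ v ∈ U, ∃ b ∈ A0 f β l, e * b * e⁻¹ = b ∧ b * b = v := fun v hv => by
    rcases h.memU.1 hv with rfl | k | k | k
    · exact ⟨1, one_mem _, by group, by group⟩
    · rw [k, ← h.l2]; exact fix _ h.l_mem
    · rw [k, ← h.m2]; exact fix _ h.m_mem
    · rw [k, ← h.lm2]; exact fix _ (mul_mem h.l_mem h.m_mem)
  obtain ⟨g, hg⟩ := isConj_iff.1 hz.symm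
  have l1 : A0 f β l ⊓ centralizer {e} ⊔ zpowers e ≤ S :=
    sup_le (inf_le_left.trans (h.A0_le.trans inf_le_left)) (zpowers_le.2 he.1)
  obtain ⟨k, hk, hR⟩ := H45.NE8.ext_central h.syl h.cz hg (h.syl.isP.to_le l1)
    (sup_le inf_le_right (zpowers_le.2 (mcs.2 (by group))))
  have bS : ∀ b ∈ A0 f β l, e * b * e⁻¹ = b → k * b * k⁻¹ ∈ S := fun b hb eb =>
    hR (cj_mem k (mem_sup_left (mem_inf.2 ⟨hb, mcs.2 (cj_symm eb)⟩)))
  have sqk : ∀ b : G, k * (b * b) * k⁻¹ = k * b * k⁻¹ * (k * b * k⁻¹) := fun b => cj_mul k b b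
  have w8 := e8_cj (h.e8_sup he.2 eU e2) k
  have WT : (U ⊔ zpowers e) ^ᶜ k ≤ 𝐂(U) := by
    rw [cj_sup, cj_zpowers, hk]
    refine sup_le (fun x hx => ?_) (zpowers_le.2 (h.UT h.zU).2)
    obtain ⟨v, hv, rfl⟩ := mem_cj'.1 hx
    obtain ⟨b, hb, eb, rfl⟩ := sq v hv
    rw [sqk]
    exact (h.sq_mem (bS b hb eb)).2
  have UW := h.le_e8 w8 WT
  have kU : k ∈ 𝐍(U) := nrm_of fun v hv => by
    obtain ⟨b, hb, eb, e'⟩ := sq v hv
    have bT : k * b * k⁻¹ ∈ T := by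
      refine ⟨bS b hb eb, centralizer_anti UW ?_⟩
      rw [← cj_centralizer]
      exact cj_mem k (cent_sup (h.AT (h.A0_le hb)).2 (cent_zpowers (comm_of_cj eb)))
    have vA : k * v * k⁻¹ ∈ A := by rw [← e', sqk]; exact h.sqT bT
    by_contra hU
    obtain ⟨x, -, ex⟩ := h.conjf (h.invA vA (sq_cj k (h.sqU hv))) hU
    have v1 : v ≠ 1 := fun k' => hU (by rw [k', mul_one, mul_inv_cancel]; exact one_mem _)
    exact hf ((h.conjU hv v1).trans ((isConj_iff.2 ⟨k, rfl⟩ : IsConj v _).trans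
      (isConj_iff.2 ⟨x, ex⟩ : IsConj f _).symm))
  have := conj_mem_of_mem_normalizer' kU h.zU
  rw [← hk] at this
  exact eU (by simpa [mul_assoc] using this)

theorem Q4.mv (h : Q4 S U V z u f β l) (hon : Hon S U V z (A0 f β l)) (he : e ∈ T) (hA : e ∉ 𝐂(V)) (hz : IsConj z e) :
    ∃ k ∈ 𝐍(W), k ∉ 𝐍(U) := by
  have e2 := LH.sq_of_conj h.toP1 hz
  have eU := LH.notU h.toQ3 hA
  have w8 := h.e8_sup he.2 eU e2
  by_contra hn
  push Not at hn
  obtain ⟨g0, hg0⟩ := isConj_iff.1 hz.symm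
  obtain ⟨g, hg, hX⟩ := H45.NE8.ext_central h.syl h.cz hg0 (isP_of_sq w8.sq)
    (fun x hx => mcs.2 (E8.cj w8 hx (mem_sup_right (mem_zpowers e))))
  have x8 := e8_cj w8 g
  have zX : z ∈ (W) ^ᶜ g := hg ▸ cj_mem g (mem_sup_right (mem_zpowers e))
  have YX : U ^ᶜ g ≤ (W) ^ᶜ g := cj_mono g le_sup_left
  have zY : z ∉ U ^ᶜ g := fun k => eU (by rwa [← hg, cj_mem_iff] at k)
  have key : ∀ k ∈ 𝐍((W) ^ᶜ g), ∀ w ∈ U ^ᶜ g, k * w * k⁻¹ ≠ z * w := fun k hk w hw e' => by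
    rw [← cj_normalizer, mem_cj] at hk
    have k2 := hn _ hk
    rw [← mem_cj, cj_normalizer] at k2
    have := mul_mem (conj_mem_of_mem_normalizer k2 hw) (inv_mem hw)
    rw [e', mul_inv_cancel_right] at this
    exact zY this
  by_cases hY : U ^ᶜ g ≤ 𝐂(U)
  · have XT : (W) ^ᶜ g ≤ 𝐂(U) := by
      rw [cj_sup, cj_zpowers, hg]
      exact sup_le hY (zpowers_le.2 (h.UT h.zU).2)
    have UX := h.le_e8 x8 XT
    have : ¬ U ^ᶜ g ≤ U := fun k => zY (by rw [cj_eq_of_cj_le k]; exact h.zU)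
    obtain ⟨w, hw, wU⟩ := SetLike.not_le_iff_exists.1 this
    have wT : w ∈ T := ⟨hX (YX hw), hY hw⟩
    have w2 : w * w = 1 := x8.sq w (YX hw)
    have eX : U ⊔ zpowers w = (W) ^ᶜ g :=
      (h.e8_sup wT.2 wU w2).eq_of_le' x8 (sup_le UX (zpowers_le.2 (YX hw)))
    by_cases wA : w ∈ 𝐂(V)
    · have wV := h.invA ⟨wT.1, wA⟩ w2
      have eV : (W) ^ᶜ g = V := x8.eq_of_le' h.e8 (eX ▸ sup_le h.UV (zpowers_le.2 wV))
      obtain ⟨k, hk, ek⟩ := h.onto h.zU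
      obtain ⟨v, hv, rfl⟩ := (h.memV.1 wV).resolve_left wU
      refine key k (by rw [eV]; exact h.nV hk.1) _ hw ?_
      rw [cj_mul, ek, conj_eq_of_mem_centralizer hk.2 hv, ← mul_assoc, ← mul_assoc,
        comm_of_sq (fun _ => h.sqU) hv h.zU]
    · have wz : IsConj z w := by
        obtain ⟨v, hv, rfl⟩ := mem_cj'.1 hw
        have v1 : v ≠ 1 := fun k' => wU (by rw [k', mul_one, mul_inv_cancel]; exact one_mem _)
        exact (h.conjU hv v1).trans (isConj_iff.2 ⟨g, rfl⟩)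
      obtain ⟨a, ha, ea⟩ := h.on_conj wT (hon w wT wA wz) h.zU
      exact key a (by rw [← eX]; exact h.A0_nW wT wA w2 ha) w hw ea
  · obtain ⟨w, hw, wT⟩ := SetLike.not_le_iff_exists.1 hY
    refine key u (nrm_of fun x hx => ?_) w hw (h.u_conj (hX (YX hw)) wT)
    by_cases hx' : x ∈ 𝐂(U)
    · rwa [cj_symm (conj_eq_of_mem_centralizer hx' h.uU)]
    · rw [h.u_conj (hX hx) hx']
      exact mul_mem zX hx

theorem Q4.ii1 (h : Q4 S U V z u f β l) (hon : Hon S U V z (A0 f β l)) (he : e ∈ T) (hA : e ∉ 𝐂(V)) (hz : IsConj z e)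
    (hV : ∀ k ∈ 𝐍(U), (W) ^ᶜ k ≠ V) :
    ∃ k ∈ 𝐍(U), k * e * k⁻¹ ∈ T ∧ k * e * k⁻¹ ∉ 𝐂(V) ∧
      IsSylowIn 2 (S ⊓ 𝐍(U ⊔ zpowers (k * e * k⁻¹))) 𝐍(U ⊔ zpowers (k * e * k⁻¹)) := by
  haveI := Fact.mk Nat.prime_two
  have e2 := LH.sq_of_conj h.toP1 hz
  have eU := LH.notU h.toQ3 hA
  have w8 := h.e8_sup he.2 eU e2
  obtain ⟨P, hP, lP⟩ := exists_isSylowIn_le (R := S ⊓ 𝐍(W)) (L := 𝐍(W))
    (h.syl.isP.to_le inf_le_left) inf_le_right
  have eW : e ∈ W := mem_sup_right (mem_zpowers e)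
  have eP : e ∈ P := lP ⟨he.1, le_normalizer eW⟩
  have l1 : U ≤ ⁅W, P⁆ := fun v hv => by
    obtain ⟨a, ha, ea⟩ := h.on_conj he (hon e he hA hz) hv
    have : v = ⁅a, e⁆ := by rw [commutatorElement_def, ea, mul_inv_cancel_right]
    rw [this, commutator_comm]
    exact commutator_mem_commutator (lP ⟨(h.A0_le ha).1, h.A0_nW he hA e2 ha⟩) eW
  have l2 : ⁅W, P⁆ < W := commutator_lt_of_isPGroup (isP_of_sq w8.sq) hP.isP hP.le w8.ne_bot
  have l3 : ⁅W, P⁆ = U := by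
    refine le_antisymm (fun x hx => ?_) l1
    refine ((h.mem_sup he.2 e2).1 (l2.le hx)).resolve_right ?_
    rintro ⟨v, hv, rfl⟩
    refine l2.not_ge (sup_le l1 (zpowers_le.2 ?_))
    simpa using mul_mem (inv_mem (l1 hv)) hx
  have nU : P ≤ 𝐍(U) := by
    rw [← l3]; exact le_normalizer_commutator hP.le le_normalizer
  obtain ⟨k, hk, kS⟩ := (h.syl.mono h.nU le_top).exists_cj_le hP.isP nU
  have eT : k * e * k⁻¹ ∈ T := ⟨kS (cj_mem k eP),
    conj_mem_of_mem_normalizer (H69.normalizer_le_normalizer_centralizer U hk) he.2⟩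
  refine ⟨k, hk, eT, fun c => hV k hk ?_, ?_⟩
  · refine (e8_cj w8 k).eq_of_le' h.e8 ?_
    rw [LH.cjW hk]
    exact sup_le h.UV (zpowers_le.2 (h.invA ⟨eT.1, c⟩ (sq_cj k e2)))
  · have s1 := hP.cj k
    rw [cj_normalizer, LH.cjW hk] at s1
    rwa [s1.max _ (le_inf kS s1.le) inf_le_right (h.syl.isP.to_le inf_le_left)]

end H13.R3
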