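import Mathlib
import Cfsg.Agent.Base
import Cfsg.Agent.Lib.RK3.BAS2

/-! Simple groups of 2-rank 3, package REINV (see `blueprint/RK3/README.md`). -/

set_option autoImplicit false
set_option linter.unusedSectionVars false
set_option linter.unusedVariables false

namespace H13.R3

open Subgroup H69 H70 Cfsg H22.RK H22.RG
open scoped commutatorElement Pointwise

variable {G : Type*} [Group G] [Finite G] {S U V M : Subgroup G}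
  {z u f β l e ρ γ φ y θ t t' x a g s v w : G} {n : ℕ}

local notation "T" => S ⊓ 𝐂(U)
local notation "A" => S ⊓ 𝐂(V)
local notation "W" => U ⊔ zpowers e
local notation "m" => β * l * β⁻¹
local notation "e₂" => β * e * β⁻¹
local notation "S₀" => S ⊓ centralizer (Singleton.singleton y : Set G)

namespace REINV

theorem act (h : Q3 S U V z u f β) (rS : ρ ∈ S) (rU : ρ ∉ 𝐂(U)) (r2 : ρ * ρ = 1) :
    ∃ b : G, (∃ j, b ^ 3 ^ j = 1) ∧ ρ * b * ρ⁻¹ = b⁻¹ ∧ b ^ 3 ∈ 𝐂(T) ∧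
      ∃ t ∈ T, ∀ x ∈ T, b * x * b⁻¹ = t * (β * x * β⁻¹) * t⁻¹ := by
  have nD : 𝐍(T) ≤ 𝐍((T) ⊔ 𝐂(T)) := H69.le_normalizer_sup le_rfl (H69.normalizer_le_normalizer_centralizer _)
  have dec : ∀ {g : G}, g ∈ (T) ⊔ 𝐂(T) → ∃ a ∈ T, ∃ c ∈ 𝐂(T), g = a * c := fun hg =>
    (mem_sup_of_le_normalizer_right (le_normalizer.trans (H69.normalizer_le_normalizer_centralizer _))).1 hg
  have st : ∀ g : G, g * β⁻¹ ∈ (T) ⊔ 𝐂(T) → ∀ n : ℕ, g ^ n * (β ^ n)⁻¹ ∈ (T) ⊔ 𝐂(T) := fun g hg n => by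
    induction n with
    | zero => simp
    | succ n ih =>
      rw [show g ^ (n + 1) * (β ^ (n + 1))⁻¹ = g ^ n * (β ^ n)⁻¹ * (β ^ n * (g * β⁻¹) * (β ^ n)⁻¹) by group]
      exact mul_mem ih (conj_mem_of_mem_normalizer (nD (pow_mem h.nT n)) hg)
  have ri : ρ⁻¹ = ρ := inv_eq_of_mul_eq_one_right r2
  have d1 : ρ * β * ρ⁻¹ * β⁻¹ * β⁻¹ ∈ (T) ⊔ 𝐂(T) := by
    rw [show ρ * β * ρ⁻¹ * β⁻¹ * β⁻¹ = β⁻¹ * (β * ρ * β * ρ⁻¹) * β * (β ^ 3)⁻¹ by group]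
    exact mul_mem (mem_sup_left (conj_mem_of_mem_normalizer' h.nT (h.inv ρ rS rU)))
      (mem_sup_right (inv_mem h.cube))
  have d2 : ρ * (ρ * β * ρ⁻¹ * β⁻¹) * ρ⁻¹ = (ρ * β * ρ⁻¹ * β⁻¹)⁻¹ := by
    rw [show ρ * (ρ * β * ρ⁻¹ * β⁻¹) * ρ⁻¹ = ρ * ρ * β * ρ⁻¹ * β⁻¹ * ρ⁻¹ by group, r2,
      show (ρ * β * ρ⁻¹ * β⁻¹)⁻¹ = β * ρ * β⁻¹ * ρ⁻¹ by group, ri, one_mul]
  generalize ρ * β * ρ⁻¹ * β⁻¹ = δ at d1 d2
  obtain ⟨k, j, -, e, -, k3, -⟩ := H45.NE8.exists_three_part δ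
  have d3 : δ ^ k * β⁻¹ ∈ (T) ⊔ 𝐂(T) := by
    have : β ^ k = (β ^ 3) ^ (k / 3) * β := by
      rw [← pow_mul, ← pow_succ]; congr 1; omega
    rw [show δ ^ k * β⁻¹ = δ ^ k * (β ^ k)⁻¹ * (β ^ k * β⁻¹) by group]
    refine mul_mem (st δ d1 k) ?_
    rw [this, mul_inv_cancel_right]
    exact mem_sup_right (pow_mem h.cube _)
  refine ⟨δ ^ k, ⟨j, e⟩, by rw [← conj_pow, d2, inv_pow], ?_, ?_⟩
  · have : (δ ^ k) ^ 3 ∈ (T) ⊔ 𝐂(T) := by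
      simpa using mul_mem (st _ d3 3) (mem_sup_right h.cube)
    obtain ⟨a, ha, c, hc, e'⟩ := dec this
    have cm : Commute a c := hc a ha
    have e3 : a ^ 3 ^ j * c ^ 3 ^ j = 1 := by
      rw [← cm.mul_pow, ← e', ← pow_mul, mul_comm, pow_mul, e, one_pow]
    obtain ⟨i, hi⟩ := H69.isPGroup_iff_mem.1 h.syl.isP a ha.1
    obtain ⟨r, hr⟩ := exists_pow_eq_self_of_coprime (x := a) (n := 3 ^ j)
      (Nat.Coprime.coprime_dvd_right (orderOf_dvd_of_pow_eq_one hi) (Nat.Coprime.pow _ _ (by norm_num)))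
    rw [e', ← hr, eq_inv_of_mul_eq_one_left e3]
    exact mul_mem (pow_mem (inv_mem (pow_mem hc _)) _) hc
  · obtain ⟨a, ha, c, hc, e'⟩ := dec d3
    refine ⟨a, ha, fun x hx => ?_⟩
    rw [mul_inv_eq_iff_eq_mul.1 e', ← conj_eq_of_mem_centralizer hc (conj_mem_of_mem_normalizer h.nT hx)]
    group

end REINV

theorem Q4.reinv (h : Q4 S U V z u f β l) (rS : ρ ∈ S) (rU : ρ ∉ 𝐂(U)) (r2 : ρ * ρ = 1) :
    ∃ f' β' l' : G, Q4 S U V z u f' β' l' ∧ ρ * β' * ρ⁻¹ = β'⁻¹ ∧ ρ * f' * ρ⁻¹ = f' ∧ ρ * l' * ρ⁻¹ = l' ∧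
      f' * f⁻¹ ∈ U ∧ l' * l⁻¹ ∈ V ∧ A0 f' β' l' = A0 f β l := by
  have q := h.toQ3
  have p := q.toP1
  obtain ⟨b, b3, rb, cb, t, ht, ac⟩ := REINV.act q rS rU r2
  have ri : ρ⁻¹ = ρ := inv_eq_of_mul_eq_one_right r2
  have VT : V ≤ T := q.VA.trans q.AT
  have nb : ∀ {X : Subgroup G}, X ≤ T → S ≤ 𝐍(X) → β ∈ 𝐍(X) → b ∈ 𝐍(X) := fun h1 h2 h3 =>
    nrm_of fun x hx => by
      rw [ac x (h1 hx)]
      exact conj_mem_of_mem_normalizer (h2 ht.1) (conj_mem_of_mem_normalizer h3 hx)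
  have bT : b ∈ 𝐍(T) := nb le_rfl p.nT q.nT
  haveI : Fact (Nat.Prime 2) := ⟨Nat.prime_two⟩
  obtain ⟨i, hi⟩ := IsPGroup.iff_card.1 (p.syl.isP.to_le p.US)
  obtain ⟨f', fU, bf⟩ := H45.NE8.exists_fix_coset (k := 1) Nat.prime_three (β := b) (v := f) (K := U)
    (fun c => by
      rw [hi] at c
      exact absurd (Nat.prime_three.dvd_of_dvd_pow c) (by norm_num)) p.UT (VT q.fV) (by simpa using cb)
    (nb p.UT p.nU q.bU) (by rw [ac f (VT q.fV), q.bf]; exact q.cmV ht.1 q.fV)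
  have q' : Q3 S U V z u f' b :=
    { toP1 := p, three := b3, nT := bT, e8 := q.e8, UV := q.UV, VS := q.VS, nV := q.nV, bf := bf, cube := cb
      rz := by rw [ac z (p.UT p.zU), q.rz, conj_eq_of_mem_centralizer ht.2 p.uU]
      ru := by rw [ac u (p.UT p.uU), q.ru, conj_eq_of_mem_centralizer ht.2 (mul_mem p.zU p.uU)]
      inv := fun s hs hc => by
        have k := p.mul_mem hs hc rS rU
        rw [show b * s * b * s⁻¹ = b * (s * ρ⁻¹) * (ρ * b * ρ⁻¹) * (s * ρ⁻¹)⁻¹ by group, rb, ri]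
        exact mul_mem (conj_mem_of_mem_normalizer bT k) (inv_mem k)
      fV := by simpa using mul_mem (q.UV fU) q.fV
      fU := fun c => q.fU (by simpa using mul_mem (inv_mem fU) c) }
  have rb' : ∀ x, b * (ρ * x * ρ⁻¹) * b⁻¹ = ρ * (b⁻¹ * x * b) * ρ⁻¹ := fun x => by
    have e : b = ρ * b⁻¹ * ρ⁻¹ := by
      rw [← rb, show ρ * (ρ * b * ρ⁻¹) * ρ⁻¹ = ρ * ρ * b * (ρ * ρ)⁻¹ by group, r2]; group
    calc _ = ρ * b⁻¹ * ρ⁻¹ * (ρ * x * ρ⁻¹) * (ρ * b * ρ⁻¹) := by rw [← e, rb]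
      _ = _ := by group
  have rf : ρ * f' * ρ⁻¹ = f' := by
    refine (q'.bfix (conj_mem_of_mem_normalizer (p.nT rS) (VT q'.fV)) (sq_cj ρ q'.f2) ?_).resolve_left ?_
    · rw [rb', show b⁻¹ * f' * b = f' by
        rw [mul_assoc, inv_mul_eq_iff_eq_mul]; exact (mul_inv_eq_iff_eq_mul.1 bf).symm]
    · rw [conj_eq_one_iff]; rintro rfl; exact q'.fU (one_mem _)
  have BT : A0 f β l ≤ T := h.A0_le.trans q.AT
  have bB : ∀ {a}, a ∈ A0 f β l → b * a * b⁻¹ ∈ A0 f β l := fun ha =>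
    conj_mem_of_mem_normalizer (nb BT h.nA0 h.bA0) ha
  have rB : ∀ {a}, a ∈ A0 f β l → ρ * a * ρ⁻¹ ∈ A0 f β l := fun ha =>
    conj_mem_of_mem_normalizer (h.nA0 rS) ha
  have c : ∀ {a a'}, a ∈ A0 f β l → a' ∈ A0 f β l → Commute a a' := fun ha ha' => h.A0_comm ha' _ ha
  obtain ⟨N, hN⟩ : ∃ N : G → G, ∀ a, N a = a * (b * a * b⁻¹) * (b * (b * a * b⁻¹) * b⁻¹) := ⟨_, fun _ => rfl⟩
  have Nm : ∀ {a a'}, a ∈ A0 f β l → a' ∈ A0 f β l → N (a * a') = N a * N a' := fun {a a'} ha ha' => by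
    rw [hN, hN, hN, cj_mul b a, cj_mul b (b * a * b⁻¹), (c ha' (bB ha)).mul_mul_mul_comm, (c (mul_mem ha' (bB ha')) (bB (bB ha))).mul_mul_mul_comm]
  have N1 : ∀ {a}, a ∈ A0 f β l → N a = 1 ∨ N a = f' := fun {a} ha => by
    have k : N a ∈ A0 f β l := hN a ▸ mul_mem (mul_mem ha (bB ha)) (bB (bB ha))
    have e : b * N a * b⁻¹ = N a := by
      rw [hN, cj_mul, cj_mul, q'.b3 (BT (bB ha)), show b⁻¹ * (b * a * b⁻¹) * b = a by group,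
        (c (mul_mem (bB ha) (bB (bB ha))) ha).eq, ← mul_assoc a]
    exact q'.bfix (BT k) (q'.bU_fix (h.sqA0 k) (by rw [cj_mul, e])) e
  have Nr : ∀ {a}, a ∈ A0 f β l → N (ρ * a * ρ⁻¹) = ρ * N a * ρ⁻¹ := fun {a} ha => by
    rw [hN, hN, rb', rb', ← q'.b3 (BT ha), show b⁻¹ * (b * (b * a * b⁻¹) * b⁻¹) * b = b * a * b⁻¹ by group,
      (c (bB ha) (bB (bB ha))).right_comm a,
      cj_mul ρ (a * _), cj_mul ρ a]
  have fB := h.V_le q'.fV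
  obtain ⟨v, hv, e0⟩ : ∃ v ∈ V, N (m * v) = 1 := by
    rcases N1 h.m_mem with e | e
    · exact ⟨1, one_mem _, by rwa [mul_one]⟩
    · exact ⟨f', q'.fV, by rw [Nm h.m_mem fB, e, hN, bf, bf, q'.f2, one_mul, q'.f2]⟩
  have vB := h.V_le hv
  have m0 := mul_mem h.m_mem vB
  obtain ⟨l', hl⟩ : ∃ l', l' = m * v * (ρ * (m * v) * ρ⁻¹) := ⟨_, rfl⟩
  have lB : l' ∈ A0 f β l := hl ▸ mul_mem m0 (rB m0)
  have nV : ∀ {s x}, s ∈ S → x ∈ V → s * x * s⁻¹ ∈ V := fun hs hx => conj_mem_of_mem_normalizer (q.nV hs) hx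
  have mS : m ∈ S := h.mA.1
  have lV : l' * l⁻¹ ∈ V := by
    have e : l' * l⁻¹ = m * (v * (ρ * (m) * ρ⁻¹ * (l * (m))⁻¹)) * (m)⁻¹ * (m * (l * (m)) * l⁻¹) *
        (l * (ρ * v * ρ⁻¹) * l⁻¹) := by rw [hl]; group
    rw [e, h.lm, show m * (m * l) * l⁻¹ = m * (m) by group, h.m2]
    rw [← h.lm]
    exact mul_mem (mul_mem (nV mS (mul_mem hv (h.sm ρ rS rU))) (q.UV p.uU)) (nV h.lA.1 (nV rS hv))
  have mV : b * l' * b⁻¹ * (m)⁻¹ ∈ V := by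
    rw [ac l' (BT lB), show t * (β * l' * β⁻¹) * t⁻¹ * (m)⁻¹ =
      t * (β * (l' * l⁻¹) * β⁻¹) * t⁻¹ * (t * (m) * t⁻¹ * (m)⁻¹) by group]
    exact mul_mem (nV ht.1 (conj_mem_of_mem_normalizer q.bV lV)) (h.T_mod ht h.m_mem)
  have h' : Q4 S U V z u f' b l' :=
    { toQ3 := q', lA := h.A0_le lB, l2 := (h.sq_l lV).2.1, lm := (c lB (bB lB)).eq
      lS := fun s hs => by
        rw [show s * l' * s⁻¹ * l'⁻¹ = s * (l' * l⁻¹) * s⁻¹ * (s * l * s⁻¹ * l⁻¹) * (l' * l⁻¹)⁻¹ by group]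
        exact mul_mem (mul_mem (nV hs lV) (h.lS s hs)) (inv_mem lV)
      nm := by rw [← hN, hl, Nm m0 (rB m0), Nr m0, e0]; group
      sm := fun s hs hc => by
        rw [show s * (b * l' * b⁻¹) * s⁻¹ * (l' * (b * l' * b⁻¹))⁻¹ =
          s * (b * l' * b⁻¹ * (m)⁻¹) * s⁻¹ * (s * (m) * s⁻¹ * (l * (m))⁻¹) *
            (l * (b * l' * b⁻¹ * (m)⁻¹)⁻¹ * l⁻¹) * (l' * l⁻¹)⁻¹ by group]
        exact mul_mem (mul_mem (mul_mem (nV hs mV) (h.sm s hs hc)) (nV h.lA.1 (inv_mem mV))) (inv_mem lV) }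
  refine ⟨f', b, l', h', rb, rf, ?_, fU, lV, le_antisymm ((closure_le _).2 ?_) ((closure_le _).2 ?_)⟩
  · rw [hl, cj_mul ρ (m * v), (c m0 (rB m0)).eq]
    congr 1
    rw [show ρ * (ρ * (m * v) * ρ⁻¹) * ρ⁻¹ = ρ * ρ * (m * v) * (ρ * ρ)⁻¹ by group, r2]; group
  · rintro _ (rfl | rfl | rfl)
    exacts [fB, lB, bB lB]
  · rintro _ (rfl | rfl | rfl)
    · exact h'.V_le q.fV
    · simpa using mul_mem (inv_mem (h'.V_le lV)) h'.l_mem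
    · have := mul_mem (inv_mem (h'.V_le mV)) h'.m_mem
      rwa [mul_inv_rev, inv_inv, inv_mul_cancel_right] at this

end H13.R3
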