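import Mathlib
import Cfsg.Agent.Base
import Cfsg.Agent.Lib.RK3.II2
import Cfsg.Agent.Lib.RK3.LH
import Cfsg.Agent.Lib.RK3.REINV

/-! Simple groups of 2-rank 3, package II3 (see `blueprint/RK3/README.md`). -/

set_option autoImplicit false
set_option linter.unusedSectionVars false
set_option linter.unusedVariables false

namespace H13.R3

open Subgroup H69 H70 Cfsg H22.RK H22.RG
open scoped commutatorElement Pointwise

variable {G : Type*} [Group G] [Finite G] {S U V M : Subgroup G}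
  {z u f β l e ρ γ φ y θ t t' x a g s v w : G} {n : ℕ}

local notation "T" => S ⊓ 𝐂(U)
local notation "A" => S ⊓ 𝐂(V)
local notation "W" => U ⊔ zpowers e
local notation "m" => β * l * β⁻¹
local notation "e₂" => β * e * β⁻¹
local notation "S₀" => S ⊓ centralizer (Singleton.singleton y : Set G)

namespace II3

/-- the elements fixing `z` and acting trivially on `X / ⟨z⟩`. -/
def K0 (X : Subgroup G) (z : G) (z2 : z * z = 1) : Subgroup G where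
  carrier := {x | x * z * x⁻¹ = z ∧ St0 X z x}
  one_mem' := ⟨by simp, fun w _ => Or.inl (by simp)⟩
  mul_mem' := by
    rintro a b ⟨a1, a2⟩ ⟨b1, b2⟩
    refine ⟨?_, fun w hw => ?_⟩
    · calc a * b * z * (a * b)⁻¹ = a * (b * z * b⁻¹) * a⁻¹ := by group
        _ = z := by rw [b1, a1]
    · have e1 : a * b * w * (a * b)⁻¹ = a * (b * w * b⁻¹) * a⁻¹ := by group
      have e2 : a * (z * w) * a⁻¹ = z * (a * w * a⁻¹) := by
        calc a * (z * w) * a⁻¹ = a * z * a⁻¹ * (a * w * a⁻¹) := by group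
          _ = _ := by rw [a1]
      rw [e1]
      rcases b2 w hw with hb | hb
      · rw [hb]; exact a2 w hw
      · rw [hb, e2]
        rcases a2 w hw with ha | ha
        · rw [ha]; exact Or.inr rfl
        · rw [ha, ← mul_assoc, z2, one_mul]; exact Or.inl rfl
  inv_mem' := by
    rintro a ⟨a1, a2⟩
    have a3 : a⁻¹ * z * a⁻¹⁻¹ = z := by
      calc a⁻¹ * z * a⁻¹⁻¹ = a⁻¹ * (a * z * a⁻¹) * a⁻¹⁻¹ := by rw [a1]
        _ = z := by group
    refine ⟨a3, fun w hw => ?_⟩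
    rcases a2 w hw with ha | ha
    · left
      calc a⁻¹ * w * a⁻¹⁻¹ = a⁻¹ * (a * w * a⁻¹) * a⁻¹⁻¹ := by rw [ha]
        _ = w := by group
    · right
      have e1 : w = z * (a * w * a⁻¹) := by rw [ha, ← mul_assoc, z2, one_mul]
      calc a⁻¹ * w * a⁻¹⁻¹ = a⁻¹ * (z * (a * w * a⁻¹)) * a⁻¹⁻¹ := by rw [← e1]
        _ = a⁻¹ * z * a⁻¹⁻¹ * w := by group
        _ = z * w := by rw [a3]

theorem mem_K0 {X : Subgroup G} {z2 : z * z = 1} : x ∈ K0 X z z2 ↔ x * z * x⁻¹ = z ∧ St0 X z x := Iff.rfl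

theorem K0_le {X Y : Subgroup G} (z2 : z * z = 1) (hY : Y ≤ X) (hz : z ∈ Y) : K0 X z z2 ≤ 𝐍(Y) := by
  intro x hx
  refine mem_normalizer_of_cj_le fun w hw => ?_
  obtain ⟨b, hb, rfl⟩ := mem_cj'.1 hw
  rcases hx.2 b (hY hb) with h1 | h1
  · rw [h1]; exact hb
  · rw [h1]; exact mul_mem hz hb

theorem K0_norm {X : Subgroup G} (z2 : z * z = 1) (hf : ∀ k ∈ 𝐍(X), k * z * k⁻¹ = z) :
    𝐍(X) ≤ 𝐍(K0 X z z2) := by
  refine le_normalizer_of_cj_le fun k hk w hw => ?_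
  obtain ⟨b, hb, rfl⟩ := mem_cj'.1 hw
  have k1 := hf k hk
  have k2 := hf k⁻¹ (inv_mem hk)
  refine ⟨?_, fun w hw => ?_⟩
  · calc k * b * k⁻¹ * z * (k * b * k⁻¹)⁻¹ = k * (b * (k⁻¹ * z * k⁻¹⁻¹) * b⁻¹) * k⁻¹ := by group
      _ = z := by rw [k2, hb.1, k1]
  · have e1 : k * b * k⁻¹ * w * (k * b * k⁻¹)⁻¹ = k * (b * (k⁻¹ * w * k) * b⁻¹) * k⁻¹ := by group
    rw [e1]
    rcases hb.2 _ (conj_mem_of_mem_normalizer' hk hw) with h1 | h1
    · left; rw [h1]; group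
    · right; rw [h1]
      calc k * (z * (k⁻¹ * w * k)) * k⁻¹ = k * z * k⁻¹ * w := by group
        _ = z * w := by rw [k1]

theorem sup_mul (hv : v ∈ U) : U ⊔ zpowers (v * e) = U ⊔ zpowers e := by
  apply le_antisymm
  · refine sup_le le_sup_left ((zpowers_le).2 ?_)
    exact mul_mem (mem_sup_left hv) (mem_sup_right (mem_zpowers _))
  · refine sup_le le_sup_left ((zpowers_le).2 ?_)
    have : e = v⁻¹ * (v * e) := by group
    rw [this]
    refine mul_mem (mem_sup_left (inv_mem hv)) (mem_sup_right ?_)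
    rw [← this]
    exact mem_zpowers _

end II3

open II3 in
theorem Q4.ii3 (h : Q4 S U V z u f β l) (hon : Hon S U V z (A0 f β l)) (he : e ∈ T) (hA : e ∉ 𝐂(V)) (hz : IsConj z e)
    (hk : ∃ k ∈ 𝐍(W), k ∉ 𝐍(U)) (hs : IsSylowIn 2 (S ⊓ 𝐍(W)) 𝐍(W)) :
    ∃ f' β' l' e' ρ γ : G, EE S U V z u f' β' l' e' ρ γ ∧ f' * f⁻¹ ∈ U ∧ A0 f' β' l' = A0 f β l := by
  obtain ⟨ef, ⟨y, yl, ey⟩, fz, sq⟩ := h.ii2 hon he hA hz hk hs
  have h3 := h.toQ3
  have h1 := h3.toP1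
  have z2 := h1.z2
  have e2 : e * e = 1 := by
    obtain ⟨c, rfl⟩ := isConj_iff.1 hz
    calc c * z * c⁻¹ * (c * z * c⁻¹) = c * (z * z) * c⁻¹ := by group
      _ = 1 := by rw [z2]; group
  obtain ⟨k, kW, kU⟩ := hk
  have zW : z ∈ W := mem_sup_left h1.zU
  have KW : K0 (W) z z2 ≤ 𝐍(W) := K0_le z2 le_rfl zW
  have KU : K0 (W) z z2 ≤ 𝐍(U) := K0_le z2 le_sup_left h1.zU
  have nK : 𝐍(W) ≤ 𝐍(K0 (W) z z2) := K0_norm z2 fz
  have hs0 := hs.inf_normal KW nK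
  obtain ⟨c, hc, γ, hγ, rfl⟩ := hs0.frattini (nK kW)
  have gW : γ ∈ 𝐍(W) := by
    have := mul_mem (inv_mem (KW hc)) kW
    simpa using this
  have gU : γ ∉ 𝐍(U) := fun hh => kU (mul_mem (KU hc) hh)
  have gz := fz γ gW
  have uW : γ * u * γ⁻¹ ∈ W := conj_mem_of_mem_normalizer gW (mem_sup_left h1.uU)
  have uU : γ * u * γ⁻¹ ∉ U := by
    intro hh
    apply gU
    refine mem_normalizer_of_cj_le fun w hw => ?_
    obtain ⟨b, hb, rfl⟩ := mem_cj'.1 hw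
    rcases h1.memU.1 hb with rfl | hb | hb | hb
    · simp
    · rw [hb, gz]; exact h1.zU
    · rw [hb]; exact hh
    · have : γ * (z * u) * γ⁻¹ = γ * z * γ⁻¹ * (γ * u * γ⁻¹) := by group
      rw [hb, this, gz]; exact mul_mem h1.zU hh
  obtain ⟨v, hv, gu⟩ := ((h1.mem_sup he.2 e2).1 uW).resolve_left uU
  have hW : U ⊔ zpowers (v * e) = U ⊔ zpowers e := sup_mul hv
  have mem0 : ∀ x ∈ S, St0 (W) z x → x ∈ S ⊓ 𝐍(W) ⊓ K0 (W) z z2 := fun x hx hst =>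
    ⟨⟨hx, KW ⟨h1.cjz hx, hst⟩⟩, h1.cjz hx, hst⟩
  have gS : ∀ x ∈ S, St0 (W) z x → γ * x * γ⁻¹ ∈ S := fun x hx hst =>
    (conj_mem_of_mem_normalizer hγ (mem0 x hx hst)).1.1
  have gS' : ∀ x ∈ S, St0 (W) z x → γ⁻¹ * x * γ ∈ S := fun x hx hst =>
    (conj_mem_of_mem_normalizer' hγ (mem0 x hx hst)).1.1
  have fT : f ∈ T := h3.AT (h3.VA h3.fV)
  have cU : ∀ x ∈ T, ∀ w ∈ U, w * x = x * w := fun x hx w hw => hx.2 w hw
  have fe : f * e * f⁻¹ = z * e := by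
    have e1 : e * f = z * f * e := by rw [← ef]; group
    calc f * e * f⁻¹ = z * z * f * e * f⁻¹ := by rw [z2, one_mul]
      _ = z * (z * f * e) * f⁻¹ := by group
      _ = z * e := by rw [← e1]; group
  have fSt : St0 (W) z f := by
    intro w hw
    rcases (h1.mem_sup he.2 e2).1 hw with hw | ⟨w', hw', rfl⟩
    · exact Or.inl (conj_eq_of_mem_centralizer fT.2 hw)
    · right
      calc f * (w' * e) * f⁻¹ = f * w' * f⁻¹ * (f * e * f⁻¹) := by group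
        _ = w' * z * e := by rw [conj_eq_of_mem_centralizer fT.2 hw', fe, mul_assoc]
        _ = z * (w' * e) := by rw [cU z (h1.UT h1.zU) w' hw', mul_assoc]
  have rS : γ * f * γ⁻¹ ∈ S := gS f fT.1 fSt
  have r2 : γ * f * γ⁻¹ * (γ * f * γ⁻¹) = 1 := by
    calc γ * f * γ⁻¹ * (γ * f * γ⁻¹) = γ * (f * f) * γ⁻¹ := by group
      _ = 1 := by rw [h3.f2]; group
  have re : γ * f * γ⁻¹ * (v * e) * (γ * f * γ⁻¹)⁻¹ = v * e := by
    rw [← gu]
    calc γ * f * γ⁻¹ * (γ * u * γ⁻¹) * (γ * f * γ⁻¹)⁻¹ = γ * (f * u * f⁻¹) * γ⁻¹ := by group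
      _ = _ := by rw [conj_eq_of_mem_centralizer fT.2 h1.uU]
  have rU : γ * f * γ⁻¹ ∉ 𝐂(U) := by
    intro hh
    have c1 : γ * f * γ⁻¹ ∈ 𝐂(W) := by
      rw [← hW, centralizer_sup, H69.centralizer_zpowers]
      refine ⟨hh, mem_centralizer_singleton_iff.2 ?_⟩
      rw [← mul_inv_eq_iff_eq_mul]; exact re
    have c2 := conj_eq_of_mem_centralizer c1
      (conj_mem_of_mem_normalizer gW (mem_sup_right (mem_zpowers e)))
    have c3 : f * e * f⁻¹ = e := by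
      calc f * e * f⁻¹ = γ⁻¹ * (γ * f * γ⁻¹ * (γ * e * γ⁻¹) * (γ * f * γ⁻¹)⁻¹) * γ := by group
        _ = e := by rw [c2]; group
    rw [fe] at c3
    exact h1.ne.1 (by simpa using c3)
  obtain ⟨f', β', l', h', rb, rf, rl, ff, ll, hA0⟩ := h.reinv rS rU r2
  have eT : v * e ∈ T := mul_mem (h1.UT hv) he
  have eA : v * e ∉ 𝐂(V) := fun hh => hA (by
    have hvV : v ∈ 𝐂(V) := (h3.VA (h3.UV hv)).2
    have := mul_mem (inv_mem hvV) hh
    simpa using this)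
  have ez : IsConj z (v * e) := (h3.conjU h1.uU h1.ne.2.1).trans (isConj_iff.2 ⟨γ, gu⟩)
  have yT : y ∈ T := h3.AT (h.A0_le (h.sq_l yl).1)
  refine ⟨f', β', l', v * e, γ * f * γ⁻¹, γ, ?_, ff, hA0⟩
  refine
    { toQ4 := h', eT := eT, ez := ez, ef := ?_, rS := rS, rU := rU, r2 := r2, rb := rb, rf := rf, rl := rl,
      re := re, on := ?_, y0 := ⟨y, ?_, ?_⟩, gz := gz, gu := Or.inl gu, gW := ?_, gS := ?_, gS' := ?_,
      gv := ⟨f, h3.fV, h3.fU, rfl⟩, sqR := ?_ }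
  · have e1 : v * e * f * (v * e)⁻¹ = z * f := by
      calc v * e * f * (v * e)⁻¹ = v * (e * f * e⁻¹) * v⁻¹ := by group
        _ = z * f := by
          rw [ef, cU (z * f) (mul_mem (h1.UT h1.zU) fT) v hv]; group
    calc v * e * f' * (v * e)⁻¹
        = v * e * (f' * f⁻¹) * (v * e)⁻¹ * (v * e * f * (v * e)⁻¹) := by group
      _ = f' * f⁻¹ * z * f := by rw [conj_eq_of_mem_centralizer eT.2 ff, e1, mul_assoc _ z]
      _ = z * f' := by rw [cU z (h1.UT h1.zU) _ ff]; group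
  · rw [hA0]; exact hon _ eT eA ez
  · have : y * l'⁻¹ = y * l⁻¹ * (l' * l⁻¹)⁻¹ := by group
    rw [this]; exact mul_mem yl (inv_mem ll)
  · calc v * e * y * (v * e)⁻¹ = v * (e * y * e⁻¹) * v⁻¹ := by group
      _ = y := by rw [ey, cU y yT v hv]; group
  · rw [hW]; exact gW
  · rw [hW]; exact gS
  · rw [hW]; exact gS'
  · rw [hW]; exact sq

theorem Q4.ii (h : Q4 S U V z u f β l) (hon : Hon S U V z (A0 f β l)) (he : e ∈ T) (hA : e ∉ 𝐂(V)) (hz : IsConj z e)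
    (hV : ∀ k ∈ 𝐍(U), (W) ^ᶜ k ≠ V) :
    ∃ f' β' l' e' ρ γ : G, EE S U V z u f' β' l' e' ρ γ ∧ f' * f⁻¹ ∈ U ∧ A0 f' β' l' = A0 f β l := by
  obtain ⟨k, hk, he', hA', hs⟩ := h.ii1 hon he hA hz hV
  have hz' : IsConj z (k * e * k⁻¹) := hz.trans (isConj_iff.2 ⟨k, rfl⟩)
  exact h.ii3 hon he' hA' hz' (h.mv hon he' hA' hz') hs

end H13.R3
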