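import Mathlib
import Cfsg.Agent.Base
import Cfsg.Agent.Lib.RK3.Defs

/-! Simple groups of 2-rank 3, package JL1 (see `blueprint/RK3/README.md`). -/

set_option autoImplicit false
set_option linter.unusedSectionVars false
set_option linter.unusedVariables false

namespace H13.R3

open Subgroup H69 H70 Cfsg H22.RK H22.RG
open scoped commutatorElement Pointwise

variable {G : Type*} [Group G] [Finite G] {S U V M : Subgroup G}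
  {z u f β l e ρ γ φ y θ t t' x a g s v w : G} {n : ℕ}

local notation "T" => S ⊓ 𝐂(U)
local notation "A" => S ⊓ 𝐂(V)
local notation "W" => U ⊔ zpowers e
local notation "m" => β * l * β⁻¹
local notation "e₂" => β * e * β⁻¹
local notation "S₀" => S ⊓ centralizer (Singleton.singleton y : Set G)

namespace JL1

variable {K X Y P Z : Subgroup G} {b j : G}

theorem cj1 (h : X ≤ K ∧ K ≤ 𝐍(X) ∧ X ≠ ⊥) (hj : j ∈ 𝐍(K)) : X ^ᶜ j ≤ K ∧ K ≤ 𝐍(X ^ᶜ j) ∧ X ^ᶜ j ≠ ⊥ :=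
  ⟨cj_le_of_mem_normalizer h.1 hj, by
    rw [← cj_normalizer]
    exact (cj_eq_of_mem_normalizer hj).ge.trans (cj_mono j h.2.1), mt cj_eq_bot_iff.1 h.2.2⟩

theorem cjm (h : Minimal (fun X => X ≤ K ∧ K ≤ 𝐍(X) ∧ X ≠ ⊥) X) (hj : j ∈ 𝐍(K)) :
    Minimal (fun X => X ≤ K ∧ K ≤ 𝐍(X) ∧ X ≠ ⊥) (X ^ᶜ j) :=
  ⟨cj1 h.1 hj, fun _ hY e => cj_le_iff.2 (h.2 (cj1 hY (inv_mem hj)) (le_cj_iff.1 e))⟩

theorem eqm (h : Minimal (fun X => X ≤ K ∧ K ≤ 𝐍(X) ∧ X ≠ ⊥) X)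
    (h' : Minimal (fun X => X ≤ K ∧ K ≤ 𝐍(X) ∧ X ≠ ⊥) Y) (e : X ⊓ Y ≠ ⊥) : X = Y := by
  have k : X ⊓ Y ≤ K ∧ K ≤ 𝐍(X ⊓ Y) ∧ X ⊓ Y ≠ ⊥ :=
    ⟨inf_le_left.trans h.1.1, H69.le_normalizer_inf h.1.2.1 h'.1.2.1, e⟩
  exact le_antisymm ((h.2 k inf_le_left).trans inf_le_right) ((h'.2 k inf_le_right).trans inf_le_left)

theorem cmm (h : Minimal (fun X => X ≤ K ∧ K ≤ 𝐍(X) ∧ X ≠ ⊥) X)
    (h' : Minimal (fun X => X ≤ K ∧ K ≤ 𝐍(X) ∧ X ≠ ⊥) Y) (e : X ≠ Y) : X ≤ 𝐂(Y) :=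
  le_centralizer_of_commutator_eq_bot (le_bot_iff.1 ((le_inf
    (commutator_le_left_of_le_normalizer (h'.1.1.trans h.1.2.1))
    (commutator_le_right_of_le_normalizer (h.1.1.trans h'.1.2.1))).trans
      (by_contra fun k => e (eqm h h' fun k' => k k'.le))))

theorem meet (hP : IsSylowIn 2 P K) (hO : Gold.Od K = ⊥) (h : X ≤ K ∧ K ≤ 𝐍(X) ∧ X ≠ ⊥) :
    ∃ v ∈ X, v ∈ P ∧ v ∈ 𝐂(P) ∧ v ≠ 1 := by
  have := Fact.mk Nat.prime_two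
  have s := hP.inf_normal h.1 h.2.1
  have ne : P ⊓ X ≠ ⊥ := s.dvd_card_iff.1 (by_contra fun k => h.2.2 (le_bot_iff.1 (hO ▸ Gold.le_Od h.1
    (Gold.oddS_iff.2 (Nat.odd_iff.2 (by omega))) h.2.1)))
  obtain ⟨⟨v, hv⟩, h1⟩ := (ne_bot_iff_exists_ne_one).1 (inf_centralizer_ne_bot s.isP hP.isP
    (H69.le_normalizer_inf le_normalizer (hP.le.trans h.2.1)) ne)
  exact ⟨v, hv.1.2, hv.1.1, hv.2, fun k => h1 (Subtype.ext k)⟩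

theorem rot (hZ : H23.GW.Four Z a b) (nZ : θ ∈ 𝐍(Z)) (fpf : ∀ v ∈ Z, θ * v * θ⁻¹ = v → v = 1) (hv : v ∈ Z)
    (h1 : v ≠ 1) : H23.GW.Four Z v (θ * v * θ⁻¹) ∧ θ * (θ * v * θ⁻¹) * θ⁻¹ = v * (θ * v * θ⁻¹) := by
  have m1 := conj_mem_of_mem_normalizer nZ hv
  have n1 : θ * v * θ⁻¹ ≠ 1 := fun e => h1 (conj_eq_one_iff.1 e)
  have F := hZ.of_mem hv h1 m1 n1 fun e => h1 (fpf v hv e.symm)
  refine ⟨F, ?_⟩
  rcases F.mem_iff.1 (conj_mem_of_mem_normalizer nZ m1) with e | e | e | e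
  · exact (n1 (conj_eq_one_iff.1 e)).elim
  · have := fpf _ F.mem_mul (by rw [← conj_mul, e, F.comm.eq])
    have o := F.hab
    rw [this, orderOf_one] at o
    omega
  · exact (n1 (fpf _ m1 e)).elim
  · exact e

end JL1

open JL1 in
theorem jl1 {J P Z : Subgroup G} {b τ : G} [J.Normal] (hP : IsSylowIn 2 P J) (hO : Gold.Od J = ⊥)
    (hZ : H23.GW.Four Z a b) (ZP : Z ≤ P) (Zc : Z ≤ 𝐂(P)) (hc : ∀ x ∈ P, x ∈ 𝐂(P) → x ∈ Z)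
    (hθ : θ ∈ J) (nZ : θ ∈ 𝐍(Z)) (fpf : ∀ v ∈ Z, θ * v * θ⁻¹ = v → v = 1) (hg : g ∈ J) (gZ : g ∉ 𝐍(Z))
    (hτ : τ ∈ 𝐍(Z)) (gen : P ≤ Z ⊔ Z ^ᶜ g ⊔ (Z ^ᶜ g) ^ᶜ τ) :
    ∃ N ≤ J, P ≤ N ∧ IsSimpleGroup N ∧ ¬ IsMulCommutative N := by
  have := Fact.mk Nat.prime_two
  have Zne := hZ.ne_bot
  obtain ⟨L, hL⟩ := exists_minimal_of_wellFoundedLT (fun X : Subgroup G => X ≤ J ∧ J ≤ 𝐍(X) ∧ X ≠ ⊥)
    ⟨J, le_rfl, le_normalizer, fun e => Zne (le_bot_iff.1 (e ▸ ZP.trans hP.le))⟩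
  have ZX : ∀ X : Subgroup G, X ≤ J ∧ J ≤ 𝐍(X) ∧ X ≠ ⊥ → Z ≤ X := fun X hX => by
    obtain ⟨v, h1, h2, h3, h4⟩ := meet hP hO hX
    exact (rot hZ nZ fpf (hc v h2 h3) h4).1.le_iff.2 ⟨h1, conj_mem_of_mem_normalizer (hX.2.1 hθ) h1⟩
  have ZL := ZX L hL.1
  have hτJ : τ ∈ 𝐍(J) := by rw [normalizer_eq_top]; trivial
  have eτ : L ^ᶜ τ = L := eqm (cjm hL hτJ) hL fun e =>
    Zne (le_bot_iff.1 (e ▸ le_inf (ZX _ (cj1 hL.1 hτJ)) ZL))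
  have gL := cj_le_of_mem_normalizer ZL (hL.1.2.1 hg)
  have PL : P ≤ L := gen.trans (sup_le (sup_le ZL gL) (eτ ▸ cj_mono τ gL))
  have OL : Gold.Od L = ⊥ := le_bot_iff.1 (hO ▸ Gold.Od_le_Od hL.1.1 hL.1.2.1)
  have sL := hP.mono PL hL.1.1
  have no2 : ∀ X : Subgroup G, X ≤ L ∧ L ≤ 𝐍(X) ∧ X ≠ ⊥ → ¬ IsPGroup 2 X := fun X hX h2 => by
    have k : ncl X J ≤ P := ncl_le_iff.2 fun j hj =>
      let c := cj1 hX (hL.1.2.1 hj); sL.le_of_le_normalizer (isPGroup_cj h2 j) c.1 (PL.trans c.2.1)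
    have e : L = P := le_antisymm ((hL.2 ⟨k.trans hP.le, le_normalizer_ncl X J, fun e =>
      hX.2.2 (le_bot_iff.1 (e ▸ le_ncl X J))⟩ (k.trans PL)).trans k) PL
    have e' : Z = P ⊓ 𝐂(P) := le_antisymm (le_inf ZP Zc) fun x hx => hc x hx.1 hx.2
    have n : J ≤ 𝐍(P) := e ▸ hL.1.2.1
    exact gZ (e' ▸ H69.le_normalizer_inf n (H69.le_normalizer_centralizer n) hg)
  have ZE : ∀ E : Subgroup G, Minimal (fun X => X ≤ L ∧ L ≤ 𝐍(X) ∧ X ≠ ⊥) E → Z ≤ E := fun E hE => by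
    obtain ⟨v, h1, h2, h3, h4⟩ := meet sL OL hE.1
    obtain ⟨F, r⟩ := rot hZ nZ fpf (hc v h2 h3) h4
    have tL := hL.1.2.1 hθ
    have m1 := cj_mem θ h1
    have m2 := cj_mem θ m1
    rw [r] at m2
    by_cases e1 : E = E ^ᶜ θ
    · exact F.le_iff.2 ⟨h1, e1 ▸ m1⟩
    by_cases e2 : E = (E ^ᶜ θ) ^ᶜ θ
    · exact F.le_iff.2 ⟨h1, (mul_mem_cancel_left h1).1 (e2 ▸ m2)⟩
    have h2' := cjm (cjm hE tL) tL
    have c := mul_mem (cmm hE h2' e2 h1) (cmm (cjm hE tL) h2' (mt cj_inj.1 e1) m1)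
    generalize (E ^ᶜ θ) ^ᶜ θ = D at *
    have w1 : v * (θ * v * θ⁻¹) ≠ 1 := fun e => by
      have o := F.hab
      rw [e, orderOf_one] at o
      omega
    have ab : D ≤ 𝐂(D) := (h2'.2 (y := D ⊓ 𝐂(D)) ⟨inf_le_left.trans h2'.1.1,
      H69.le_normalizer_inf h2'.1.2.1 (H69.le_normalizer_centralizer h2'.1.2.1),
      fun e => w1 (mem_bot.1 (e ▸ mem_inf.2 ⟨m2, c⟩))⟩ inf_le_left).trans inf_le_right
    have s := sL.inf_normal h2'.1.1 h2'.1.2.1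
    refine (no2 (P ⊓ D) ⟨inf_le_left.trans PL, le_normalizer_of_cj_le fun j hj => ?_,
      fun e => w1 (mem_bot.1 (e ▸ mem_inf.2 ⟨ZP F.mem_mul, m2⟩))⟩ s.isP).elim
    have k := cj_le_of_mem_normalizer s.le (h2'.1.2.1 hj)
    exact s.le_of_le_normalizer' (isPGroup_cj s.isP j) k
      (le_normalizer_of_le_centralizer (k.trans (ab.trans (centralizer_anti s.le))))
  refine ⟨L, hL.1.1, PL, ?_, fun hm => no2 Z ⟨ZL, le_normalizer_of_le_centralizer fun x hx y hy =>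
    congrArg Subtype.val (hm.is_comm.comm (⟨y, ZL hy⟩ : L) ⟨x, hx⟩), Zne⟩ hZ.isPGroup⟩
  have := (nontrivial_iff_ne_bot L).2 hL.1.2.2
  refine ⟨fun N hN => or_iff_not_imp_left.2 fun ne => ?_⟩
  obtain ⟨E, le, hE⟩ := exists_minimal_le_of_wellFoundedLT
    (fun X : Subgroup G => X ≤ L ∧ L ≤ 𝐍(X) ∧ X ≠ ⊥) (N.map L.subtype) ⟨map_subtype_le N,
      le_normalizer_of_cj_le fun j hj => by
        rw [← map_subtype_cj N ⟨j, hj⟩, cj_eq_of_normal],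
      fun e => ne ((map_eq_bot_iff_of_injective N L.subtype_injective).1 e)⟩
  have k := (hL.2 ⟨hE.1.1.trans hL.1.1, fun j hj => cj_eq_self_iff.1 (eqm (cjm hE (hL.1.2.1 hj)) hE
    fun e => Zne (le_bot_iff.1 (e ▸ le_inf (ZE _ (cjm hE (hL.1.2.1 hj))) (ZE _ hE)))), hE.1.2.2⟩
    hE.1.1).trans le
  refine eq_top_iff.2 fun x _ => ?_
  obtain ⟨y, hy, e⟩ := k x.2
  exact Subtype.ext e ▸ hy

end H13.R3
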