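import Mathlib
import Cfsg.Agent.Base
import Cfsg.Agent.Lib.RK3.Defs
import Cfsg.Agent.Lib.E32.Aut

/-! Simple groups of 2-rank 3, package PG (see `blueprint/RK3/README.md`). -/

set_option autoImplicit false
set_option linter.unusedSectionVars false
set_option linter.unusedVariables false

namespace H13.R3

open Subgroup H69 H70 Cfsg H22.RK H22.RG
open scoped commutatorElement Pointwise

variable {G : Type*} [Group G] [Finite G] {S U V M : Subgroup G}
  {z u f β l e ρ γ φ y θ t t' x a g s v w : G} {n : ℕ}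

local notation "T" => S ⊓ 𝐂(U)
local notation "A" => S ⊓ 𝐂(V)
local notation "W" => U ⊔ zpowers e
local notation "m" => β * l * β⁻¹
local notation "e₂" => β * e * β⁻¹
local notation "S₀" => S ⊓ centralizer (Singleton.singleton y : Set G)

namespace PG

variable {F : Type} [Field F]

/-- upper unitriangular matrices -/
def ut (a b c : F) : GL (Fin 3) F where
  val := !![1, a, c; 0, 1, b; 0, 0, 1]
  inv := !![1, -a, a * b - c; 0, 1, -b; 0, 0, 1]
  val_inv := by
    ext i j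
    fin_cases i <;> fin_cases j <;> simp [Matrix.mul_apply, Fin.sum_univ_three]
    ring
  inv_val := by
    ext i j
    fin_cases i <;> fin_cases j <;> simp [Matrix.mul_apply, Fin.sum_univ_three]
    ring

/-- the diagonal matrix `diag(1, ω, 1)` -/
def dg (ω : F) (h : ω ≠ 0) : GL (Fin 3) F where
  val := !![1, 0, 0; 0, ω, 0; 0, 0, 1]
  inv := !![1, 0, 0; 0, ω⁻¹, 0; 0, 0, 1]
  val_inv := by
    ext i j
    fin_cases i <;> fin_cases j <;> simp [Matrix.mul_apply, Fin.sum_univ_three, h]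
  inv_val := by
    ext i j
    fin_cases i <;> fin_cases j <;> simp [Matrix.mul_apply, Fin.sum_univ_three, h]

theorem ut_val (a b c : F) : (ut a b c).val = !![1, a, c; 0, 1, b; 0, 0, 1] := rfl

theorem dg_val (ω : F) (h : ω ≠ 0) : (dg ω h).val = !![1, 0, 0; 0, ω, 0; 0, 0, 1] := rfl

theorem ut_mul (a b c a' b' c' : F) :
    ut a b c * ut a' b' c' = ut (a + a') (b + b') (c + c' + a * b') := by
  apply Units.ext
  rw [Units.val_mul, ut_val, ut_val, ut_val]
  ext i j
  fin_cases i <;> fin_cases j <;> simp [Matrix.mul_apply, Fin.sum_univ_three] <;> ring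

theorem ut_zero : ut (0 : F) 0 0 = 1 := by
  apply Units.ext
  rw [ut_val, Units.val_one]
  ext i j
  fin_cases i <;> fin_cases j <;> simp

theorem ut_inv (a b c : F) : (ut a b c)⁻¹ = ut (-a) (-b) (a * b - c) := by
  rw [inv_eq_iff_mul_eq_one, ut_mul, ← ut_zero]
  congr 1 <;> ring

theorem dg_ut (ω : F) (h : ω ≠ 0) (a b c : F) :
    dg ω h * ut a b c = ut (a * ω⁻¹) (ω * b) c * dg ω h := by
  apply Units.ext
  rw [Units.val_mul, Units.val_mul, ut_val, ut_val, dg_val]
  ext i j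
  fin_cases i <;> fin_cases j <;> simp [Matrix.mul_apply, Fin.sum_univ_three, h]

theorem dg_cube (ω : F) (h : ω ≠ 0) (h3 : ω ^ 3 = 1) : dg ω h ^ 3 = 1 := by
  apply Units.ext
  rw [pow_succ, pow_two, Units.val_mul, Units.val_mul, dg_val, Units.val_one]
  ext i j
  fin_cases i <;> fin_cases j <;> simp [Matrix.mul_apply, Fin.sum_univ_three]
  linear_combination h3

/-- the image of `ut` in `PGL` -/
def pu (a b c : F) : GL (Fin 3) F ⧸ center (GL (Fin 3) F) := QuotientGroup.mk (ut a b c)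

theorem pu_mul (a b c a' b' c' : F) :
    pu a b c * pu a' b' c' = pu (a + a') (b + b') (c + c' + a * b') := by
  rw [pu, pu, pu, ← QuotientGroup.mk_mul, ut_mul]

theorem pu_zero : pu (0 : F) 0 0 = 1 := by
  rw [pu, ut_zero]
  rfl

theorem pu_inv (a b c : F) : (pu a b c)⁻¹ = pu (-a) (-b) (a * b - c) := by
  rw [pu, pu, ← QuotientGroup.mk_inv, ut_inv]

theorem pu_eq_one {a b c : F} (h : pu a b c = 1) : a = 0 ∧ b = 0 ∧ c = 0 := by
  have h1 := (QuotientGroup.eq_one_iff _).1 h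
  rw [Matrix.GeneralLinearGroup.center_eq_range_scalar] at h1
  obtain ⟨r, hr⟩ := h1
  have h2 := congrArg Units.val hr
  rw [ut_val] at h2
  have e1 := congrFun (congrFun h2 0) 1
  have e2 := congrFun (congrFun h2 1) 2
  have e3 := congrFun (congrFun h2 0) 2
  simp at e1 e2 e3
  exact ⟨e1.symm, e2.symm, e3.symm⟩

theorem pu_inj {a b c a' b' c' : F} (h : pu a b c = pu a' b' c') : a = a' ∧ b = b' ∧ c = c' := by
  have h1 : pu a b c * (pu a' b' c')⁻¹ = 1 := by rw [h, mul_inv_cancel]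
  rw [pu_inv, pu_mul] at h1
  obtain ⟨e1, e2, e3⟩ := pu_eq_one h1
  have ea : a = a' := by linear_combination e1
  subst ea
  exact ⟨rfl, by linear_combination e2, by linear_combination e3⟩

/-- the image of the unitriangular group -/
def P0 (F : Type) [Field F] : Subgroup (GL (Fin 3) F ⧸ center (GL (Fin 3) F)) where
  carrier := {x | ∃ a b c : F, x = pu a b c}
  one_mem' := ⟨0, 0, 0, pu_zero.symm⟩
  mul_mem' := by
    rintro _ _ ⟨a, b, c, rfl⟩ ⟨a', b', c', rfl⟩
    exact ⟨_, _, _, pu_mul ..⟩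
  inv_mem' := by
    rintro _ ⟨a, b, c, rfl⟩
    exact ⟨_, _, _, pu_inv ..⟩

theorem mem_P0 {x : GL (Fin 3) F ⧸ center (GL (Fin 3) F)} : x ∈ P0 F ↔ ∃ a b c : F, x = pu a b c :=
  Iff.rfl

theorem card_P0 [Fintype F] (hF : Fintype.card F = 4) : Nat.card (P0 F) = 64 := by
  have hb : Function.Bijective (fun q : F × F × F => (⟨pu q.1 q.2.1 q.2.2, _, _, _, rfl⟩ : P0 F)) := by
    constructor
    · rintro ⟨a, b, c⟩ ⟨a', b', c'⟩ h
      obtain ⟨rfl, rfl, rfl⟩ := pu_inj (congrArg Subtype.val h)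
      rfl
    · rintro ⟨_, a, b, c, rfl⟩
      exact ⟨(a, b, c), rfl⟩
  rw [← Nat.card_eq_of_bijective _ hb, Nat.card_prod, Nat.card_prod, Nat.card_eq_fintype_card, hF]

theorem base [Fintype F] (hF : Fintype.card F = 4) :
    ∃ d, Odd (orderOf d) ∧ d ∈ 𝐍(P0 F) ∧ d ∈ 𝐂(P0 F ⊓ 𝐂(P0 F)) ∧ d ∉ 𝐂(P0 F) := by
  classical
  obtain ⟨ω, h0, h1⟩ : ∃ ω : F, ω ≠ 0 ∧ ω ≠ 1 := by
    by_contra hn
    push Not at hn
    have : (Finset.univ : Finset F) ⊆ {0, 1} := fun x _ => by
      by_cases hx : x = 0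
      · simp [hx]
      · simp [hn x hx]
    have h2 := Finset.card_le_card this
    have h3 : ({0, 1} : Finset F).card ≤ 2 := Finset.card_le_two
    rw [Finset.card_univ, hF] at h2
    omega
  have h3 : ω ^ 3 = 1 := by
    have := FiniteField.pow_card_sub_one_eq_one ω h0
    rwa [hF] at this
  set d : GL (Fin 3) F ⧸ center (GL (Fin 3) F) := QuotientGroup.mk (dg ω h0) with hd
  have hdu : ∀ a b c : F, d * pu a b c = pu (a * ω⁻¹) (ω * b) c * d := fun a b c => by
    rw [hd, pu, pu, ← QuotientGroup.mk_mul, ← QuotientGroup.mk_mul, dg_ut]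
  refine ⟨d, ?_, ?_, ?_, ?_⟩
  · have : d ^ 3 = 1 := by
      rw [hd, ← QuotientGroup.mk_pow, dg_cube ω h0 h3]
      rfl
    exact Odd.of_dvd_nat (by decide : Odd 3) (orderOf_dvd_of_pow_eq_one this)
  · refine mem_normalizer_of_cj_le ?_
    intro x hx
    obtain ⟨_, ⟨a, b, c, rfl⟩, rfl⟩ := mem_cj'.1 hx
    refine ⟨a * ω⁻¹, ω * b, c, ?_⟩
    rw [hdu, mul_inv_cancel_right]
  · rw [mem_centralizer_iff]
    rintro _ ⟨⟨a, b, c, rfl⟩, hx⟩
    have e1 := (mem_centralizer_iff.1 hx) (pu 0 1 0) ⟨_, _, _, rfl⟩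
    have e2 := (mem_centralizer_iff.1 hx) (pu 1 0 0) ⟨_, _, _, rfl⟩
    rw [pu_mul, pu_mul] at e1 e2
    have ha : a = 0 := by linear_combination -(pu_inj e1).2.2
    have hb : b = 0 := by linear_combination (pu_inj e2).2.2
    subst ha hb
    rw [hdu, zero_mul, mul_zero]
  · intro hc
    have e1 := (mem_centralizer_iff.1 hc) (pu 0 1 0) ⟨_, _, _, rfl⟩
    rw [hdu] at e1
    have := (pu_inj (mul_right_cancel e1)).2.1
    exact h1 (by linear_combination -this)

end PG

theorem card_pgl {F : Type} [Field F] [Fintype F] (hF : Fintype.card F = 4) :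
    Nat.card (GL (Fin 3) F ⧸ center (GL (Fin 3) F)) = 60480 := by
  have h2 := H10.card_SL_fin (F := F) 3 (by omega)
  rw [← H10.card_PGL_eq_card_SL, Nat.card_eq_fintype_card (α := F), hF, Fin.prod_univ_three] at h2
  norm_num at h2
  change Nat.card (Matrix.ProjGenLinGroup (Fin 3) F) = 60480
  omega

theorem pg1 {F : Type} [Field F] [Fintype F] (hF : Fintype.card F = 4) {P : Subgroup (GL (Fin 3) F ⧸ center (GL (Fin 3) F))}
    (hP : IsSylowIn 2 P ⊤) :
    ∃ d, Odd (orderOf d) ∧ d ∈ 𝐍(P) ∧ d ∈ 𝐂(P ⊓ 𝐂(P)) ∧ d ∉ 𝐂(P) := by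
  have h64 := PG.card_P0 hF
  have hp0 : IsPGroup 2 (PG.P0 F) := IsPGroup.of_card (n := 6) (by rw [h64]; norm_num)
  obtain ⟨g, -, hg⟩ := hP.exists_cj_le hp0 le_top
  have hle : Nat.card P ≤ 64 := by
    obtain ⟨k, hk⟩ := IsPGroup.iff_card.1 hP.isP
    have h1 : Nat.card P ∣ 60480 := card_pgl hF ▸ card_subgroup_dvd_card P
    rw [hk] at h1 ⊢
    by_contra hn
    have h7 : 7 ≤ k := by
      by_contra h7
      have : 2 ^ k ≤ 2 ^ 6 := Nat.pow_le_pow_right (by norm_num) (by omega)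
      omega
    have := (pow_dvd_pow 2 h7).trans h1
    norm_num at this
  have he : PG.P0 F ^ᶜ g = P := eq_of_le_of_card_ge hg (by rw [card_cj, h64]; exact hle)
  obtain ⟨d, h1, h2, h3, h4⟩ := PG.base hF
  subst he
  refine ⟨g * d * g⁻¹, ?_, ?_, ?_, ?_⟩
  · have : orderOf (g * d * g⁻¹) = orderOf d := by
      simpa using MulEquiv.orderOf_eq (MulAut.conj g) d
    rwa [this]
  · rw [← cj_normalizer]
    exact cj_mem g h2
  · rw [← cj_centralizer, ← cj_inf, ← cj_centralizer]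
    exact cj_mem g h3
  · rw [← cj_centralizer, cj_mem_iff]
    exact h4

end H13.R3
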