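import Mathlib
import Cfsg.Agent.Base
import Cfsg.Agent.Lib.RK3.Defs

/-! Simple groups of 2-rank 3, package O7 (see `blueprint/RK3/README.md`). -/

set_option autoImplicit false
set_option linter.unusedSectionVars false
set_option linter.unusedVariables false

namespace H13.R3

open Subgroup H69 H70 Cfsg H22.RK H22.RG
open scoped commutatorElement Pointwise

variable {G : Type*} [Group G] [Finite G] {S U V M : Subgroup G}
  {z u f β l e ρ γ φ y θ t t' x a g s v w : G} {n : ℕ}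

local notation "T" => S ⊓ 𝐂(U)
local notation "A" => S ⊓ 𝐂(V)
local notation "W" => U ⊔ zpowers e
local notation "m" => β * l * β⁻¹
local notation "e₂" => β * e * β⁻¹
local notation "S₀" => S ⊓ centralizer (Singleton.singleton y : Set G)

namespace O7

theorem ac9 {Q : Type*} [Monoid Q] (hc : ∀ a b : Q, a * b = b * a) (a0 a1 a2 a3 a4 a5 a6 : Q) :
    a0 * a2 * a3 * (a1 * a3 * a4) * (a3 * a5 * a6) = a0 * a1 * a2 * a3 * a4 * a5 * a6 * (a3 * a3) := by
  haveI : Std.Commutative (α := Q) (· * ·) := ⟨hc⟩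
  ac_rfl

theorem core {H : Type*} [Group H] [Finite H] (hH : IsPGroup 2 H) (α : H →* H)
    (h7 : ∀ x, α (α (α (α (α (α (α x)))))) = x)
    (hmin : ∀ K : Subgroup H, K ≠ ⊤ → (∀ x ∈ K, α x ∈ K) → ∀ x ∈ K, α x = x)
    (hi : ∀ a, a * a = 1 → α a = a) : ∀ x, α x = x := by
  by_contra hne
  obtain ⟨x0, hx0⟩ := not_forall.mp hne
  let C : Subgroup H := α.eqLocus (MonoidHom.id H)
  have mC : ∀ x, x ∈ C ↔ α x = x := fun x => Iff.rfl
  have hCt : C < ⊤ := lt_top_iff_ne_top.mpr fun h => hx0 ((mC x0).mp (h ▸ mem_top x0))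
  have top : ∀ K : Subgroup H, (∀ x ∈ K, α x ∈ K) → ∀ x ∈ K, α x ≠ x → K = ⊤ := fun K hK x hx hx' => by
    by_contra h
    exact hx' (hmin K h hK x hx)
  have hF : ∀ y, y⁻¹ * α y ∈ C → α y = y := fun y hy => by
    obtain ⟨c, hc⟩ : ∃ c, c = y⁻¹ * α y := ⟨_, rfl⟩
    rw [← hc, mC] at hy
    have h1 : α y = y * c := by rw [hc]; group
    have h2 := h7 y
    simp only [h1, map_mul, hy] at h2
    have h3 : c ^ 7 = 1 := by
      have : y * c ^ 7 = y * 1 := by rw [mul_one]; conv_rhs => rw [← h2]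
                                     simp only [pow_succ, pow_zero, one_mul, mul_assoc]
      exact mul_left_cancel this
    obtain ⟨k, hk⟩ := hH c
    have h4 : c = 1 := by
      have hc : Nat.Coprime 7 (2 ^ k) := Nat.Coprime.pow_right _ (by norm_num)
      exact orderOf_eq_one_iff.mp (Nat.eq_one_of_dvd_coprimes hc (orderOf_dvd_of_pow_eq_one h3)
        (orderOf_dvd_of_pow_eq_one hk))
    rw [h1, h4, mul_one]
  have hN : 𝐍(C) = ⊤ := by
    haveI := Fact.mk Nat.prime_two
    have h1 := lt_inf_normalizer_of_lt (hH.to_subgroup ⊤) hCt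
    obtain ⟨x, hx, hxC⟩ := SetLike.exists_of_lt h1
    refine top _ (fun y hy => mem_normalizer_fintype fun c hc => ?_) x hx.2 hxC
    have h2 : y * c * y⁻¹ ∈ C := conj_mem_of_mem_normalizer hy hc
    have h3 : α c = c := hc
    have h4 : α y * c * (α y)⁻¹ = y * c * y⁻¹ := by
      rw [← (mC _).mp h2, map_mul, map_mul, map_inv, h3]
    change _ ∈ C
    rw [h4]; exact h2
  haveI hCn : C.Normal := normalizer_eq_top_iff.mp hN
  have hZ : ∀ c ∈ C, ∀ x, c * x = x * c := by
    have h1 : 𝐂(C) = ⊤ := by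
      refine top _ (fun y hy => mem_centralizer_iff.mpr fun c hc => ?_) (x0⁻¹ * α x0)
        (mem_centralizer_iff.mpr fun c hc => ?_) fun h => hx0 (hF _ h)
      · have h3 : α c = c := hc
        have h2 := congrArg α (mem_centralizer_iff.mp hy c hc)
        rwa [map_mul, map_mul, h3] at h2
      · have h3 : α c = c := hc
        have h2 : α (x0 * c * x0⁻¹) = x0 * c * x0⁻¹ := hCn.conj_mem c hc x0
        rw [map_mul, map_mul, map_inv, h3] at h2
        calc c * (x0⁻¹ * α x0) = x0⁻¹ * (x0 * c * x0⁻¹) * α x0 := by group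
          _ = x0⁻¹ * α x0 * c := by rw [← h2]; group
    intro c hc x
    exact mem_centralizer_iff.mp (h1 ▸ mem_top x : x ∈ 𝐂(C)) c hc
  let D : Subgroup H :=
    { carrier := {x | x * x ∈ C ∧ ∀ y, y * x * y⁻¹ * x⁻¹ ∈ C}
      one_mem' := ⟨by simpa using C.one_mem, fun y => by simpa using C.one_mem⟩
      mul_mem' := fun {a b} ha hb => ⟨by
          have : a * b * (a * b) = a * (b * a * b⁻¹ * a⁻¹) * a⁻¹ * (a * a) * (b * b) := by group
          rw [this]
          exact mul_mem (mul_mem (hCn.conj_mem _ (ha.2 b) a) ha.1) hb.1, fun y => by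
          have : y * (a * b) * y⁻¹ * (a * b)⁻¹ = y * a * y⁻¹ * a⁻¹ * (a * (y * b * y⁻¹ * b⁻¹) * a⁻¹) := by
            group
          rw [this]
          exact mul_mem (ha.2 y) (hCn.conj_mem _ (hb.2 y) a)⟩
      inv_mem' := fun {a} ha => ⟨by
          have : a⁻¹ * a⁻¹ = (a * a)⁻¹ := by group
          rw [this]; exact inv_mem ha.1, fun y => by
          have : y * a⁻¹ * y⁻¹ * a⁻¹⁻¹ = a⁻¹ * (y * a * y⁻¹ * a⁻¹)⁻¹ * a⁻¹⁻¹ := by group
          rw [this]
          exact hCn.conj_mem _ (inv_mem (ha.2 y)) a⁻¹⟩ }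
  have hD : D = ⊤ := by
    obtain ⟨y, -, hyC, hy2, hy3⟩ := H45.NE8.exists_cen_mod (hH.to_subgroup ⊤) (hH.to_subgroup ⊤)
      le_normalizer hN.ge hN.ge hCt.not_ge
    refine top D (fun x hx => ⟨?_, fun w => ?_⟩) y ⟨hy2, fun w => hy3 w (mem_top w)⟩ hyC
    · rw [← map_mul, (mC _).mp hx.1]; exact hx.1
    · have h1 := hx.2 (α (α (α (α (α (α w))))))
      have h2 := (mC _).mp h1
      rw [map_mul, map_mul, map_mul, map_inv, map_inv, h7] at h2
      rw [h2]; exact h1
  have sq : ∀ x, x * x ∈ C := fun x => (hD ▸ mem_top x : x ∈ D).1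
  have cm : ∀ x y, x * y * x⁻¹ * y⁻¹ ∈ C := fun x y => (hD ▸ mem_top y : y ∈ D).2 x
  let b : H → H → H := fun x y => x * y * x⁻¹ * y⁻¹
  have bC : ∀ c ∈ C, ∀ y, b c y = 1 := fun c hc y => by
    change c * y * c⁻¹ * y⁻¹ = 1
    rw [hZ c hc y]; group
  have bmul : ∀ x x' y, b (x * x') y = b x y * b x' y := fun x x' y => by
    have h1 := hZ _ (cm x' y) (y * x⁻¹ * y⁻¹)
    change x * x' * y * (x * x')⁻¹ * y⁻¹ = x * y * x⁻¹ * y⁻¹ * (x' * y * x'⁻¹ * y⁻¹)
    calc _ = x * (x' * y * x'⁻¹ * y⁻¹ * (y * x⁻¹ * y⁻¹)) := by group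
      _ = _ := by rw [h1]; group
  have b2 : ∀ x y, b x y * b x y = 1 := fun x y => by rw [← bmul]; exact bC _ (sq x) y
  have bs : ∀ x y, b y x = b x y := fun x y => by
    have h1 : b y x = (b x y)⁻¹ := by simp only [b]; group
    rw [h1]; exact inv_eq_of_mul_eq_one_right (b2 x y)
  have ba : ∀ x y, b (α x) (α y) = b x y := fun x y => by
    have h1 := (mC _).mp (cm x y)
    rwa [map_mul, map_mul, map_mul, map_inv, map_inv] at h1
  have b0 : ∀ x, b x x = 1 := fun x => by simp only [b]; group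
  have fin : ∀ x, b x (α x) = 1 → α x = x := fun x hx => by
    have h1 : x * α x = α x * x := by
      have : x * α x = b x (α x) * (α x * x) := by simp only [b]; group
      rw [this, hx, one_mul]
    have h2 : α x * α x = x * x := by rw [← map_mul]; exact sq x
    refine hF x (hi _ ?_)
    calc x⁻¹ * α x * (x⁻¹ * α x) = x⁻¹ * x⁻¹ * (x * α x) * x⁻¹ * α x := by group
      _ = (x * x)⁻¹ * (α x * α x) := by rw [h1]; group
      _ = 1 := by rw [h2]; group
  have c1 : ∀ x, x * α x * α (α (α x)) ∈ C → α x = x := fun x hx => by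
    have e1 := bC _ hx (α x)
    have e2 := bC _ hx (α (α x))
    rw [bmul, bmul, b0, mul_one, ba, bs x (α (α x))] at e1
    rw [bmul, bmul, ba, ba, ba, bs x (α x), mul_assoc, b2, mul_one] at e2
    rw [e2, mul_one] at e1
    exact fin x e1
  have c2 : ∀ x, x * α (α x) * α (α (α x)) ∈ C → α x = x := fun x hx => by
    have e1 := bC _ hx (α x)
    have e2 := bC _ hx (α (α x))
    rw [bmul, bmul, ba, ba, bs x (α x), b2, one_mul, bs] at e1
    rw [bmul, bmul, b0, mul_one, ba, ba, e1, one_mul, bs] at e2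
    exact fin x e2
  refine hx0 (c2 x0 (c1 _ ?_))
  let π := QuotientGroup.mk' C
  have hπ : ∀ x, π x = 1 ↔ x ∈ C := fun x => by
    rw [QuotientGroup.mk'_apply, QuotientGroup.eq_one_iff]
  have hc : ∀ a b : H ⧸ C, a * b = b * a := fun a b => by
    obtain ⟨a, rfl⟩ := QuotientGroup.mk'_surjective C a
    obtain ⟨b, rfl⟩ := QuotientGroup.mk'_surjective C b
    have h1 := (hπ _).mpr (cm a b)
    rw [map_mul, map_mul, map_mul, map_inv, map_inv] at h1
    calc π a * π b = π a * π b * (π a)⁻¹ * (π b)⁻¹ * (π b * π a) := by group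
      _ = _ := by rw [h1, one_mul]
  have hn : x0 * α x0 * α (α x0) * α (α (α x0)) * α (α (α (α x0))) * α (α (α (α (α x0)))) *
      α (α (α (α (α (α x0))))) ∈ C := by
    refine hF _ ?_
    have h1 := cm (x0 * α x0 * α (α x0) * α (α (α x0)) * α (α (α (α x0))) * α (α (α (α (α x0)))) *
      α (α (α (α (α (α x0))))))⁻¹ x0⁻¹
    simp only [map_mul, h7]
    convert h1 using 1
    group
  rw [← hπ]
  have h1 := (hπ _).mpr hn
  have h2 := (hπ _).mpr (sq (α (α (α x0))))
  simp only [map_mul] at h1 h2 ⊢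
  rw [ac9 hc, h1, h2, one_mul]

universe u₀

theorem abs (N : ℕ) : ∀ {H : Type u₀} [Group H] [Finite H], Nat.card H = N → IsPGroup 2 H →
    ∀ α : H →* H, (∀ x, α (α (α (α (α (α (α x)))))) = x) → (∀ a, a * a = 1 → α a = a) →
    ∀ x, α x = x := by
  induction N using Nat.strong_induction_on with
  | _ N ih =>
    intro H _ _ hN hH α h7 hi
    refine core hH α h7 (fun K hK hα x hx => ?_) hi
    have hlt : Nat.card K < N := hN ▸ lt_of_le_of_ne K.card_le_card_group
      fun h => hK (K.eq_top_of_card_eq h)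
    have := ih _ hlt rfl (hH.to_subgroup K) ((α.comp K.subtype).codRestrict K fun y => hα y y.2)
      (fun y => Subtype.ext (h7 y)) (fun a ha => Subtype.ext (hi a (congrArg Subtype.val ha))) ⟨x, hx⟩
    exact congrArg Subtype.val this

end O7

theorem o7 {P : Subgroup G} (hP : IsPGroup 2 P) (hV : V ≤ 𝐂(P))
    (hi : ∀ a ∈ P, a * a = 1 → a ∈ V) {δ : G} (h7 : ∃ k : ℕ, δ ^ 7 ^ k = 1) (hn : δ ∈ 𝐍(P)) (hc : δ ∈ 𝐂(V)) :
    δ ∈ 𝐂(P) := by
  obtain ⟨k, hk⟩ := h7
  induction k generalizing δ with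
  | zero => rw [pow_zero, pow_one] at hk; rw [hk]; exact one_mem _
  | succ k ih =>
    have h1 : δ ^ 7 ∈ 𝐂(P) := ih (pow_mem hn 7) (pow_mem hc 7) (by rw [← pow_mul, ← pow_succ', hk])
    let α : P →* P := MonoidHom.mk' (fun x => ⟨δ * x * δ⁻¹, conj_mem_of_mem_normalizer hn x.2⟩)
      fun a b => Subtype.ext (by simp only [coe_mul]; group)
    have hα : ∀ x : P, (α x : G) = δ * x * δ⁻¹ := fun x => rfl
    have h2 := O7.abs _ rfl hP α (fun x => Subtype.ext (by
        have h3 := conj_eq_of_mem_centralizer h1 x.2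
        simp only [hα]
        refine Eq.trans ?_ h3
        simp only [pow_succ, pow_zero, one_mul, mul_inv_rev, mul_assoc]))
      fun a ha => Subtype.ext (by
        rw [hα]; exact conj_eq_of_mem_centralizer hc (hi a a.2 (congrArg Subtype.val ha)))
    refine mem_centralizer_iff.mpr fun x hx => ?_
    have h3 := congrArg Subtype.val (h2 ⟨x, hx⟩)
    rw [hα] at h3
    calc x * δ = δ * x * δ⁻¹ * δ := by rw [h3]
      _ = δ * x := by group

end H13.R3
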