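import Mathlib
import Cfsg.Agent.Base
import Cfsg.Agent.Lib.RK3.BAS2
import Cfsg.Agent.Lib.Rk3C.B1

/-! Simple groups of 2-rank 3, package WF (see `blueprint/RK3/README.md`). -/

set_option autoImplicit false
set_option linter.unusedSectionVars false
set_option linter.unusedVariables false

namespace H13.R3

open Subgroup H69 H70 Cfsg H22.RK H22.RG
open scoped commutatorElement Pointwise

variable {G : Type*} [Group G] [Finite G] {S U V M : Subgroup G}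
  {z u f β l e ρ γ φ y θ t t' x a g s v w : G} {n : ℕ}

local notation "T" => S ⊓ 𝐂(U)
local notation "A" => S ⊓ 𝐂(V)
local notation "W" => U ⊔ zpowers e
local notation "m" => β * l * β⁻¹
local notation "e₂" => β * e * β⁻¹
local notation "S₀" => S ⊓ centralizer (Singleton.singleton y : Set G)

namespace WF

theorem nm {X : Subgroup G} (hg : g ∈ 𝐍(X)) (hx : x ∈ X) : g * x * g⁻¹ ∈ X :=
  (cj_eq_of_mem_normalizer hg).le (cj_mem g hx)

theorem core (h : Q3 S U V z u f β) (hA : (A) ^ᶜ g ≤ S)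
    (hV : ∀ v ∈ V, ∃ a ∈ A, ∃ c ∈ U, g * v * g⁻¹ = g * a * g⁻¹ * (g * a * g⁻¹) * c) : g ∈ 𝐍(A) := by
  have p := h.toP1
  have cc : ∀ a ∈ A, g * a * g⁻¹ ∈ 𝐂(V ^ᶜ g) := fun a ha => by
    rw [← cj_centralizer]; exact cj_mem g ha.2
  have h1 : V ^ᶜ g ≤ 𝐂(U) := fun x hx => by
    obtain ⟨v, hv, rfl⟩ := mem_cj'.1 hx
    obtain ⟨a, ha, c, hc, e⟩ := hV v hv
    rw [e]
    exact mul_mem (p.sq_mem (hA (cj_mem g ha))).2 (p.UT hc).2
  have h2 : U ≤ V ^ᶜ g := p.le_e8 (e8_cj h.e8 g) h1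
  have h3 : ∀ a ∈ A, g * a * g⁻¹ ∈ T := fun a ha =>
    ⟨hA (cj_mem g ha), centralizer_le (SetLike.coe_subset_coe.2 h2) (cc a ha)⟩
  have h4 : ∀ v ∈ V, g * v * g⁻¹ ∈ V := fun v hv => by
    refine h.invA ?_ (sq_cj g (h.e8.sq v hv))
    obtain ⟨a, ha, c, hc, e⟩ := hV v hv
    rw [e]
    exact mul_mem (h.sqT (h3 a ha)) (h.VA (h.UV hc))
  have h5 : V ^ᶜ g = V := cj_eq_of_mem_normalizer (nrm_of h4)
  refine nrm_of fun a ha => ⟨hA (cj_mem g ha), ?_⟩
  have := cc a ha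
  rwa [h5] at this

theorem sqU (h : Q4 S U V z u f β l) (hw : w ∈ U) : ∃ a ∈ A, a * a = w := by
  rcases h.toP1.memU.1 hw with e | e | e | e <;> rw [e]
  · exact ⟨1, one_mem _, one_mul _⟩
  · exact ⟨l, h.lA, h.l2⟩
  · exact ⟨m, h.mA, h.m2⟩
  · exact ⟨l * (m), mul_mem h.lA h.mA, h.lm2⟩

theorem first (h : Q4 S U V z u f β l) (hf : IsConj z f) : ∃ g ∈ 𝐍(A), g * f * g⁻¹ = z := by
  have q := h.toQ3
  have p := q.toP1
  obtain ⟨c, hc⟩ := isConj_iff.1 hf.symm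
  obtain ⟨k, hk, hS⟩ := H45.NE8.ext_central p.syl p.cz hc (R := A) (p.syl.isP.to_le inf_le_left)
    (fun a ha => mcs.2 ((q.memA (q.AT ha)).1 ha.2))
  refine ⟨k, core q hS fun v hv => ?_, hk⟩
  rcases q.memV.1 hv with hu | ⟨w, hw, rfl⟩
  · obtain ⟨a, ha, e⟩ := sqU h hu
    exact ⟨a, ha, 1, one_mem _, by rw [← e]; group⟩
  · obtain ⟨a, ha, e⟩ := sqU h hw
    exact ⟨a, ha, z, p.zU, by rw [← e, ← hk]; group⟩

theorem card_range {N K : Subgroup G} (hn : N ≤ 𝐍(K)) :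
    Nat.card (H2.conjAut hn).range * Nat.card (N ⊓ 𝐂(K) : Subgroup G) = Nat.card N := by
  rw [← index_ker, H23.ker_conjAut, mul_comm, ← card_mul_index ((𝐂(K)).subgroupOf N)]
  congr 1
  rw [← inf_subgroupOf_left]
  exact (Nat.card_congr (subgroupOfEquivOfLe inf_le_left).toEquiv).symm

end WF

theorem Q4.wc (h : Q4 S U V z u f β l) (hf : IsConj z f) :
    (∀ v ∈ V, ∃ a ∈ A, a * a = v) ∧ (∀ g : G, (A) ^ᶜ g ≤ S → g ∈ 𝐍(A)) ∧ ∃ g ∈ 𝐍(A), g * f * g⁻¹ = z := by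
  have q := h.toQ3
  obtain ⟨k, hk, e⟩ := WF.first h hf
  have h1 : ∀ v ∈ V, ∃ a ∈ A, a * a = v := fun v hv => by
    by_cases hU : v ∈ U
    · exact WF.sqU h hU
    · obtain ⟨x, hx, ex⟩ := q.conjf hv hU
      refine ⟨x * (k⁻¹ * l * k⁻¹⁻¹) * x⁻¹, WF.nm (q.nA hx.1) (WF.nm (inv_mem hk) h.lA), ?_⟩
      have e2 : f = k⁻¹ * (l * l) * k := by rw [h.l2, ← e]; group
      rw [← ex, e2]; group
  refine ⟨h1, fun g hg => WF.core q hg fun v hv => ?_, k, hk, e⟩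
  obtain ⟨a, ha, e⟩ := h1 v hv
  exact ⟨a, ha, 1, one_mem _, by rw [← e]; group⟩

theorem Q3.nA_le (h : Q3 S U V z u f β) :
    𝐍(A) ≤ 𝐍(V) := fun g hg =>
  nrm_of fun v hv => h.invA (WF.nm hg (h.VA hv)) (sq_cj g (h.e8.sq v hv))

theorem Q4.full (h : Q4 S U V z u f β l) (hf : IsConj z f) :
    FullA (A) V := by
  have q := h.toQ3
  have p := q.toP1
  have hn := q.nA_le
  obtain ⟨k, hk, ek⟩ := WF.first h hf
  have zV := q.UV p.zU
  have d8 : 8 ∣ Nat.card (H2.conjAut hn).range := by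
    have e := WF.card_range q.nV
    rw [p.cardS, q.cardT] at e
    have e8 : Nat.card (H2.conjAut q.nV).range = 8 :=
      Nat.eq_of_mul_eq_mul_right (Nat.card_pos (α := (A : Subgroup G))) (by rw [e]; ring)
    rw [← e8]
    refine card_dvd_of_le ?_
    rintro _ ⟨s, rfl⟩
    exact ⟨⟨s, q.nA s.2⟩, rfl⟩
  have d3 : 3 ∣ Nat.card (H2.conjAut hn).range := by
    haveI : Fact (Nat.Prime 3) := ⟨Nat.prime_three⟩
    have o : orderOf (H2.conjAut hn ⟨β, q.bA⟩) = 3 := by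
      refine orderOf_eq_prime ?_ fun e => ?_
      · rw [← map_pow, ← MonoidHom.mem_ker, H23.ker_conjAut, mem_subgroupOf]
        exact centralizer_le (SetLike.coe_subset_coe.2 (q.VA.trans q.AT)) q.cube
      · have e2 : β * z * β⁻¹ = z := congrArg (fun σ : MulAut V => (σ ⟨z, zV⟩ : G)) e
        exact p.ne.2.2.1 (e2.symm.trans q.rz)
    rw [← o]
    exact orderOf_dvd_natCard _ (MonoidHom.mem_range.2 ⟨_, rfl⟩)
  have d7 : 7 ∣ Nat.card (H2.conjAut hn).range := by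
    have tr : ∀ v ∈ V, v ≠ 1 → ∃ g ∈ 𝐍(A), g * z * g⁻¹ = v := fun v hv h1 => by
      by_cases hU : v ∈ U
      · rcases p.memU.1 hU with e | e | e | e
        · exact absurd e h1
        · exact ⟨1, one_mem _, by rw [e]; group⟩
        · exact ⟨β, q.bA, e ▸ q.rz⟩
        · exact ⟨β * β, mul_mem q.bA q.bA, by rw [e, ← q.ru, ← q.rz]; group⟩
      · obtain ⟨x, hx, ex⟩ := q.conjf hv hU
        exact ⟨x * k⁻¹, mul_mem (q.nA hx.1) (inv_mem hk), by rw [← ex, ← ek]; group⟩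
    have eo : MulAction.orbit (H2.conjAut hn).range (⟨z, zV⟩ : V) = {(1 : V)}ᶜ := by
      ext v
      simp only [Set.mem_compl_iff, Set.mem_singleton_iff]
      constructor
      · rintro ⟨σ, rfl⟩ e
        have e2 : (σ : MulAut V) ⟨z, zV⟩ = 1 := e
        exact p.ne.1 (congrArg Subtype.val ((map_eq_one_iff _ (σ : MulAut V).injective).1 e2))
      · intro h1
        obtain ⟨g, hg, e⟩ := tr v v.2 fun e => h1 (Subtype.ext e)
        exact ⟨⟨H2.conjAut hn ⟨g, hg⟩, MonoidHom.mem_range.2 ⟨_, rfl⟩⟩, Subtype.ext e⟩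
    have i7 : (MulAction.stabilizer (H2.conjAut hn).range (⟨z, zV⟩ : V)).index = 7 := by
      rw [MulAction.index_stabilizer, eo]
      have := Set.ncard_add_ncard_compl ({1} : Set V)
      rw [Set.ncard_singleton, q.e8.card] at this
      omega
    rw [← i7]
    exact index_dvd_card _
  have htop : (H2.conjAut hn).range = ⊤ := by
    refine eq_top_of_le_card _ ?_
    rw [B1'.card_aut q.e8]
    refine Nat.le_of_dvd Nat.card_pos ?_
    exact Nat.Coprime.mul_dvd_of_dvd_of_dvd (show Nat.Coprime (8 * 3) 7 by norm_num)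
      (Nat.Coprime.mul_dvd_of_dvd_of_dvd (show Nat.Coprime 8 3 by norm_num) d8 d3) d7
  intro a ha b hb c hc a' ha' b' hb' c' hc' hi hi'
  obtain ⟨σ, h1, h2, h3⟩ := B1'.exists_aut q.e8.card (fun x => Subtype.ext (q.e8.sq x x.2))
    (B1'.ind_coe ha hb hc hi) (B1'.ind_coe ha' hb' hc' hi')
  obtain ⟨j, rfl⟩ := MonoidHom.range_eq_top.1 htop σ
  exact ⟨j, j.2, congrArg Subtype.val h1, congrArg Subtype.val h2, congrArg Subtype.val h3⟩

end H13.R3
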