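import Mathlib
import Cfsg.Agent.Base
import Cfsg.Agent.Lib.RK3.WF
import Cfsg.Agent.Lib.RK3.O7
import Cfsg.Agent.S1137
import Cfsg.Agent.S1138

/-! Simple groups of 2-rank 3, package LAB1 (see `blueprint/RK3/README.md`). -/

set_option autoImplicit false
set_option linter.unusedSectionVars false
set_option linter.unusedVariables false

namespace H13.R3

open Subgroup H69 H70 Cfsg H22.RK H22.RG
open scoped commutatorElement Pointwise

namespace LAB1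

theorem suz {P : Type*} [Group P] [Finite P] (hP : IsPGroup 2 P) (nc : ∃ x y : P, x * y ≠ y * x)
    {σ : MulAut P} (h7 : σ ^ 7 = 1) {z : P} (z1 : z ≠ 1) (z2 : z * z = 1) (ne : σ z ≠ z)
    (tr : ∀ x : P, x ≠ 1 → x * x = 1 → ∃ i : ℕ, (σ ^ i) z = x) : IsSuzukiTwoGroup P := by
  have : Fact (Nat.Prime 7) := ⟨by norm_num⟩
  have o : orderOf σ = 7 := orderOf_eq_prime h7 (by rintro rfl; exact ne rfl)
  have fx : ∀ k ∈ zpowers σ, ∀ x : P, x ≠ 1 → x * x = 1 → k x = x → k = 1 := fun k hk x x1 x2 e => by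
    by_contra k1
    have k7 : k ^ 7 = 1 := by
      obtain ⟨i, rfl⟩ := hk
      rw [← zpow_natCast, ← zpow_mul, mul_comm, zpow_mul, zpow_natCast, h7, one_zpow]
    have e1 : zpowers k = zpowers σ := eq_of_le_of_card_ge (zpowers_le.2 hk) (by
      rw [Nat.card_zpowers, Nat.card_zpowers, o, orderOf_eq_prime k7 k1])
    have e2 : σ x = x := (zpowers_le.2 (show k ∈ MulAction.stabilizer (MulAut P) x from e))
      (e1.ge (mem_zpowers σ))
    obtain ⟨i, rfl⟩ := tr x x1 x2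
    rw [← MulAut.mul_apply, ← pow_succ', pow_succ, MulAut.mul_apply] at e2
    exact ne ((σ ^ i).injective e2)
  refine ⟨inferInstance, hP, nc, ⟨σ z, z, ne, by simpa using z1, by rw [← map_mul, z2, map_one], z1, z2⟩,
    zpowers σ, inferInstance, fun x y x1 x2 y1 y2 => ?_⟩
  obtain ⟨i, hi⟩ := tr x x1 x2
  obtain ⟨j, hj⟩ := tr y y1 y2
  refine existsUnique_of_exists_of_unique ⟨⟨σ ^ j * (σ ^ i)⁻¹, mul_mem (pow_mem (mem_zpowers σ) j)
    (inv_mem (pow_mem (mem_zpowers σ) i))⟩, by rw [← hi, ← hj]; simp⟩ fun k k' e e' => ?_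
  have := fx _ (mul_mem (inv_mem k'.2) k.2) x x1 x2 (by rw [MulAut.mul_apply, e, ← e']; simp)
  exact Subtype.ext (inv_mul_eq_one.1 this).symm

theorem sq_inj {P : Type*} [Group P] [Finite P] (h2 : ∀ z ∈ center P, z * z = 1)
    (h1 : ∀ x : P, x * x ∈ center P) (hs : ∀ z ∈ center P, ∃ x : P, x * x = z)
    (hc : Nat.card P = Nat.card (center P) ^ 2) {a b : P} (e : a * a = b * b) : a⁻¹ * b ∈ center P := by
  let s : P ⧸ center P → center P := Quotient.lift (fun x => ⟨x * x, h1 x⟩) fun x y h => by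
    have h : x⁻¹ * y ∈ center P := QuotientGroup.leftRel_apply.1 h
    refine Subtype.ext ?_
    have c := mem_center_iff.1 h x
    have := h2 _ h
    show x * x = y * y
    rw [← mul_inv_cancel_left x y]
    generalize x⁻¹ * y = w at c this
    rw [mul_assoc, ← mul_assoc w, ← c, mul_assoc x w, this, mul_one]
  have su : Function.Surjective s := fun z =>
    let ⟨x, hx⟩ := hs z z.2; ⟨QuotientGroup.mk x, Subtype.ext hx⟩
  have c := card_eq_card_quotient_mul_card_subgroup (center P)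
  rw [hc, pow_two, mul_left_inj' Nat.card_pos.ne'] at c
  exact QuotientGroup.eq.1 ((su.bijective_of_nat_card_le c.ge).1 (a₁ := a) (a₂ := b) (Subtype.ext e))

theorem singer {G : Type*} [Group G] [Finite G] {V : Subgroup G} {z u f d : G} (h : E8 V) (hz : z ∈ V)
    (hu : u ∈ V) (hf : f ∈ V) (hi : Ind z u f) (e1 : d * z * d⁻¹ = u) (e2 : d * u * d⁻¹ = f)
    (e3 : d * f * d⁻¹ = z * u) :
    (∀ v ∈ V, v ≠ 1 → ∃ i : ℕ, d ^ i * z * (d ^ i)⁻¹ = v) ∧ d ^ 7 ∈ 𝐂(V) := by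
  have st : ∀ {i : ℕ} {v w : G}, d ^ i * z * (d ^ i)⁻¹ = v → d * v * d⁻¹ = w →
      d ^ (i + 1) * z * (d ^ (i + 1))⁻¹ = w := fun a b => by rw [← b, ← a, pow_succ']; group
  have mu : ∀ {a b a' b' : G}, d * a * d⁻¹ = a' → d * b * d⁻¹ = b' → d * (a * b) * d⁻¹ = a' * b' :=
    fun a b => by rw [← a, ← b]; group
  have zu := comm_of_sq h.sq hz hu
  have fz := comm_of_sq h.sq hf hz
  have fu := comm_of_sq h.sq hf hu
  have u2 := h.sq u hu
  have e4 := mu e1 e2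
  have e5 : d * (u * f) * d⁻¹ = z * u * f := by
    rw [mu e2 e3, ← mul_assoc, fz, mul_assoc, fu, mul_assoc]
  have e6 : d * (z * u * f) * d⁻¹ = z * f := by
    rw [mu e4 e3, mul_assoc, ← mul_assoc f, fz, mul_assoc, fu, ← mul_assoc, ← zu, ← mul_assoc,
      mul_assoc z, u2, mul_one]
  have e7 : d * (z * f) * d⁻¹ = z := by rw [mu e1 e3, ← mul_assoc, ← zu, mul_assoc, u2, mul_one]
  have p0 : d ^ 0 * z * (d ^ 0)⁻¹ = z := by simp
  have p1 := st p0 e1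
  have p2 := st p1 e2
  have p3 := st p2 e3
  have p4 := st p3 e4
  have p5 := st p4 e5
  have p6 := st p5 e6
  have p7 : d ^ 7 * z * (d ^ 7)⁻¹ = z := st p6 e7
  have tr : ∀ v ∈ V, v ≠ 1 → ∃ i : ℕ, d ^ i * z * (d ^ i)⁻¹ = v := fun v hv v1 => by
    rcases h.cases hz hu hf hi hv with e | e | e | e | e | e | e | e
    exacts [(v1 e).elim, ⟨_, p0.trans e.symm⟩, ⟨_, e ▸ p1⟩, ⟨_, e ▸ p3⟩, ⟨_, e ▸ p2⟩, ⟨_, e ▸ p6⟩, ⟨_, e ▸ p4⟩,
      ⟨_, e ▸ p5⟩]
  refine ⟨tr, fun v hv => ?_⟩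
  by_cases v1 : v = 1
  · simp [v1]
  obtain ⟨i, rfl⟩ := tr v hv v1
  conv_lhs => rw [← p7]
  group

end LAB1

open LAB1

variable {G : Type*} [Group G] [Finite G] {S U V M : Subgroup G}
  {z u f β l e ρ γ φ y θ t t' x a g s v w : G} {n : ℕ}

local notation "T" => S ⊓ 𝐂(U)
local notation "A" => S ⊓ 𝐂(V)
local notation "W" => U ⊔ zpowers e
local notation "m" => β * l * β⁻¹
local notation "e₂" => β * e * β⁻¹
local notation "S₀" => S ⊓ centralizer (Singleton.singleton y : Set G)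

theorem Q4.lab1 (h : Q4 S U V z u f β l) (hf : IsConj z f) (hn : ¬ A ≤ 𝐂(A)) :
    (∀ a ∈ A, a * a ∈ V) ∧ (∀ a ∈ A, ∀ b ∈ A, a * b * a⁻¹ * b⁻¹ ∈ V) ∧ Nat.card (A : Subgroup G) = 512 := by
  have : Fact (Nat.Prime 7) := ⟨by norm_num⟩
  have q := h.toQ3
  have p := q.toP1
  obtain ⟨z1, u1, zu, zu1⟩ := p.ne
  have zV := q.UV p.zU
  have uV := q.UV p.uU
  have fn : ∀ w ∈ U, f ≠ w := fun w hw e => q.fU (e ▸ hw)
  have i1 : Ind z u f := ⟨z1, u1, zu.symm, fn _ (one_mem _), fn _ p.zU, fn _ p.uU, fn _ (mul_mem p.zU p.uU)⟩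
  have i2 : Ind u f (z * u) := ⟨u1, fn _ (one_mem _), fn _ p.uU, zu1, by simpa using z1,
    (fn _ (mul_mem p.zU p.uU)).symm, fun e => fn _ p.zU (by rw [p.zu] at e; exact (mul_left_cancel e).symm)⟩
  obtain ⟨d, dn, e1, e2, e3⟩ := h.full hf z zV u uV f q.fV u uV f q.fV _ (mul_mem zV uV) i1 i2
  have c7 := (singer q.e8 zV uV q.fV i1 e1 e2 e3).2
  obtain ⟨j, k, hk, ho⟩ := Nat.exists_eq_pow_mul_and_not_dvd (orderOf_pos d).ne' 7 (by norm_num)
  obtain ⟨r, hr⟩ : ∃ r, k ^ 6 = 1 + 7 * r := by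
    have := Nat.ModEq.pow_totient (x := k) (n := 7) ((Nat.Prime.coprime_iff_not_dvd (by norm_num)).2 hk).symm
    rw [Nat.totient_prime (by norm_num)] at this
    have : k ^ 6 % 7 = 1 := this
    exact ⟨k ^ 6 / 7, by omega⟩
  have d7 : (d ^ k ^ 6) ^ 7 ^ j = 1 := by
    rw [← pow_mul, ← orderOf_dvd_iff_pow_eq_one, ho]
    exact ⟨k ^ 5, by ring⟩
  have ac : ∀ v ∈ V, d ^ k ^ 6 * v * (d ^ k ^ 6)⁻¹ = d * v * d⁻¹ := fun v hv => by
    rw [hr, pow_add, pow_one, pow_mul]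
    conv_rhs => rw [← conj_eq_of_mem_centralizer (pow_mem c7 r) hv]
    group
  have dn' := pow_mem dn (k ^ 6)
  rw [← ac z zV] at e1
  rw [← ac u uV] at e2
  rw [← ac f q.fV] at e3
  clear ac
  generalize d ^ k ^ 6 = δ at d7 dn' e1 e2 e3
  obtain ⟨tr, c7'⟩ := singer q.e8 zV uV q.fV i1 e1 e2 e3
  have VC : V ≤ 𝐂(A) := fun v hv a ha => (ha.2 v hv).symm
  have cA : δ ^ 7 ∈ 𝐂(A) := o7 q.sylA.isP VC (fun a => q.invA)
    ⟨j, by rw [← pow_mul, mul_comm, pow_mul, d7, one_pow]⟩ (pow_mem dn' 7) c7'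
  have pw : ∀ (i : ℕ) (x : (A : Subgroup G)),
      ((((A).normalizerMonoidHom ⟨δ, dn'⟩ ^ i) x : (A : Subgroup G)) : G) = δ ^ i * x * (δ ^ i)⁻¹ :=
    fun i x => by rw [← map_pow]; rfl
  have sz : IsSuzukiTwoGroup (A : Subgroup G) := by
    refine suz q.sylA.isP ?_ (σ := (A).normalizerMonoidHom ⟨δ, dn'⟩) ?_ (z := ⟨z, q.VA zV⟩)
      (fun e => z1 (congrArg Subtype.val e)) (Subtype.ext p.z2)
      (fun e => zu ((congrArg Subtype.val e).symm.trans e1)) fun x x1 x2 => ?_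
    · by_contra hc
      push Not at hc
      exact hn fun a ha b hb => congrArg Subtype.val (hc ⟨b, hb⟩ ⟨a, ha⟩)
    · exact MulEquiv.ext fun x => Subtype.ext ((pw 7 x).trans (conj_eq_of_mem_centralizer cA x.2))
    · obtain ⟨i, hi⟩ := tr x (q.invA x.2 (congrArg Subtype.val x2)) fun e => x1 (Subtype.ext e)
      exact ⟨i, Subtype.ext ((pw i _).trans hi)⟩
  obtain ⟨-, s1⟩ := Cfsg.Agent.S1137.result sz
  obtain ⟨s2, s3, s4, -⟩ := Cfsg.Agent.S1138.result sz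
  have ce : center (A : Subgroup G) = V.subgroupOf (A) := le_antisymm
    (fun x hx => q.invA x.2 (congrArg Subtype.val (s1 x hx)))
    fun x hx => mem_center_iff.2 fun g => Subtype.ext (VC hx g g.2)
  have c8 : Nat.card (center (A : Subgroup G)) = 8 := by rw [ce, H69.card_subgroupOf q.VA, q.e8.card]
  have sV : ∀ a ∈ A, a * a ∈ V := fun a ha => ce.le (s2 ⟨a, ha⟩)
  refine ⟨sV, fun a ha b hb => by simpa [mem_subgroupOf] using ce.le (s3 ⟨a, ha⟩⁻¹ ⟨b, hb⟩⁻¹),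
    s4.elim (fun hc => (hn ?_).elim) fun hc => by rw [hc, c8]; rfl⟩
  have ij : ∀ a ∈ A, ∀ b ∈ A, a * a = b * b → ∃ v ∈ V, b = a * v := fun a ha b hb e =>
    ⟨a⁻¹ * b, ce.le (sq_inj s1 s2 (fun v hv => let ⟨x, hx, e⟩ := (h.wc hf).1 v (ce.le hv)
      ⟨⟨x, hx⟩, Subtype.ext e⟩) hc (a := ⟨a, ha⟩) (b := ⟨b, hb⟩) (Subtype.ext e)), by simp⟩
  have cm : ∀ a ∈ A, ∀ v ∈ V, Commute a v := fun a ha v hv => VC hv a ha
  intro b hb a ha
  show Commute a b
  by_cases a1 : a * a = 1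
  · exact (cm b hb a (q.invA ha a1)).symm
  by_cases b1 : b * b = 1
  · exact cm a ha b (q.invA hb b1)
  by_cases ab : b * b = a * a
  · obtain ⟨v, hv, rfl⟩ := ij a ha b hb ab.symm
    exact (Commute.refl a).mul_right (cm a ha v hv)
  obtain ⟨c, hc', i3⟩ := q.e8.ext3 (sV a ha) (sV b hb) a1 b1 ab
  obtain ⟨g, gn, g1, g2, -⟩ := h.full hf _ (sV a ha) _ (sV b hb) c hc' z zV u uV f q.fV i3 i1
  obtain ⟨v, hv, ev⟩ := ij l h.lA _ (conj_mem_of_mem_normalizer gn ha) (by rw [h.l2, ← g1]; group)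
  obtain ⟨w, hw, ew⟩ := ij _ h.mA _ (conj_mem_of_mem_normalizer gn hb) (by rw [h.m2, ← g2]; group)
  have : Commute (g * a * g⁻¹) (g * b * g⁻¹) := by
    rw [ev, ew]
    exact ((show Commute l (m) from h.lm).mul_right (cm l h.lA w hw)).mul_left
      ((cm _ h.mA v hv).symm.mul_right (cm v (q.VA hv) w hw))
  simpa [mul_assoc] using this.conj g⁻¹

end H13.R3
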