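import Mathlib
import Cfsg.Agent.Base
import Cfsg.Agent.Lib.RK3.WF

/-! Simple groups of 2-rank 3, package LAB2 (see `blueprint/RK3/README.md`). -/

set_option autoImplicit false
set_option linter.unusedSectionVars false
set_option linter.unusedVariables false

namespace H13.R3

open Subgroup H69 H70 Cfsg H22.RK H22.RG
open scoped commutatorElement Pointwise

variable {G : Type*} [Group G] [Finite G] {S U V M : Subgroup G}
  {z u f β l e ρ γ φ y θ t t' x a g s v w : G} {n : ℕ}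

namespace LAB2

theorem dvd_ncard {L : Subgroup G} {X : Set G} (h : ∀ a ∈ X, ∀ b ∈ L, a * b ∈ X) :
    Nat.card L ∣ X.ncard := by
  have e : X = QuotientGroup.mk ⁻¹' ((QuotientGroup.mk : G → G ⧸ L) '' X) := by
    refine Set.Subset.antisymm (Set.subset_preimage_image _ _) ?_
    rintro x ⟨a, ha, e⟩
    have := h a ha _ (QuotientGroup.eq.1 e)
    rwa [mul_inv_cancel_left] at this
  rw [← Nat.card_coe_set_eq, e, QuotientGroup.card_preimage_mk]
  exact Dvd.intro _ rfl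

theorem quad {B L : Subgroup G} (cen : ∀ v ∈ V, ∀ a ∈ B, a * v = v * a)
    (par : ∀ v ∈ V, ∀ v' ∈ V, v ∉ U → v' ∉ U → v * v' ∈ U) (h1 : ∀ a ∈ B, a * a ∈ V)
    (h2 : ∀ a ∈ B, ∀ b ∈ B, a * b * a⁻¹ * b⁻¹ ∈ V) (h3 : Nat.card B = 512) (hL : L ≤ B)
    (c64 : 64 ∣ Nat.card L) (hN : ∀ a ∈ L, a * a ∈ U) : {a | a ∈ B ∧ a * a ∈ U}.ncard ≠ 224 := by
  classical
  let K : G → G → G := fun a b => b * a * b⁻¹ * a⁻¹
  have KV : ∀ a ∈ B, ∀ b ∈ B, K a b ∈ V := fun a ha b hb => h2 b hb a ha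
  have sq : ∀ a ∈ B, ∀ b ∈ B, a * b * (a * b) = K a b * (a * a) * (b * b) := fun a ha b hb => by
    calc _ = a * K a b * (a * (b * b)) := by simp only [K]; group
      _ = _ := by rw [cen _ (KV a ha b hb) a ha]; group
  have ml : ∀ a ∈ B, ∀ c ∈ B, ∀ b ∈ B, K (a * c) b = K a b * K c b := fun a ha c hc b hb => by
    calc _ = K a b * (a * K c b) * a⁻¹ := by simp only [K]; group
      _ = _ := by rw [cen _ (KV c hc b hb) a ha]; group
  let L' : Subgroup G :=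
    { carrier := {a | a ∈ B ∧ ∀ b ∈ L, K a b ∈ U}
      one_mem' := ⟨one_mem _, fun b _ => by simp only [K]; group; exact one_mem _⟩
      mul_mem' := fun {a c} ha hc => ⟨mul_mem ha.1 hc.1, fun b hb => by
        rw [ml a ha.1 c hc.1 b (hL hb)]; exact mul_mem (ha.2 b hb) (hc.2 b hb)⟩
      inv_mem' := fun {a} ha => ⟨inv_mem ha.1, fun b hb => by
        have := ml _ (inv_mem ha.1) a ha.1 b (hL hb)
        rw [inv_mul_cancel, show K 1 b = 1 by simp only [K]; group] at this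
        rw [eq_inv_of_mul_eq_one_left this.symm]; exact inv_mem (ha.2 b hb)⟩ }
  have LL : L ≤ L' := fun a ha => ⟨hL ha, fun b hb => by
    have := hN _ (mul_mem ha hb)
    rwa [sq a (hL ha) b (hL hb), mul_mem_cancel_right (hN b hb), mul_mem_cancel_right (hN a ha)] at this⟩
  let P : G → G → Prop := fun a b => b ∈ L ∧ K a b ∉ U
  let σ : G → G := fun a => a * Classical.epsilon (P a)
  have pe : ∀ a ∈ B, a ∉ L' → P a (Classical.epsilon (P a)) := fun a ha hn =>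
    Classical.epsilon_spec (p := P a) (by
      by_contra hc
      exact hn ⟨ha, fun b hb => by_contra fun k => hc ⟨b, hb, k⟩⟩)
  have pσ : ∀ a ∈ B, a ∉ L' → P (σ a) = P a := fun a ha hn => funext fun b => propext
    (and_congr_right fun hb => by
      have m := LL (pe a ha hn).1
      rw [ml a ha _ m.1 b (hL hb), mul_mem_cancel_right (m.2 b hb)])
  have inj : Set.InjOn σ {a | a ∈ B ∧ a ∉ L'} := fun a ha a' ha' e => by
    have : P a = P a' := by rw [← pσ a ha.1 ha.2, e, pσ a' ha'.1 ha'.2]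
    simp only [σ, this] at e
    exact mul_right_cancel e
  have mp : ∀ a ∈ B, a ∉ L' → σ a ∈ B ∧ σ a ∉ L' ∧ (σ a * σ a ∈ U ↔ a * a ∉ U) := fun a ha hn => by
    obtain ⟨p1, p2⟩ := pe a ha hn
    refine ⟨mul_mem ha (hL p1), fun k => hn ((mul_mem_cancel_right (LL p1)).1 k), ?_⟩
    simp only [σ]
    rw [sq a ha _ (hL p1), mul_mem_cancel_right (hN _ p1)]
    exact ⟨fun k k' => p2 ((mul_mem_cancel_right k').1 k), par _ (KV a ha _ (hL p1)) _ (h1 a ha) p2⟩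
  have half : {a | (a ∈ B ∧ a ∉ L') ∧ a * a ∈ U}.ncard = {a | (a ∈ B ∧ a ∉ L') ∧ a * a ∉ U}.ncard :=
    le_antisymm
      (Set.ncard_le_ncard_of_injOn σ (fun a ha => let ⟨x, y, z⟩ := mp a ha.1.1 ha.1.2
        ⟨⟨x, y⟩, fun k => z.1 k ha.2⟩) (inj.mono fun a ha => ha.1))
      (Set.ncard_le_ncard_of_injOn σ (fun a ha => let ⟨x, y, z⟩ := mp a ha.1.1 ha.1.2
        ⟨⟨x, y⟩, z.2 ha.2⟩) (inj.mono fun a ha => ha.1))
  have d1 : 64 ∣ {a | a ∈ L' ∧ a * a ∈ U}.ncard := c64.trans (dvd_ncard fun a ha b hb =>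
    ⟨mul_mem ha.1 (LL hb), by
      rw [sq a ha.1.1 b (hL hb)]; exact mul_mem (mul_mem (ha.1.2 b hb) ha.2) (hN b hb)⟩)
  have d2 : 0 < {a | a ∈ L' ∧ a * a ∈ U}.ncard :=
    (Set.ncard_pos (Set.toFinite _)).2 ⟨1, one_mem _, by rw [mul_one]; exact one_mem _⟩
  have d3 : Nat.card L' ∣ 512 := h3 ▸ card_dvd_of_le fun a ha => ha.1
  have d4 : 64 ∣ Nat.card L' := c64.trans (card_dvd_of_le LL)
  have s1 := Set.ncard_inter_add_ncard_diff_eq_ncard {a | a ∈ B ∧ a * a ∈ U} L'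
  have s2 := Set.ncard_inter_add_ncard_diff_eq_ncard {a | a ∈ B ∧ a ∉ L'} {a | a * a ∈ U}
  have s3 := Set.ncard_inter_add_ncard_diff_eq_ncard (B : Set G) L'
  rw [show {a | a ∈ B ∧ a * a ∈ U} ∩ (L' : Set G) = {a | a ∈ L' ∧ a * a ∈ U} from
      Set.ext fun a => ⟨fun k => ⟨k.2, k.1.2⟩, fun k => ⟨⟨k.1.1, k.2⟩, k.1⟩⟩,
    show {a | a ∈ B ∧ a * a ∈ U} \ (L' : Set G) = {a | (a ∈ B ∧ a ∉ L') ∧ a * a ∈ U} from
      Set.ext fun a => ⟨fun k => ⟨⟨k.1.1, k.2⟩, k.1.2⟩, fun k => ⟨⟨k.1.1, k.2⟩, k.1.2⟩⟩] at s1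
  rw [show (B : Set G) ∩ (L' : Set G) = L' from Set.inter_eq_right.2 fun a ha => ha.1] at s3
  change {a | (a ∈ B ∧ a ∉ L') ∧ a * a ∈ U}.ncard + {a | (a ∈ B ∧ a ∉ L') ∧ a * a ∉ U}.ncard = _ at s2
  change Nat.card L' + {a | a ∈ B ∧ a ∉ L'}.ncard = Nat.card B at s3
  obtain ⟨j, hj⟩ := d4
  have d5 : j ∣ 8 := Nat.dvd_of_mul_dvd_mul_left (by norm_num : 0 < 64) (hj ▸ d3)
  have d6 := Nat.le_of_dvd (by norm_num) d5
  interval_cases j <;> omega

theorem cnt {B : Subgroup G} (hV : E8 V) (VB : V ≤ B) (inv : ∀ a ∈ B, a * a = 1 → a ∈ V) {c : ℕ}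
    (hc : ∀ v ∈ V, v ≠ 1 → {a | a ∈ B ∧ a * a = v}.ncard = c) {X : Subgroup G} (hX : X ≤ V) :
    {a | a ∈ B ∧ a * a ∈ X}.ncard = 8 + (Nat.card X - 1) * c := by
  classical
  have := Fintype.ofFinite G
  have e1 : {a | a ∈ B ∧ a * a = 1} = V :=
    Set.ext fun a => ⟨fun k => inv a k.1 k.2, fun k => ⟨VB k, hV.sq a k⟩⟩
  have fb : ∀ v ∈ X, ({a | a ∈ B ∧ a * a ∈ X}.toFinset.filter fun a => a * a = v).card =
      {a | a ∈ B ∧ a * a = v}.ncard := fun v hv => by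
    rw [← Set.ncard_coe_finset]
    congr 1
    ext a
    simp only [Finset.coe_filter, Set.mem_toFinset, Set.mem_setOf_eq]
    exact ⟨fun k => ⟨k.1.1, k.2⟩, fun k => ⟨⟨k.1, k.2 ▸ hv⟩, k.2⟩⟩
  have m1 : (1 : G) ∈ (X : Set G).toFinset := Set.mem_toFinset.2 (one_mem X)
  rw [Set.ncard_eq_toFinset_card', Finset.card_eq_sum_card_fiberwise (f := fun a => a * a)
    (t := (X : Set G).toFinset) (fun a ha => by simpa using (by simpa using ha : a ∈ B ∧ a * a ∈ X).2),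
    ← Finset.add_sum_erase _ _ m1, fb 1 (one_mem X), e1,
    Finset.sum_const_nat (m := c) fun v hv => by
      have k : v ∈ X := Set.mem_toFinset.1 (Finset.mem_of_mem_erase hv)
      rw [fb v k, hc v (hX k) (Finset.ne_of_mem_erase hv)],
    Finset.card_erase_of_mem m1, ← Set.ncard_eq_toFinset_card']
  exact congrArg (· + _) hV.card

theorem fib {B : Subgroup G} {g : G} (hg : g ∈ 𝐍(B)) (v : G) :
    {a | a ∈ B ∧ a * a = v}.ncard ≤ {a | a ∈ B ∧ a * a = g * v * g⁻¹}.ncard :=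
  Set.ncard_le_ncard_of_injOn (fun a => g * a * g⁻¹)
    (fun a ha => ⟨conj_mem_of_mem_normalizer hg ha.1, by rw [conj_mul, ha.2]⟩)
    fun a _ b _ e => conj_injective e

theorem fib' {B : Subgroup G} {g : G} (hg : g ∈ 𝐍(B)) (v : G) :
    {a | a ∈ B ∧ a * a = g * v * g⁻¹}.ncard = {a | a ∈ B ∧ a * a = v}.ncard :=
  le_antisymm (by simpa [mul_assoc] using fib (inv_mem hg) (g * v * g⁻¹)) (fib hg v)

end LAB2

local notation "T" => S ⊓ 𝐂(U)
local notation "A" => S ⊓ 𝐂(V)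
local notation "W" => U ⊔ zpowers e
local notation "m" => β * l * β⁻¹
local notation "e₂" => β * e * β⁻¹
local notation "S₀" => S ⊓ centralizer (Singleton.singleton y : Set G)

theorem Q4.lab2 (h : Q4 S U V z u f β l) (hf : IsConj z f) (h1 : ∀ a ∈ A, a * a ∈ V)
    (h2 : ∀ a ∈ A, ∀ b ∈ A, a * b * a⁻¹ * b⁻¹ ∈ V) (h3 : Nat.card (A : Subgroup G) = 512) :
    False := by
  have q := h.toQ3
  have p := q.toP1
  obtain ⟨-, -, g, hg, gf⟩ := h.wc hf
  have hc : ∀ v ∈ V, v ≠ 1 → {a | a ∈ A ∧ a * a = v}.ncard = {a | a ∈ A ∧ a * a = f}.ncard := by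
    intro v hv v1
    have cz := LAB2.fib' hg f
    have cu := LAB2.fib' q.bA z
    have czu := LAB2.fib' q.bA u
    rw [gf] at cz
    rw [q.rz, cz] at cu
    rw [q.ru, cu] at czu
    by_cases k : v ∈ U
    · rcases p.memU.1 k with rfl | rfl | rfl | rfl
      exacts [absurd rfl v1, cz, cu, czu]
    · obtain ⟨x, hx, rfl⟩ := q.conjf hv k
      exact LAB2.fib' (q.nA hx.1) f
  have c1 := LAB2.cnt q.e8 q.VA (fun a => q.invA) hc le_rfl
  have c2 := LAB2.cnt q.e8 q.VA (fun a => q.invA) hc q.UV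
  rw [show {a | a ∈ A ∧ a * a ∈ V} = (A : Subgroup G) from
    Set.ext fun a => ⟨fun k => k.1, fun k => ⟨k, h1 a k⟩⟩, q.e8.card] at c1
  change Nat.card (A : Subgroup G) = _ at c1
  rw [p.four.card] at c2
  obtain ⟨y, hy, yf⟩ := q.onto p.zU
  have yV : y ∉ 𝐂(V) := fun k => p.ne.1 (mul_eq_right.1 (yf.symm.trans ((q.memA hy).1 k)))
  have cen : ∀ v ∈ V, ∀ a ∈ A, a * v = v * a := fun v hv a ha => (ha.2 v hv).symm
  have ya : ∀ a ∈ A, y * a * y⁻¹ ∈ A := fun a => conj_mem_of_mem_normalizer (q.nA hy.1)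
  have nv : ∀ a ∈ A, ∀ v ∈ V, a⁻¹ * v * a ∈ V := fun a ha v => conj_mem_of_mem_normalizer' (q.nV ha.1)
  have key : ∀ a ∈ A, ∀ b ∈ A, (y * a * y⁻¹ * a⁻¹)⁻¹ * (y * b * y⁻¹ * b⁻¹) ∈ V →
      y * (a⁻¹ * b) * y⁻¹ * (a⁻¹ * b)⁻¹ ∈ V := fun a ha b hb k => by
    convert nv a ha _ k using 1
    group
  let L : Subgroup G :=
    { carrier := {a | a ∈ A ∧ y * a * y⁻¹ * a⁻¹ ∈ V}
      one_mem' := ⟨one_mem _, by group; exact one_mem _⟩
      mul_mem' := fun {a b} ha hb => ⟨mul_mem ha.1 hb.1, by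
        convert mul_mem ha.2 (nv _ (inv_mem ha.1) _ hb.2) using 1
        group⟩
      inv_mem' := fun {a} ha => ⟨inv_mem ha.1, by
        convert nv a ha.1 _ (inv_mem ha.2) using 1
        group⟩ }
  have LA : L ≤ A := fun a ha => ha.1
  have VL : V ≤ L := fun v hv => ⟨q.VA hv, q.UV (q.cmV hy.1 hv)⟩
  have cL : ∀ a ∈ A, y * a * y⁻¹ * a⁻¹ ∈ L := fun a ha => ⟨mul_mem (ya a ha) (inv_mem ha), by
    convert mul_mem (h2 _ (q.sqT hy) a ha) (h1 _ (mul_mem ha (inv_mem (ya a ha)))) using 1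
    group⟩
  have ri : L.relIndex (A) ≤ V.relIndex L := by
    refine Nat.card_le_card_of_injective (fun a : (A : Subgroup G) ⧸ L.subgroupOf (A) =>
      (((⟨_, cL a.out a.out.2⟩ : L)) : L ⧸ V.subgroupOf L)) fun a b e => ?_
    rw [← a.out_eq, ← b.out_eq]
    exact QuotientGroup.eq.2 (mem_subgroupOf.2 ⟨mul_mem (inv_mem a.out.2) b.out.2,
      key _ a.out.2 _ b.out.2 (mem_subgroupOf.1 (QuotientGroup.eq.1 e))⟩)
  have r1 := H1.card_mul_relIndex_of_le LA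
  have r2 := H1.card_mul_relIndex_of_le VL
  rw [h3] at r1
  rw [q.e8.card] at r2
  have c64 : 64 ∣ Nat.card L := by
    obtain ⟨k, hk, e⟩ := (Nat.dvd_prime_pow Nat.prime_two).1 (show Nat.card L ∣ 2 ^ 9 from Dvd.intro _ r1)
    rw [e] at r1 r2 ⊢
    interval_cases k <;> omega
  refine LAB2.quad (U := U) cen (fun v hv v' hv' k k' => ?_) h1 h2 h3 LA c64 (fun a ha => ?_) (by omega)
  · obtain ⟨w, hw, rfl⟩ := (q.memV.1 hv).resolve_left k
    obtain ⟨w', hw', rfl⟩ := (q.memV.1 hv').resolve_left k'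
    rw [mul_assoc, ← mul_assoc f, cen _ (q.UV hw') f (q.VA q.fV), mul_assoc, q.f2, mul_one]
    exact mul_mem hw hw'
  · refine q.fixV hy yV (h1 a ha.1) ?_
    have k := cen _ ha.2 a ha.1
    calc _ = y * a * y⁻¹ * a⁻¹ * (a * (y * a * y⁻¹ * a⁻¹)) * a := by group
      _ = y * a * y⁻¹ * a⁻¹ * (y * a * y⁻¹ * a⁻¹) * (a * a) := by rw [k]; group
      _ = _ := by rw [q.e8.sq _ ha.2, one_mul]

end H13.R3
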