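import Mathlib
import Cfsg.Agent.Base
import Cfsg.Agent.Lib.RK3.LAB1
import Cfsg.Agent.Lib.RK3.LAB2

/-! Simple groups of 2-rank 3, package LA (see `blueprint/RK3/README.md`). -/

set_option autoImplicit false
set_option linter.unusedSectionVars false
set_option linter.unusedVariables false

namespace H13.R3

open Subgroup H69 H70 Cfsg H22.RK H22.RG
open scoped commutatorElement Pointwise

variable {G : Type*} [Group G] [Finite G] {S U V M : Subgroup G}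
  {z u f β l e ρ γ φ y θ t t' x a g s v w : G} {n : ℕ}

local notation "T" => S ⊓ 𝐂(U)
local notation "A" => S ⊓ 𝐂(V)
local notation "W" => U ⊔ zpowers e
local notation "m" => β * l * β⁻¹
local notation "e₂" => β * e * β⁻¹
local notation "S₀" => S ⊓ centralizer (Singleton.singleton y : Set G)

namespace LAp

theorem mem_cop {Y : Subgroup G} {i j : ℕ} (hc : Nat.Coprime i j) (h1 : g ^ i ∈ Y)
    (h2 : g ^ j ∈ Y) : g ∈ Y := by
  have e := Nat.gcd_eq_gcd_ab i j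
  rw [hc.gcd_eq_one] at e
  have : g = (g ^ i) ^ (Nat.gcdA i j) * (g ^ j) ^ (Nat.gcdB i j) := by
    rw [← zpow_natCast, ← zpow_natCast, ← zpow_mul, ← zpow_mul, ← zpow_add, ← e]
    simp
  rw [this]
  exact mul_mem (zpow_mem h1 _) (zpow_mem h2 _)

theorem split2 (g : G) : ∃ k j : ℕ, Odd j ∧ (g ^ 2 ^ k) ^ j = 1 ∧ (g ^ j) ^ 2 ^ k = 1 := by
  obtain ⟨k, j, hj, e⟩ := Nat.exists_eq_two_pow_mul_odd (orderOf_pos g).ne'
  refine ⟨k, j, hj, ?_, ?_⟩
  · rw [← pow_mul, ← e, pow_orderOf_eq_one]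
  · rw [← pow_mul, mul_comm, ← e, pow_orderOf_eq_one]

theorem isP_zp {k : ℕ} (h : g ^ 2 ^ k = 1) : IsPGroup 2 (zpowers g) := by
  rintro ⟨y, i, rfl⟩
  refine ⟨k, Subtype.ext ?_⟩
  change (g ^ i) ^ 2 ^ k = 1
  rw [← zpow_natCast, ← zpow_mul, mul_comm, zpow_mul, zpow_natCast, h, one_zpow]

theorem pow_of_isP {B : Subgroup G} (h : IsPGroup 2 B) (ha : a ∈ B) : ∃ k : ℕ, a ^ 2 ^ k = 1 := by
  obtain ⟨k, hk⟩ := h ⟨a, ha⟩
  exact ⟨k, congrArg Subtype.val hk⟩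

/-- an element of odd order that centralises the involutions of an abelian 2-group centralises it -/
theorem odd_cen {B : Subgroup G} (hB : IsPGroup 2 B) (cm : B ≤ 𝐂(B))
    (iv : ∀ a ∈ B, a * a = 1 → a ∈ V) {o : G} (hn : o ∈ 𝐍(B)) (hc : o ∈ 𝐂(V)) {j : ℕ}
    (hj : Odd j) (ho : o ^ j = 1) : o ∈ 𝐂(B) := by
  have key : ∀ k : ℕ, ∀ a ∈ B, a ^ 2 ^ k = 1 → o * a * o⁻¹ = a := fun k => by
    induction k with
    | zero => intro a _ e; rw [pow_zero, pow_one] at e; simp [e]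
    | succ k ih =>
      intro a ha e
      have e2 := ih (a * a) (mul_mem ha ha) (by rw [← pow_two, ← pow_mul, ← pow_succ', e])
      have ha' := conj_mem_of_mem_normalizer hn ha
      have c := mem_centralizer_iff_commute.1 (cm ha') _ (inv_mem ha)
      have d2 : o * a * o⁻¹ * a⁻¹ * (o * a * o⁻¹ * a⁻¹) = 1 := by
        calc _ = o * a * o⁻¹ * (a⁻¹ * (o * a * o⁻¹)) * a⁻¹ := by group
          _ = o * (a * a) * o⁻¹ * (a * a)⁻¹ := by rw [c]; group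
          _ = 1 := by rw [e2]; group
      have dV := iv _ (mul_mem ha' (inv_mem ha)) d2
      generalize hd : o * a * o⁻¹ * a⁻¹ = d at d2 dV
      have e3 : o * a * o⁻¹ = d * a := by rw [← hd]; group
      have e4 : ∀ i : ℕ, o ^ i * a * (o ^ i)⁻¹ = d ^ i * a := fun i => by
        induction i with
        | zero => simp
        | succ i ih =>
          calc o ^ (i + 1) * a * (o ^ (i + 1))⁻¹ = o * (o ^ i * a * (o ^ i)⁻¹) * o⁻¹ := by
                rw [pow_succ']; group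
            _ = o * d ^ i * o⁻¹ * (o * a * o⁻¹) := by rw [ih]; group
            _ = d ^ (i + 1) * a := by
                rw [conj_eq_of_mem_centralizer hc (pow_mem dV i), e3, pow_succ, mul_assoc]
      have e5 := e4 j
      obtain ⟨i, rfl⟩ := hj
      rw [ho, pow_succ, pow_mul, pow_two, d2, one_pow, one_mul, one_mul, inv_one, mul_one] at e5
      rw [e3, ← e5]
  refine mem_centralizer_iff_commute.2 fun a ha => ?_
  obtain ⟨k, hk⟩ := pow_of_isP hB ha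
  have := key k a ha hk
  rw [mul_inv_eq_iff_eq_mul] at this
  exact this.symm

/-- the involution of a cyclic 2-group -/
theorem cyc_inv {ν : G} {k : ℕ} (h1 : ν ^ 2 ^ k = z) (z1 : z ≠ 1) (z2 : z * z = 1)
    (hs : s ∈ zpowers ν) (s2 : s * s = 1) : s = 1 ∨ s = z := by
  have : Fact (Nat.Prime 2) := ⟨Nat.prime_two⟩
  have o : orderOf ν = 2 ^ (k + 1) :=
    orderOf_eq_prime_pow (by rw [h1]; exact z1) (by rw [pow_succ, pow_mul, h1, pow_two, z2])
  obtain ⟨j, rfl⟩ := (mem_powers_iff_mem_zpowers.2 hs : s ∈ Submonoid.powers ν)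
  simp only at s2 ⊢
  rw [← pow_two, ← pow_mul, ← orderOf_dvd_iff_pow_eq_one, o, pow_succ] at s2
  obtain ⟨i, rfl⟩ := Nat.dvd_of_mul_dvd_mul_right (by norm_num) s2
  rw [pow_mul, h1]
  exact (mem_zpowers_two z2).1 (pow_mem (mem_zpowers z) i)

theorem bT (h : Q3 S U V z u f β) (hx : x ∈ T) : β * x * β⁻¹ ∈ T :=
  conj_mem_of_mem_normalizer h.toRot.nT hx

/-- the elements of order 4 that are inverted by the other cosets -/
def PW (S U : Subgroup G) (f β l w : G) : Prop :=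
  ∃ μ ∈ A0 f β l, μ * μ = w ∧ ∀ y ∈ S ⊓ 𝐂(U), ∀ w' ∈ U, w' ≠ 1 → w' ≠ w →
    y * f * y⁻¹ = w' * f → y * μ * y⁻¹ = μ⁻¹

theorem eqns : PW S U f β l w ↔ ∃ μ ∈ A0 f β l, μ * μ = w ∧ ∀ y ∈ S ⊓ 𝐂(U), ∀ w' ∈ U,
    w' ≠ 1 → w' ≠ w → y * f * y⁻¹ = w' * f → y * μ * y⁻¹ = μ⁻¹ := by
  unfold PW
  exact Iff.rfl

theorem pw_rot (h : Q4 S U V z u f β l) (p : PW S U f β l w) : PW S U f β l (β * w * β⁻¹) := by
  obtain ⟨μ, h0, h2, hi⟩ := p
  refine ⟨β * μ * β⁻¹, conj_mem_of_mem_normalizer h.bA0 h0, by rw [← h2]; group,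
    fun y hy w' hw w1 w2 e => ?_⟩
  have bf : β⁻¹ * f * β = f := by
    conv_lhs => rw [← h.bf]
    group
  have := hi (β⁻¹ * y * β) (conj_mem_of_mem_normalizer' h.toRot.nT hy) (β⁻¹ * w' * β)
    (conj_mem_of_mem_normalizer' h.bU hw) (fun e => w1 (by
      rw [show w' = β * (β⁻¹ * w' * β) * β⁻¹ by group, e]; group))
    (fun e => w2 (by rw [← e]; group)) (by
      calc _ = β⁻¹ * (y * (β * f * β⁻¹) * y⁻¹) * β := by group
        _ = β⁻¹ * w' * β * (β⁻¹ * f * β) := by rw [h.bf, e]; group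
        _ = _ := by rw [bf])
  calc _ = β * (β⁻¹ * y * β * μ * (β⁻¹ * y * β)⁻¹) * β⁻¹ := by group
    _ = _ := by rw [this]; group

theorem nuA (h : Q3 S U V z u f β) (c : CO S U V z u f β φ n) (hx : x ∈ T) :
    φ * (x * φ * x⁻¹) ∈ A := mul_mem c.pA (conj_mem_of_mem_normalizer (h.nA hx.1) c.pA)

theorem pw_z (h : Q4 S U V z u f β l) (L : LA S V) (c : CO S U V z u f β φ n) :
    PW S U f β l z := by
  obtain ⟨x, hx, xf⟩ := h.onto h.zU
  have hν := nuA h.toQ3 c hx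
  have nz := c.nz x hx xf
  have ni := c.ninv x hx xf
  generalize φ * (x * φ * x⁻¹) = ν at hν nz ni
  have hμ := pow_mem hν (2 ^ (n - 2))
  have n2 := c.n2
  have m2 : ν ^ 2 ^ (n - 2) * ν ^ 2 ^ (n - 2) = z := by
    rw [← pow_two, ← pow_mul, ← pow_succ, show n - 2 + 1 = n - 1 by omega, nz]
  have cm := mem_centralizer_iff_commute.1 (L.comm hμ) _ (inv_mem h.lA)
  have hV : ν ^ 2 ^ (n - 2) * l⁻¹ ∈ V := h.invA (mul_mem hμ (inv_mem h.lA)) (by
    calc _ = ν ^ 2 ^ (n - 2) * (l⁻¹ * ν ^ 2 ^ (n - 2)) * l⁻¹ := by simp only [mul_assoc]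
      _ = ν ^ 2 ^ (n - 2) * ν ^ 2 ^ (n - 2) * (l * l)⁻¹ := by
          rw [cm, mul_inv_rev]; simp only [mul_assoc]
      _ = 1 := by rw [m2, h.l2, mul_inv_cancel])
  refine ⟨_, (h.sq_l hV).1, m2, fun y hy w' hw w1 w2 e => ?_⟩
  rw [← conj_pow, ni y hy ?_, inv_pow]
  rcases h.memU.1 hw with r | r | r | r
  · exact absurd r w1
  · exact absurd r w2
  · exact Or.inl (r ▸ e)
  · exact Or.inr (r ▸ e)

end LAp

open LAp

theorem Q4.la (h : Q4 S U V z u f β l) (hf : IsConj z f) :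
    LA S V := by
  have cm : A ≤ 𝐂(A) := by
    by_contra hn
    obtain ⟨h1, h2, h3⟩ := h.lab1 hf hn
    exact h.lab2 hf h1 h2 h3
  refine ⟨h.full hf, (h.wc hf).2.1, cm, fun g hn hc => ?_⟩
  obtain ⟨k, j, hj, e1, e2⟩ := split2 g
  refine mem_cop (Nat.Coprime.pow_left k (Nat.coprime_two_left.2 hj))
    (odd_cen h.sylA.isP cm (fun a ha => h.invA ha) (pow_mem hn _) (pow_mem hc _) hj e1) (cm ?_)
  exact h.sylA.le_of_le_normalizer' (isP_zp e2) (zpowers_le.2 (pow_mem hc _))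
    (zpowers_le.2 (pow_mem hn _)) (mem_zpowers _)

theorem Q3.la_out (h : Q3 S U V z u f β) (L : LA S V) (ht : t ∈ S) (hU : t ∉ 𝐂(U)) (h2 : t * t ∈ 𝐂(V)) :
    ∃ k ∈ 𝐍(A), k * z * k⁻¹ = z ∧ k * t * k⁻¹ ∈ T ∧ k * t * k⁻¹ * f * (k * t * k⁻¹)⁻¹ = z * f := by
  have : Fact (Nat.Prime 2) := ⟨Nat.prime_two⟩
  obtain ⟨n1, n2, n3, n4⟩ := h.ne
  have zU := h.zU
  have uU := h.uU
  have tz := h.cjz ht
  have tu := h.conj_u ht hU
  obtain ⟨f', fV, fU, tf⟩ : ∃ f' ∈ V, f' ∉ U ∧ t * f' * t⁻¹ = f' := by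
    rcases h.out ht hU h2 f h.fV with e | e
    · exact ⟨f, h.fV, h.fU, e⟩
    · refine ⟨u * f, mul_mem (h.UV uU) h.fV, fun m' => h.fU ((mul_mem_cancel_left uU).1 m'), ?_⟩
      calc t * (u * f) * t⁻¹ = t * u * t⁻¹ * (t * f * t⁻¹) := by group
        _ = z * (u * z) * f := by rw [tu, e]; group
        _ = u * f := by rw [← h.zu, ← mul_assoc z z, h.z2, one_mul]
  have i1 : Ind z f' u := ⟨n1, fun e => fU (e ▸ one_mem _), fun e => fU (e ▸ zU), n2, n3.symm,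
    fun e => fU (e ▸ uU), fun e => fU ((mul_mem_cancel_left zU).1 (e ▸ uU))⟩
  have i2 : Ind z u f := ⟨n1, n2, n3.symm, fun e => h.fU (e ▸ one_mem _), fun e => h.fU (e ▸ zU),
    fun e => h.fU (e ▸ uU), fun e => h.fU (e ▸ mul_mem zU uU)⟩
  obtain ⟨k, hk, kz, kf, ku⟩ := L.full z (h.UV zU) f' fV u (h.UV uU) z (h.UV zU) u (h.UV uU) f h.fV
    i1 i2
  have cj : ∀ a : G, k * t * k⁻¹ * (k * a * k⁻¹) * (k * t * k⁻¹)⁻¹ = k * (t * a * t⁻¹) * k⁻¹ :=
    fun a => by group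
  have a1 := cj z
  have a2 := cj f'
  have a3 := cj u
  rw [tz, kz] at a1
  rw [tf, kf] at a2
  rw [tu, ku, show k * (z * u) * k⁻¹ = k * z * k⁻¹ * (k * u * k⁻¹) by group, kz, ku] at a3
  obtain ⟨j, hj⟩ := pow_of_isP h.syl.isP ht
  have p2 : IsPGroup 2 (zpowers (k * t * k⁻¹)) := isP_zp (k := j) (by rw [conj_pow, hj]; group)
  have tN : k * t * k⁻¹ ∈ 𝐍(A) := mul_mem (mul_mem hk (h.nA ht)) (inv_mem hk)
  generalize e1 : k * t * k⁻¹ = t1 at a1 a2 a3 p2 tN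
  have tC : t1 ∈ 𝐂(U) := mem_centralizer_iff_commute.2 fun w hw => by
    rw [mul_inv_eq_iff_eq_mul] at a1 a2
    rcases h.memU.1 hw with r | r | r | r <;> rw [r]
    · simp
    · exact a1.symm
    · exact a2.symm
    · rw [mul_assoc, ← a2, ← mul_assoc, ← a1, mul_assoc]
  obtain ⟨c, hc, le⟩ := (h.sylT.mono (K := 𝐂(U) ⊓ 𝐍(A))
    (le_inf inf_le_right (inf_le_left.trans h.nA)) inf_le_left).exists_cj_le p2
    (zpowers_le.2 ⟨tC, tN⟩)
  have cz := conj_eq_of_mem_centralizer hc.1 zU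
  have e2 : c * k * t * (c * k)⁻¹ = c * t1 * c⁻¹ := by rw [← e1]; group
  refine ⟨c * k, mul_mem hc.2 hk, ?_, e2 ▸ le (cj_mem c (mem_zpowers _)), ?_⟩
  · calc _ = c * (k * z * k⁻¹) * c⁻¹ := by group
      _ = z := by rw [kz, cz]
  · rcases h.memV.1 (conj_mem_of_mem_normalizer' (h.nA_le hc.2) h.fV) with r | ⟨w, hw, r⟩
    · have := conj_eq_of_mem_centralizer hc.1 r
      rw [show c * (c⁻¹ * f * c) * c⁻¹ = f by group] at this
      exact absurd (this ▸ r) h.fU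
    · have c1 := conj_eq_of_mem_centralizer tC hw
      have c2 := mem_centralizer_iff_commute.1 (h.UT hw).2 z zU
      calc _ = c * (t1 * (c⁻¹ * f * c) * t1⁻¹) * c⁻¹ := by rw [e2]; group
        _ = c * (t1 * w * t1⁻¹ * (t1 * f * t1⁻¹)) * c⁻¹ := by rw [r]; group
        _ = c * (z * (w * f)) * c⁻¹ := by rw [c1, a3, ← mul_assoc w, ← c2, mul_assoc z]
        _ = c * z * c⁻¹ * f := by rw [← r]; group
        _ = z * f := by rw [cz]

theorem Q3.la_conj (h : Q3 S U V z u f β) (L : LA S V) (hv : v ∈ V) (h1 : v ≠ 1) :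
    ∃ k ∈ 𝐍(A), k * z * k⁻¹ = v := by
  obtain ⟨n1, n2, n3, n4⟩ := h.ne
  have zU := h.zU
  have uU := h.uU
  by_cases hU : v ∈ U
  · rcases h.memU.1 hU with r | r | r | r
    · exact absurd r h1
    · exact ⟨1, one_mem _, by simp [r]⟩
    · exact ⟨β, h.bA, r ▸ h.rz⟩
    · refine ⟨β * β, mul_mem h.bA h.bA, ?_⟩
      calc _ = β * (β * z * β⁻¹) * β⁻¹ := by group
        _ = v := by rw [h.rz, h.ru, r]
  · have i1 : Ind z u f := ⟨n1, n2, n3.symm, fun e => h.fU (e ▸ one_mem _), fun e => h.fU (e ▸ zU),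
      fun e => h.fU (e ▸ uU), fun e => h.fU (e ▸ mul_mem zU uU)⟩
    have i2 : Ind v z u := ⟨h1, n1, fun e => hU (e ▸ zU), n2, fun e => hU (e ▸ uU), n3.symm,
      fun e => hU ((mul_mem_cancel_right zU).1 (e ▸ uU))⟩
    obtain ⟨k, hk, kz, -, -⟩ := L.full z (h.UV zU) u (h.UV uU) f h.fV v hv z (h.UV zU) u (h.UV uU)
      i1 i2
    exact ⟨k, hk, kz⟩

theorem Q4.co_on (h : Q4 S U V z u f β l) (L : LA S V) (c : CO S U V z u f β φ n) :
    Hon S U V z (A0 f β l) := by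
  have p1 := pw_z h L c
  have p2 := pw_rot h p1
  rw [h.rz] at p2
  have p3 := pw_rot h p2
  rw [h.ru] at p3
  intro e he hA _ v hv
  obtain ⟨w, hw, ef⟩ := h.cf he.1
  have w1 : w ≠ 1 := fun r => hA ((h.memA he).2 (by rw [ef, r, one_mul]))
  by_cases e1 : v = 1
  · exact ⟨1, one_mem _, by simp [e1]⟩
  by_cases e2 : w = v
  · exact ⟨f, h.V_le h.fV, e2 ▸ ef⟩
  have p : PW S U f β l v := by
    rcases h.memU.1 hv with r | r | r | r
    · exact absurd r e1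
    · exact r ▸ p1
    · exact r ▸ p2
    · exact r ▸ p3
  obtain ⟨μ, h0, h2, hi⟩ := p
  refine ⟨μ, h0, ?_⟩
  rw [hi e he w hw w1 e2 ef, inv_eq_iff_mul_eq_one, ← h2, ← mul_assoc, ← mul_assoc, mul_assoc, h2]
  exact h.sqU hv

theorem Q3.co_sq (h : Q3 S U V z u f β) (L : LA S V) (c : CO S U V z u f β φ n) (he : e ∈ T) (hA : e ∉ 𝐂(V)) (e2 : e * e = 1)
    (hx : x ∈ T) (hw : w ∈ U) (w1 : w ≠ 1) (xf : x * f * x⁻¹ = w * f) (x4 : x * x * (x * x) = 1) :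
    x * x = 1 ∨ x * x = w := by
  have q : ∀ w : G, (∃ e ∈ T, e * e = 1 ∧ e * f * e⁻¹ = w * f) →
      ∃ e ∈ T, e * e = 1 ∧ e * f * e⁻¹ = β * w * β⁻¹ * f := fun w ⟨e, he, e2, ef⟩ =>
    ⟨_, bT h he, by
      calc _ = β * (e * e) * β⁻¹ := by group
        _ = 1 := by rw [e2]; group, h.b_c ef⟩
  obtain ⟨e', he', e2', ef'⟩ : ∃ e ∈ T, e * e = 1 ∧ e * f * e⁻¹ = z * f := by
    obtain ⟨w0, hw0, ef⟩ := h.cf he.1
    rcases h.memU.1 hw0 with r | r | r | r <;> rw [r] at ef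
    · exact absurd ((h.memA he).2 (by rw [ef, one_mul])) hA
    · exact ⟨e, he, e2, ef⟩
    · have := q _ (q _ ⟨e, he, e2, ef⟩)
      rwa [h.ru, h.rzu] at this
    · have := q _ ⟨e, he, e2, ef⟩
      rwa [h.rzu] at this
  have r1 : ∀ x ∈ T, x * f * x⁻¹ = z * f → x * x * (x * x) = 1 → x * x = 1 ∨ x * x = z := by
    intro x hx xf x4
    have aT := mul_mem hx he'
    have aA : x * e' ∈ A := ⟨aT.1, (h.memA aT).2 (by rw [h.mul_c hx h.zU xf ef', h.z2, one_mul])⟩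
    have nm := c.nm1 e' he' ef' _ aA
    rw [show x * e' * (e' * (x * e') * e'⁻¹) = x * (e' * e') * x by group, e2', mul_one] at nm
    exact cyc_inv (c.nz e' he' ef') h.ne.1 h.z2 nm x4
  have r : ∀ w : G, (∀ x ∈ T, x * f * x⁻¹ = β * w * β⁻¹ * f → x * x * (x * x) = 1 →
      x * x = 1 ∨ x * x = β * w * β⁻¹) →
      ∀ x ∈ T, x * f * x⁻¹ = w * f → x * x * (x * x) = 1 → x * x = 1 ∨ x * x = w := by
    intro w hr x hx xf x4
    have sq : β * x * β⁻¹ * (β * x * β⁻¹) = β * (x * x) * β⁻¹ := by group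
    have := hr _ (bT h hx) (h.b_c xf) (by
      calc _ = β * (x * x * (x * x)) * β⁻¹ := by group
        _ = 1 := by rw [x4]; group)
    rw [sq, conj_eq_one_iff, mul_left_inj, mul_right_inj] at this
    exact this
  have r3 := r (z * u) (by rw [h.rzu]; exact r1)
  have r2 := r u (by rw [h.ru]; exact r3)
  rcases h.memU.1 hw with p | p | p | p
  · exact absurd p w1
  · subst p; exact r1 x hx xf x4
  · subst p; exact r2 x hx xf x4
  · subst p; exact r3 x hx xf x4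

end H13.R3
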