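import Mathlib
import Cfsg.Agent.Base
import Cfsg.Agent.Lib.RK3.LA

/-! Simple groups of 2-rank 3, package LCO (see `blueprint/RK3/README.md`). -/

set_option autoImplicit false
set_option linter.unusedSectionVars false
set_option linter.unusedVariables false

namespace H13.R3

open Subgroup H69 H70 Cfsg H22.RK H22.RG
open scoped commutatorElement Pointwise

variable {G : Type*} [Group G] [Finite G] {S U V M : Subgroup G}
  {z u f β l e ρ γ φ y θ t t' x a g s v w : G} {n : ℕ}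

local notation "T" => S ⊓ 𝐂(U)
local notation "A" => S ⊓ 𝐂(V)
local notation "W" => U ⊔ zpowers e
local notation "m" => β * l * β⁻¹
local notation "e₂" => β * e * β⁻¹
local notation "S₀" => S ⊓ centralizer (Singleton.singleton y : Set G)

namespace LCO

theorem cjm (a b k : G) : k * (a * b) * k⁻¹ = k * a * k⁻¹ * (k * b * k⁻¹) := by group

theorem ex_inv {P : Subgroup G} (hP : IsPGroup 2 P) (ha : a ∈ P) (h1 : a ≠ 1) :
    ∃ j : ℕ, a ^ 2 ^ j ≠ 1 ∧ a ^ 2 ^ j * a ^ 2 ^ j = 1 := by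
  obtain ⟨k, hk⟩ := H69.isPGroup_iff_mem.1 hP a ha
  induction k with
  | zero => exact absurd (by simpa using hk) h1
  | succ k ih =>
    by_cases e : a ^ 2 ^ k = 1
    · exact ih e
    · exact ⟨k, e, by rw [← pow_two, ← pow_mul, ← pow_succ, hk]⟩

theorem only_inv {ν : G} (h2 : 1 ≤ n) (e1 : ν ^ 2 ^ (n - 1) = z) (z1 : z ≠ 1) (z2 : z * z = 1)
    (hw : w ∈ zpowers ν) (w2 : w * w = 1) (w1 : w ≠ 1) : w = z := by
  obtain ⟨i, rfl⟩ := (mem_powers_iff_mem_zpowers.2 hw : w ∈ Submonoid.powers ν)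
  have ho : orderOf ν = 2 ^ (n - 1 + 1) := orderOf_eq_prime_pow (by rw [e1]; exact z1)
    (by rw [pow_succ, pow_mul, e1, pow_two, z2])
  have hd : 2 ^ (n - 1 + 1) ∣ i * 2 := by
    rw [← ho, orderOf_dvd_iff_pow_eq_one, pow_mul, pow_two]; exact w2
  rw [pow_succ] at hd
  obtain ⟨j, rfl⟩ := Nat.dvd_of_mul_dvd_mul_right (by norm_num) hd
  simp only [pow_mul, e1] at w1 ⊢
  exact ((mem_zpowers_two z2).1 (pow_mem (mem_zpowers z) j)).resolve_left w1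

theorem cm (L : LA S V) {a b : G} (ha : a ∈ A) (hb : b ∈ A) : Commute a b :=
  mem_centralizer_iff_commute.1 (L.comm hb) a ha

theorem isP (h : Q3 S U V z u f β) : IsPGroup 2 (A : Subgroup G) := h.syl.isP.to_le inf_le_left

theorem act (h : Q3 S U V z u f β) (L : LA S V) (hx : x ∈ T) (hy : y ∈ T)
    (e : x * f * x⁻¹ = y * f * y⁻¹) (ha : a ∈ A) : x * a * x⁻¹ = y * a * y⁻¹ := by
  have h1 : y⁻¹ * x ∈ T := mul_mem (inv_mem hy) hx
  have h2 : y⁻¹ * x ∈ A := ⟨h1.1, (h.memA h1).2 (by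
    calc _ = y⁻¹ * (x * f * x⁻¹) * y := by group
      _ = _ := by rw [e]; group)⟩
  calc _ = y * (y⁻¹ * x * a) * x⁻¹ := by group
    _ = _ := by rw [(cm L h2 ha).eq]; group

theorem mulc (h : Q3 S U V z u f β) (hx : x ∈ T) (hw : w ∈ U) (ex : x * f * x⁻¹ = v * f)
    (ey : y * f * y⁻¹ = w * f) : x * y * f * (x * y)⁻¹ = w * v * f := by
  calc _ = x * (y * f * y⁻¹) * x⁻¹ := by group
    _ = x * w * x⁻¹ * (x * f * x⁻¹) := by rw [ey]; group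
    _ = _ := by rw [conj_eq_of_mem_centralizer hx.2 hw, ex, mul_assoc]

theorem betac (h : Q3 S U V z u f β) (ex : x * f * x⁻¹ = v * f) :
    β * x * β⁻¹ * f * (β * x * β⁻¹)⁻¹ = β * v * β⁻¹ * f := by
  calc _ = β * x * β⁻¹ * (β * f * β⁻¹) * (β * x * β⁻¹)⁻¹ := by rw [h.bf]
    _ = β * (x * f * x⁻¹) * β⁻¹ := by group
    _ = _ := by rw [ex, cjm, h.bf]

/-- the action of `T` on the conjugates of a `β`-fixed element -/
theorem main (h : Q3 S U V z u f β) (L : LA S V) (pA : φ ∈ A) (bp : β * φ * β⁻¹ = φ) (hx : x ∈ T)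
    (xf : x * f * x⁻¹ = z * f) :
    x * (φ * (x * φ * x⁻¹)) * x⁻¹ = φ * (x * φ * x⁻¹) ∧
    β * (φ * (x * φ * x⁻¹)) * β⁻¹ * (x * (β * (φ * (x * φ * x⁻¹)) * β⁻¹) * x⁻¹) = 1 ∧
    ∀ y ∈ T, (y * f * y⁻¹ = u * f ∨ y * f * y⁻¹ = z * u * f) →
      y * (φ * (x * φ * x⁻¹)) * y⁻¹ = (φ * (x * φ * x⁻¹))⁻¹ := by
  have hP := h.toP1
  have nT : ∀ y ∈ T, β * y * β⁻¹ ∈ T := fun y hy => conj_mem_of_mem_normalizer h.nT hy
  have nA : ∀ y ∈ T, ∀ a ∈ A, y * a * y⁻¹ ∈ A := fun y hy a ha =>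
    conj_mem_of_mem_normalizer (h.nA hy.1) ha
  obtain ⟨x2, e2⟩ : ∃ x2, x2 = β * x * β⁻¹ := ⟨_, rfl⟩
  obtain ⟨x3, e3⟩ : ∃ x3, x3 = β * x2 * β⁻¹ := ⟨_, rfl⟩
  have h2 : x2 ∈ T := e2 ▸ nT x hx
  have h3 : x3 ∈ T := e3 ▸ nT x2 h2
  have f2 : x2 * f * x2⁻¹ = u * f := by rw [e2, betac h xf, h.rz]
  have f3 : x3 * f * x3⁻¹ = z * u * f := by rw [e3, betac h f2, h.ru]
  have e1 : β * x3 * β⁻¹ = x := by rw [e3, e2, h.b3 hx]; group
  have zuU : z * u ∈ U := mul_mem hP.zU hP.uU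
  obtain ⟨p1, d1⟩ : ∃ p, p = x * φ * x⁻¹ := ⟨_, rfl⟩
  obtain ⟨p2, d2⟩ : ∃ p, p = x2 * φ * x2⁻¹ := ⟨_, rfl⟩
  obtain ⟨p3, d3⟩ : ∃ p, p = x3 * φ * x3⁻¹ := ⟨_, rfl⟩
  have a1 : p1 ∈ A := d1 ▸ nA x hx φ pA
  have a2 : p2 ∈ A := d2 ▸ nA x2 h2 φ pA
  have a3 : p3 ∈ A := d3 ▸ nA x3 h3 φ pA
  have bb : ∀ y : G, β * (y * φ * y⁻¹) * β⁻¹ = β * y * β⁻¹ * φ * (β * y * β⁻¹)⁻¹ := fun y => by
    nth_rewrite 2 [← bp]; group
  have b1 : β * p1 * β⁻¹ = p2 := by rw [d1, bb, ← e2, d2]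
  have b2 : β * p2 * β⁻¹ = p3 := by rw [d2, bb, ← e3, d3]
  have b3 : β * p3 * β⁻¹ = p1 := by rw [d3, bb, e1, d1]
  have tt : ∀ y y' : G, y * (y' * φ * y'⁻¹) * y⁻¹ = y * y' * φ * (y * y')⁻¹ := fun y y' => by group
  have x1 : x * p1 * x⁻¹ = φ := by
    rw [d1, tt, (cm L (h.sqT hx) pA).eq, mul_inv_cancel_right]
  have x12 : x * p2 * x⁻¹ = p3 := by
    rw [d2, tt, d3]
    exact act h L (mul_mem hx h2) h3 (by rw [mulc h hx hP.uU xf f2, f3, hP.zu]) pA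
  have x13 : x * p3 * x⁻¹ = p2 := by
    rw [d3, tt, d2]
    exact act h L (mul_mem hx h3) h2 (by
      rw [mulc h hx zuU xf f3, f2, hP.zu, mul_assoc u, hP.z2, mul_one]) pA
  have x21 : x2 * p1 * x2⁻¹ = p3 := by
    rw [d1, tt, d3]
    exact act h L (mul_mem h2 hx) h3 (by rw [mulc h h2 hP.zU f2 xf, f3]) pA
  have x31 : x3 * p1 * x3⁻¹ = p2 := by
    rw [d1, tt, d2]
    exact act h L (mul_mem h3 hx) h2 (by
      rw [mulc h h3 hP.zU f3 xf, f2, ← mul_assoc z, hP.z2, one_mul]) pA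
  have c01 := (cm L pA a1).eq
  have c23 := (cm L a2 a3).eq
  have c12 := (cm L a1 a2).eq
  have c13 := (cm L a1 a3).eq
  have sA : φ * p1 * (p2 * p3) ∈ A := mul_mem (mul_mem pA a1) (mul_mem a2 a3)
  have sx : x * (φ * p1 * (p2 * p3)) * x⁻¹ = φ * p1 * (p2 * p3) := by
    rw [cjm, cjm, cjm, ← d1, x1, x12, x13, c01, c23]
  have sb : β * (φ * p1 * (p2 * p3)) * β⁻¹ = φ * p1 * (p2 * p3) := by
    rw [cjm, cjm, cjm, bp, b1, b2, b3, ← c13, mul_assoc, mul_assoc, ← mul_assoc p2, ← c12, mul_assoc]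
  have s1 : φ * p1 * (p2 * p3) = 1 := by
    generalize φ * p1 * (p2 * p3) = σ at sA sx sb
    by_contra hn
    have nx : ∀ y : G, y * σ * y⁻¹ = σ → β * y * β⁻¹ * σ * (β * y * β⁻¹)⁻¹ = σ := fun y e => by
      calc _ = β * y * β⁻¹ * (β * σ * β⁻¹) * (β * y * β⁻¹)⁻¹ := by rw [sb]
        _ = β * (y * σ * y⁻¹) * β⁻¹ := by group
        _ = _ := by rw [e, sb]
    have s2 : x2 * σ * x2⁻¹ = σ := e2 ▸ nx x sx
    have s3 : x3 * σ * x3⁻¹ = σ := e3 ▸ nx x2 s2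
    have sT : ∀ t ∈ T, t * σ * t⁻¹ = σ := fun t ht => by
      obtain ⟨w, hw, e⟩ := h.cf ht.1
      rcases hP.memU.1 hw with r | r | r | r
      · rw [act h L ht (one_mem _) (by rw [e, r]; group) sA]; group
      · rw [act h L ht hx (by rw [e, r, xf]) sA, sx]
      · rw [act h L ht h2 (by rw [e, r, f2]) sA, s2]
      · rw [act h L ht h3 (by rw [e, r, f3]) sA, s3]
    obtain ⟨j, j1, j2⟩ := ex_inv (isP h) sA hn
    refine j1 (h.bU_fix (h.oT _ (h.AT (pow_mem sA _)) (pow_mem ?_ _) j2) (by rw [← conj_pow, sb]))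
    exact mem_centralizer_iff_commute.2 fun t ht => mul_inv_eq_iff_eq_mul.1 (sT t ht)
  rw [← d1]
  refine ⟨by rw [cjm, ← d1, x1, c01], ?_, fun y hy e => ?_⟩
  · rw [cjm, bp, b1, cjm, ← d1, x12, mul_assoc, ← mul_assoc p2, ← c12, ← s1]; group
  · rw [eq_inv_iff_mul_eq_one]
    rcases e with e | e
    · rw [act h L hy h2 (by rw [e, f2]) (mul_mem pA a1), cjm, ← d2, x21,
        (cm L (mul_mem a2 a3) (mul_mem pA a1)).eq, s1]
    · rw [act h L hy h3 (by rw [e, f3]) (mul_mem pA a1), cjm, ← d3, x31, ← c23,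
        (cm L (mul_mem a2 a3) (mul_mem pA a1)).eq, s1]

/-- the elements of `A` killed by `2 ^ k` -/
def Om (L : LA S V) (k : ℕ) : Subgroup G where
  carrier := {a | a ∈ A ∧ a ^ 2 ^ k = 1}
  one_mem' := ⟨one_mem _, one_pow _⟩
  mul_mem' ha hb := ⟨mul_mem ha.1 hb.1, by rw [(cm L ha.1 hb.1).mul_pow, ha.2, hb.2, mul_one]⟩
  inv_mem' ha := ⟨inv_mem ha.1, by rw [inv_pow, ha.2, inv_one]⟩

theorem card_Om (h : Q3 S U V z u f β) (L : LA S V)
    (hv : ∀ v ∈ V, ∃ b ∈ A, b ^ 2 ^ (n - 1) = v) (k : ℕ) (hk : k ≤ n) : Nat.card (Om L k) = 8 ^ k := by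
  induction k with
  | zero =>
    have : Om L 0 = ⊥ := eq_bot_iff.2 fun a ha => mem_bot.2 (by simpa using ha.2)
    rw [this]; simp
  | succ k ih =>
    let ψ : Om L (k + 1) →* G :=
      { toFun := fun a => (a : G) ^ 2 ^ k
        map_one' := one_pow _
        map_mul' := fun a b => (cm L a.2.1 b.2.1).mul_pow _ }
    have le : Om L k ≤ Om L (k + 1) := fun a ha => ⟨ha.1, by rw [pow_succ, pow_mul, ha.2, one_pow]⟩
    have e1 : ψ.ker = (Om L k).subgroupOf (Om L (k + 1)) := by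
      ext a
      exact ⟨fun e => ⟨a.2.1, e⟩, fun e => e.2⟩
    have e2 : ψ.range = V := by
      ext v
      constructor
      · rintro ⟨a, rfl⟩
        exact h.invA (pow_mem a.2.1 _) (by
          show (a : G) ^ 2 ^ k * (a : G) ^ 2 ^ k = 1
          rw [← pow_two, ← pow_mul, ← pow_succ, a.2.2])
      · intro hv'
        obtain ⟨b, hb, e⟩ := hv v hv'
        have e' : (b ^ 2 ^ (n - 1 - k)) ^ 2 ^ k = v := by
          rw [← pow_mul, ← pow_add, show n - 1 - k + k = n - 1 by omega, e]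
        exact ⟨⟨b ^ 2 ^ (n - 1 - k), pow_mem hb _, by
          rw [pow_succ, pow_mul, e', pow_two, h.e8.sq v hv']⟩, e'⟩
    rw [← ψ.ker.card_mul_index, index_ker, e1, e2, card_subgroupOf le, ih (by omega), h.e8.card,
      pow_succ]

end LCO

open LCO

theorem Q4.co (h : Q4 S U V z u f β l) (L : LA S V) :
    ∃ (φ : G) (n : ℕ), CO S U V z u f β φ n := by
  classical
  have q := h.toQ3
  have hP := q.toP1
  have hex : ∃ k : ℕ, ∀ a ∈ A, a ^ 2 ^ k = 1 := by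
    obtain ⟨k, hk⟩ := (isP q).exists_card_eq
    refine ⟨k, fun a ha => ?_⟩
    have := pow_card_eq_one' (x := (⟨a, ha⟩ : (A : Subgroup G)))
    rw [hk] at this
    exact congrArg Subtype.val this
  obtain ⟨n, hn⟩ : ∃ n, n = Nat.find hex := ⟨_, rfl⟩
  have ex : ∀ a ∈ A, a ^ 2 ^ n = 1 := hn ▸ Nat.find_spec hex
  have n2 : 2 ≤ n := by
    by_contra hc
    have := ex l h.lA
    apply hP.ne.1
    rw [← h.l2]
    obtain rfl | rfl : n = 0 ∨ n = 1 := by omega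
    · rw [show l = 1 by simpa using this, mul_one]
    · simpa [pow_two] using this
  have hmin := Nat.find_min hex (show n - 1 < Nat.find hex by omega)
  push Not at hmin
  obtain ⟨a0, h0, a1⟩ := hmin
  have v0 : a0 ^ 2 ^ (n - 1) ∈ V := q.invA (pow_mem h0 _) (by
    rw [← pow_two, ← pow_mul, ← pow_succ, show n - 1 + 1 = n by omega, ex a0 h0])
  have f1 : f ≠ 1 := fun e => h.fU (e ▸ one_mem U)
  obtain ⟨k, hk, ek⟩ := q.la_conj L v0 a1
  obtain ⟨k', hk', ek'⟩ := q.la_conj L h.fV f1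
  obtain ⟨b, eb⟩ : ∃ b, b = k' * k⁻¹ * a0 * (k' * k⁻¹)⁻¹ := ⟨_, rfl⟩
  have bA : b ∈ A := eb ▸ conj_mem_of_mem_normalizer (mul_mem hk' (inv_mem hk)) h0
  have bf : b ^ 2 ^ (n - 1) = f := by rw [eb, conj_pow, ← ek, ← ek']; group
  have nB : ∀ a ∈ A, β * a * β⁻¹ ∈ A := fun a ha => conj_mem_of_mem_normalizer q.bA ha
  have b1 := nB b bA
  have b2 := nB _ b1
  obtain ⟨φ, eφ⟩ : ∃ φ, φ = b * (β * b * β⁻¹) * (β * (β * b * β⁻¹) * β⁻¹) := ⟨_, rfl⟩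
  have pA : φ ∈ A := eφ ▸ mul_mem (mul_mem bA b1) b2
  have bp : β * φ * β⁻¹ = φ := by
    have e3 : β * (β * (β * b * β⁻¹) * β⁻¹) * β⁻¹ = b := by rw [q.b3 (q.AT bA)]; group
    rw [eφ, cjm, cjm, e3, (cm L (mul_mem b1 b2) bA).eq, ← mul_assoc]
  have pf : φ ^ 2 ^ (n - 1) = f := by
    rw [eφ, (cm L (mul_mem bA b1) b2).mul_pow, (cm L bA b1).mul_pow, conj_pow, conj_pow, conj_pow, bf, h.bf,
      h.bf, q.f2, one_mul]
  have nS : ∀ s ∈ S, ∀ a ∈ A, s * a * s⁻¹ ∈ A := fun s hs a ha =>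
    conj_mem_of_mem_normalizer (q.nA hs) ha
  have nz : ∀ x ∈ T, x * f * x⁻¹ = z * f → (φ * (x * φ * x⁻¹)) ^ 2 ^ (n - 1) = z := fun x hx xf => by
    rw [(cm L pA (nS x hx.1 φ pA)).mul_pow, conj_pow, pf, xf, ← mul_assoc,
      (cm L (q.VA h.fV) (q.VA (h.UV hP.zU))).eq, mul_assoc, q.f2, mul_one]
  have pw : ∀ x ∈ T, x * f * x⁻¹ = z * f → ∀ B : Subgroup G, B ≤ A → φ ∈ B → φ * (x * φ * x⁻¹) ∈ B →
      β * (φ * (x * φ * x⁻¹)) * β⁻¹ ∈ B → ∀ v ∈ V, ∃ b ∈ B, b ^ 2 ^ (n - 1) = v := by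
    intro x hx xf B le m1 m2 m3
    have hz := nz x hx xf
    have hu : (β * (φ * (x * φ * x⁻¹)) * β⁻¹) ^ 2 ^ (n - 1) = u := by rw [conj_pow, hz, h.rz]
    have mul : ∀ v w : G, (∃ b ∈ B, b ^ 2 ^ (n - 1) = v) → (∃ b ∈ B, b ^ 2 ^ (n - 1) = w) →
        ∃ b ∈ B, b ^ 2 ^ (n - 1) = v * w := by
      rintro _ _ ⟨a, ha, rfl⟩ ⟨b, hb, rfl⟩
      exact ⟨a * b, mul_mem ha hb, (cm L (le ha) (le hb)).mul_pow _⟩
    have hU : ∀ w ∈ U, ∃ b ∈ B, b ^ 2 ^ (n - 1) = w := fun w hw => by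
      rcases hP.memU.1 hw with r | r | r | r <;> rw [r]
      · exact ⟨1, one_mem _, one_pow _⟩
      · exact ⟨_, m2, hz⟩
      · exact ⟨_, m3, hu⟩
      · exact mul _ _ ⟨_, m2, hz⟩ ⟨_, m3, hu⟩
    intro v hv
    rcases q.memV.1 hv with r | ⟨w, hw, rfl⟩
    · exact hU v r
    · exact mul _ _ (hU w hw) ⟨φ, m1, pf⟩
  have gen : ∀ x ∈ T, x * f * x⁻¹ = z * f →
      closure {φ, φ * (x * φ * x⁻¹), β * (φ * (x * φ * x⁻¹)) * β⁻¹} = A := by
    intro x hx xf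
    have nA := mul_mem pA (nS x hx.1 φ pA)
    have le : closure {φ, φ * (x * φ * x⁻¹), β * (φ * (x * φ * x⁻¹)) * β⁻¹} ≤ A := by
      rw [closure_le]
      rintro _ (rfl | rfl | rfl)
      exacts [pA, nA, nB _ nA]
    have hv := pw x hx xf _ le (subset_closure (by simp)) (subset_closure (by simp))
      (subset_closure (by simp))
    generalize closure {φ, φ * (x * φ * x⁻¹), β * (φ * (x * φ * x⁻¹)) * β⁻¹} = B at le hv
    have key : ∀ k ≤ n, ∀ a ∈ A, a ^ 2 ^ k = 1 → a ∈ B := by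
      intro k
      induction k with
      | zero => intro _ a _ e; rw [show a = 1 by simpa using e]; exact one_mem _
      | succ k ih =>
        intro hk a ha e
        obtain ⟨b, hb, eb⟩ := hv _ (q.invA (pow_mem ha (2 ^ k)) (by
          rw [← pow_two, ← pow_mul, ← pow_succ, e]))
        have e' : (b ^ 2 ^ (n - 1 - k)) ^ 2 ^ k = a ^ 2 ^ k := by
          rw [← pow_mul, ← pow_add, show n - 1 - k + k = n - 1 by omega, eb]
        have hb' := inv_mem (pow_mem hb (2 ^ (n - 1 - k)))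
        have := ih (by omega) _ (mul_mem ha (le hb')) (by
          rw [(cm L ha (le hb')).mul_pow, inv_pow, e', mul_inv_cancel])
        exact (mul_mem_cancel_right hb').1 this
    exact le_antisymm le fun a ha => key n le_rfl a ha (ex a ha)
  have nm1 : ∀ x ∈ T, x * f * x⁻¹ = z * f → ∀ a ∈ A,
      a * (x * a * x⁻¹) ∈ zpowers (φ * (x * φ * x⁻¹)) := by
    intro x hx xf a ha
    obtain ⟨m1, m2, -⟩ := main q L pA bp hx xf
    have e := gen x hx xf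
    rw [← e] at ha
    induction ha using closure_induction with
    | mem a ha =>
      rcases ha with rfl | rfl | rfl
      · exact mem_zpowers _
      · rw [m1]; exact mul_mem (mem_zpowers _) (mem_zpowers _)
      · rw [m2]; exact one_mem _
    | one => simp
    | mul a b ha hb iha ihb =>
      rw [e] at ha hb
      rw [cjm, (cm L hb (nS x hx.1 a ha)).mul_mul_mul_comm]
      exact mul_mem iha ihb
    | inv a ha ih =>
      rw [e] at ha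
      have : a⁻¹ * (x * a⁻¹ * x⁻¹) = (x * a * x⁻¹ * a)⁻¹ := by group
      rw [this, ← (cm L ha (nS x hx.1 a ha)).eq]
      exact inv_mem ih
  obtain ⟨x0, hx0, xf0⟩ := q.onto hP.zU
  refine ⟨φ, n, n2, pA, bp, pf, ex, ?_, nz, nm1, gen, fun x hx xf => (main q L pA bp hx xf).2.2, ?_⟩
  · have nA := mul_mem pA (nS x0 hx0.1 φ pA)
    rw [← card_Om q L (pw x0 hx0 xf0 _ le_rfl pA nA (nB _ nA)) n le_rfl]
    congr 2
    ext a
    exact ⟨fun ha => ⟨ha, ex a ha⟩, fun ha => ha.1⟩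
  · intro ρ rS rU r2 rb
    obtain ⟨k, hk, kz, hx, xf⟩ := q.la_out L rS rU (r2 ▸ one_mem _)
    have h1 := nm1 _ hx xf _ (conj_mem_of_mem_normalizer hk pA)
    rw [show k * φ * k⁻¹ * (k * ρ * k⁻¹ * (k * φ * k⁻¹) * (k * ρ * k⁻¹)⁻¹) =
      k * (φ * (ρ * φ * ρ⁻¹)) * k⁻¹ by group] at h1
    have dA := mul_mem pA (nS ρ rS φ pA)
    have db : β * (φ * (ρ * φ * ρ⁻¹)) * β⁻¹ = φ * (ρ * φ * ρ⁻¹) := by
      have e1 : β = ρ * β⁻¹ * ρ⁻¹ := by
        rw [show ρ * β⁻¹ * ρ⁻¹ = (ρ * β * ρ⁻¹)⁻¹ by group, rb, inv_inv]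
      have e2 : β⁻¹ * φ * β = φ := by nth_rewrite 1 [← bp]; group
      rw [cjm, bp]
      congr 1
      calc _ = ρ * β⁻¹ * ρ⁻¹ * (ρ * φ * ρ⁻¹) * (ρ * β⁻¹ * ρ⁻¹)⁻¹ := by rw [← e1]
        _ = ρ * (β⁻¹ * φ * β) * ρ⁻¹ := by group
        _ = _ := by rw [e2]
    rw [eq_inv_iff_mul_eq_one, ← (cm L pA (nS ρ rS φ pA)).eq]
    generalize φ * (ρ * φ * ρ⁻¹) = δ at h1 dA db
    by_contra hn
    obtain ⟨j, j1, j2⟩ := ex_inv (isP q) dA hn
    have e := only_inv (by omega) (nz _ hx xf) hP.ne.1 hP.z2 (pow_mem h1 (2 ^ j))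
      (by rw [conj_pow, ← cjm, j2]; group) (by rw [conj_pow]; simpa using j1)
    rw [conj_pow, ← kz, mul_left_inj, mul_right_inj] at e
    apply hP.ne.2.2.1
    rw [← h.rz, ← e, ← conj_pow, db]

end H13.R3
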