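import Mathlib
import Cfsg.Agent.Base
import Cfsg.Agent.Lib.RK3.LCO
import Cfsg.Agent.Lib.RK3.II3
import Cfsg.Agent.Lib.RK3.EK1

/-! Simple groups of 2-rank 3, package LW (see `blueprint/RK3/README.md`). -/

set_option autoImplicit false
set_option linter.unusedSectionVars false
set_option linter.unusedVariables false

namespace H13.R3

open Subgroup H69 H70 Cfsg H22.RK H22.RG
open scoped commutatorElement Pointwise

variable {G : Type*} [Group G] [Finite G] {S U V M : Subgroup G}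
  {z u f β l e ρ γ φ y θ t t' x a g s v w : G} {n : ℕ}

local notation "T" => S ⊓ 𝐂(U)
local notation "A" => S ⊓ 𝐂(V)
local notation "W" => U ⊔ zpowers e
local notation "m" => β * l * β⁻¹
local notation "e₂" => β * e * β⁻¹
local notation "S₀" => S ⊓ centralizer (Singleton.singleton y : Set G)

namespace LW

theorem sq_of_conj (h : P1 S U z u) (hz : IsConj z e) : e * e = 1 := by
  obtain ⟨c, rfl⟩ := isConj_iff.1 hz
  exact sq_cj c h.z2

theorem ex_e (h : Q4 S U V z u f β l) (L : LA S V) :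
    ∃ e ∈ T, e ∉ 𝐂(V) ∧ IsConj z e := by
  have h3 := h.toQ3
  have h1 := h.toP1
  obtain ⟨x, hx, g, gS, gV⟩ := h.nsc.exists h.VS h.e8.ne_bot h.e8.sq
  have x1 : x ≠ 1 := by
    rintro rfl
    exact gV (by simpa using V.one_mem)
  obtain ⟨k, -, hk⟩ := h3.la_conj L hx x1
  have cz : IsConj z (g * x * g⁻¹) :=
    (isConj_iff.2 ⟨k, hk⟩).trans (isConj_iff.2 ⟨g, rfl⟩)
  have t2 := sq_of_conj h1 cz
  by_cases hU : g * x * g⁻¹ ∈ 𝐂(U)
  · exact ⟨_, ⟨gS, hU⟩, fun hc => gV (h3.invA ⟨gS, hc⟩ t2), cz⟩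
  · obtain ⟨k', -, -, k2, k3⟩ := h3.la_out L gS hU (by rw [t2]; exact one_mem _)
    refine ⟨_, k2, fun hc => ?_, cz.trans (isConj_iff.2 ⟨k', rfl⟩)⟩
    rw [(h3.memA k2).1 hc] at k3
    exact h1.ne.1 (by simpa using k3.symm)

theorem key (h : Q4 S U V z u f β l) (L : LA S V) (c : CO S U V z u f β φ n) (he : e ∈ T)
    (hA : e ∉ 𝐂(V)) (e2 : e * e = 1) {k : G} (hk : k ∈ 𝐍(U)) (hW : (W) ^ᶜ k = V)
    (ha : a ∈ A0 f β l) :
    a * e * a⁻¹ * e⁻¹ = 1 ∨ a * a = 1 ∨ a * a = a * e * a⁻¹ * e⁻¹ := by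
  have h3 := h.toQ3
  have h1 := h.toP1
  have aA := h.A0_le ha
  have aT := h3.AT aA
  have wU : a * e * a⁻¹ * e⁻¹ ∈ U := by
    have := inv_mem (h.inv_mod he hA e2 ha)
    simpa [mul_assoc] using this
  have a4 : a * a * (a * a) = 1 := h1.sqU (h.sqA0 ha)
  have eU : e ∉ U := fun hh => hA (h3.VA (h.UV hh)).2
  -- the conjugate of `a`
  have n1 : k * a * k⁻¹ ∈ 𝐂(U) ⊓ 𝐍(V) := by
    refine ⟨conj_mem_of_mem_normalizer (H69.normalizer_le_normalizer_centralizer U hk) aT.2, ?_⟩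
    have := cj_mem k (h.A0_nW he hA e2 ha)
    rwa [cj_normalizer, hW] at this
  have syl : IsSylowIn 2 (T) (𝐂(U) ⊓ 𝐍(V)) :=
    h1.sylT.mono (le_inf inf_le_right (inf_le_left.trans h.nV)) inf_le_left
  have b4 : k * a * k⁻¹ * (k * a * k⁻¹) * (k * a * k⁻¹ * (k * a * k⁻¹)) = 1 := by
    calc _ = k * (a * a * (a * a)) * k⁻¹ := by group
      _ = 1 := by rw [a4]; group
  obtain ⟨d, hd, hdT⟩ := syl.exists_cj_le (isP_zp b4) (zpowers_le.2 n1)
  have xT : d * k * a * (d * k)⁻¹ ∈ T := by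
    have := hdT (cj_mem d (mem_zpowers _))
    convert this using 1
    group
  have kU : d * k ∈ 𝐍(U) := mul_mem (le_normalizer_of_le_centralizer le_rfl hd.1) hk
  have eV : d * k * e * (d * k)⁻¹ ∈ V := by
    have h4 : k * e * k⁻¹ ∈ V := hW ▸ cj_mem k (mem_sup_right (mem_zpowers e))
    have := conj_mem_of_mem_normalizer hd.2 h4
    convert this using 1
    group
  generalize d * k = q at xT kU eV
  have eU' : q * e * q⁻¹ ∉ U := fun hh => eU (by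
    have := conj_mem_of_mem_normalizer' kU hh
    simpa [mul_assoc] using this)
  obtain ⟨v, hv, ev⟩ := (h3.memV.1 eV).resolve_left eU'
  set w := a * e * a⁻¹ * e⁻¹ with hw
  by_cases w1 : w = 1
  · exact Or.inl w1
  right
  have wU' : q * w * q⁻¹ ∈ U := conj_mem_of_mem_normalizer kU wU
  have xv : q * a * q⁻¹ * v⁻¹ * (q * a * q⁻¹)⁻¹ = v⁻¹ :=
    conj_eq_of_mem_centralizer xT.2 (inv_mem hv)
  have vw : v⁻¹ * (q * w * q⁻¹) * v⁻¹⁻¹ = q * w * q⁻¹ :=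
    conj_eq_of_mem_centralizer (h1.UT (inv_mem hv)).2 wU'
  have ef : f = v⁻¹ * (q * e * q⁻¹) := by rw [ev]; group
  have xf : q * a * q⁻¹ * f * (q * a * q⁻¹)⁻¹ = q * w * q⁻¹ * f := by
    calc q * a * q⁻¹ * f * (q * a * q⁻¹)⁻¹
        = q * a * q⁻¹ * v⁻¹ * (q * a * q⁻¹)⁻¹ * (q * w * q⁻¹) * (q * e * q⁻¹) := by
          rw [ef, hw]; group
      _ = v⁻¹ * (q * w * q⁻¹) * v⁻¹⁻¹ * (v⁻¹ * (q * e * q⁻¹)) := by rw [xv]; group
      _ = q * w * q⁻¹ * f := by rw [vw, ← ef]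
  have x4 : q * a * q⁻¹ * (q * a * q⁻¹) * (q * a * q⁻¹ * (q * a * q⁻¹)) = 1 := by
    calc _ = q * (a * a * (a * a)) * q⁻¹ := by group
      _ = 1 := by rw [a4]; group
  have e1 : q * a * q⁻¹ * (q * a * q⁻¹) = q * (a * a) * q⁻¹ := by group
  rcases h3.co_sq L c he hA e2 xT wU' (fun hh => w1 (by simpa using hh)) xf x4 with h5 | h5
  · left
    rw [e1] at h5
    simpa using h5
  · right
    rw [e1] at h5
    simpa using h5

theorem hV (h : Q4 S U V z u f β l) (L : LA S V) (c : CO S U V z u f β φ n) (he : e ∈ T)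
    (hA : e ∉ 𝐂(V)) (e2 : e * e = 1) : ∀ k ∈ 𝐍(U), (W) ^ᶜ k ≠ V := by
  intro k hk hW
  have h3 := h.toQ3
  have h1 := h.toP1
  obtain ⟨d, hd, ed⟩ := h3.cf he.1
  have d1 : d ≠ 1 := fun hh => hA ((h3.memA he).2 (by rw [ed, hh, one_mul]))
  have di : d⁻¹ = d := inv_eq_of_mul_eq_one_right (h1.sqU hd)
  obtain ⟨μ, hμ, m1, md⟩ : ∃ μ ∈ A0 f β l, μ * μ ≠ 1 ∧ μ * μ ≠ d := by
    by_cases hz : d = z
    · exact ⟨m, h.m_mem, by rw [h.m2]; exact h1.ne.2.1, by rw [h.m2, hz]; exact h1.ne.2.2.1.symm⟩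
    · exact ⟨l, h.l_mem, by rw [h.l2]; exact h1.ne.1, by rw [h.l2]; exact Ne.symm hz⟩
  have mA := h.A0_le hμ
  have mf : μ * f * μ⁻¹ = f := conj_eq_of_mem_centralizer mA.2 h.fV
  have md' : μ * d * μ⁻¹ = d := conj_eq_of_mem_centralizer mA.2 (h.UV hd)
  have fe : f * e * f⁻¹ = d * e := by
    calc f * e * f⁻¹ = f * (e * f * e⁻¹)⁻¹ * e := by group
      _ = d⁻¹ * e := by rw [ed]; group
      _ = d * e := by rw [di]
  have s1 : μ * f * (μ * f) = μ * μ := by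
    calc μ * f * (μ * f) = μ * (f * (μ * f * μ⁻¹)) * μ := by group
      _ = μ * μ := by rw [mf, h3.f2]; group
  have s2 : μ * f * e * (μ * f)⁻¹ * e⁻¹ = d * (μ * e * μ⁻¹ * e⁻¹) := by
    calc μ * f * e * (μ * f)⁻¹ * e⁻¹ = μ * (f * e * f⁻¹) * μ⁻¹ * e⁻¹ := by group
      _ = μ * d * μ⁻¹ * (μ * e * μ⁻¹ * e⁻¹) := by rw [fe]; group
      _ = _ := by rw [md']
  have k1 := key h L c he hA e2 hk hW hμ
  have k2 := key h L c he hA e2 hk hW (mul_mem hμ (h.V_le h.fV))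
  rw [s1, s2] at k2
  generalize μ * e * μ⁻¹ * e⁻¹ = w at k1 k2
  generalize μ * μ = r at k1 k2 m1 md
  rcases k1 with rfl | k1 | rfl
  · simp only [mul_one] at k2
    tauto
  · exact m1 k1
  · rcases k2 with k2 | k2 | k2
    · exact md (by rw [← di]; exact (inv_eq_of_mul_eq_one_right k2).symm)
    · exact m1 k2
    · exact d1 (by simpa using k2.symm)

theorem n_two (h : EE S U V z u f β l e ρ γ) (L : LA S V) (c : CO S U V z u f β φ n) : n = 2 := by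
  have h3 := h.toQ3
  have h1 := h.toP1
  have e2 := sq_of_conj h1 h.ez
  have pA := c.pA
  have qA : e * φ * e⁻¹ ∈ A := conj_mem_of_mem_normalizer (h3.nA h.eT.1) pA
  have cm : φ * (e * φ * e⁻¹) = e * φ * e⁻¹ * φ := mem_centralizer_iff_commute.1 (L.comm qA) φ pA
  have nz := c.nz e h.eT h.ef
  have rp := c.rho ρ h.rS h.rU h.r2 h.rb
  have nA : φ * (e * φ * e⁻¹) ∈ A := mul_mem pA qA
  have en : e * (φ * (e * φ * e⁻¹)) * e⁻¹ = φ * (e * φ * e⁻¹) := by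
    calc e * (φ * (e * φ * e⁻¹)) * e⁻¹ = e * φ * e⁻¹ * ((e * e) * φ * (e * e)⁻¹) := by group
      _ = _ := by rw [e2, cm]; group
  have rn : ρ * (φ * (e * φ * e⁻¹)) * ρ⁻¹ = (φ * (e * φ * e⁻¹))⁻¹ := by
    calc ρ * (φ * (e * φ * e⁻¹)) * ρ⁻¹
        = ρ * φ * ρ⁻¹ * (ρ * e * ρ⁻¹) * (ρ * φ * ρ⁻¹) * (ρ * e * ρ⁻¹)⁻¹ := by group
      _ = (e * φ * e⁻¹ * φ)⁻¹ := by rw [rp, h.re]; group
      _ = _ := by rw [cm]
  generalize φ * (e * φ * e⁻¹) = ν at nz nA en rn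
  have nR : ν ∈ S ⊓ 𝐂(W) :=
    ⟨nA.1, cent_sup (h3.AT nA).2 (cent_zpowers (comm_of_cj en))⟩
  have hc := h.rho_cm nR
  rw [rn] at hc
  have ze : z * e = e * z := mem_centralizer_iff_commute.1 h.eT.2 z h1.zU
  have n4 : ν⁻¹ * ν⁻¹ * (ν⁻¹ * ν⁻¹) = 1 := by
    rcases (mem_sp2 h1.z2 e2 ze).1 hc with h5 | h5 | h5 | h5 <;> rw [h5]
    · exact mul_one _
    · exact h1.z2
    · exact e2
    · calc z * e * (z * e) = z * (e * z) * e := by group
        _ = z * z * (e * e) := by rw [← ze]; group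
        _ = 1 := by rw [h1.z2, e2, mul_one]
  have n4' : ν ^ 4 = 1 := by
    rw [← inv_eq_one, ← n4]
    group
  have := c.n2
  by_contra hn
  obtain ⟨j, rfl⟩ : ∃ j, n = j + 3 := ⟨n - 3, by omega⟩
  rw [show 2 ^ (j + 3 - 1) = 4 * 2 ^ j by rw [show j + 3 - 1 = j + 2 from rfl]; ring, pow_mul, n4',
    one_pow] at nz
  exact h1.ne.1 nz.symm

end LW

theorem Q4.lw (h : Q4 S U V z u f β l) (hf : IsConj z f) :
    ∃ f' β' l' e ρ γ φ y : G, ON S U V z u f' β' l' e ρ γ φ y := by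
  have L := h.la hf
  obtain ⟨φ, n, c⟩ := h.co L
  obtain ⟨e, he, hA, hz⟩ := LW.ex_e h L
  obtain ⟨f', β', l', e', ρ, γ, E, -, -⟩ := h.ii (h.co_on L c) he hA hz
    (LW.hV h L c he hA (LW.sq_of_conj h.toP1 hz))
  obtain ⟨φ', n', c'⟩ := E.toQ4.co L
  obtain rfl := LW.n_two E L c'
  exact ⟨f', β', l', e', ρ, γ, φ', _, E, L, c', rfl⟩

end H13.R3
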