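import Mathlib
import Cfsg.Agent.Base
import Cfsg.Agent.Lib.RK3.REINV
import Cfsg.Agent.Lib.Rk3G.Good

/-! Simple groups of 2-rank 3, package NA (see `blueprint/RK3/README.md`). -/

set_option autoImplicit false
set_option linter.unusedSectionVars false
set_option linter.unusedVariables false

namespace H13.R3

open Subgroup H69 H70 Cfsg H22.RK H22.RG
open scoped commutatorElement Pointwise

variable {G : Type*} [Group G] [Finite G] {S U V M : Subgroup G}
  {z u f β l e ρ γ φ y θ t t' x a g s v w : G} {n : ℕ}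

local notation "T" => S ⊓ 𝐂(U)
local notation "A" => S ⊓ 𝐂(V)
local notation "W" => U ⊔ zpowers e
local notation "m" => β * l * β⁻¹
local notation "e₂" => β * e * β⁻¹
local notation "S₀" => S ⊓ centralizer (Singleton.singleton y : Set G)

namespace NA

theorem sq (h : P1 S U z u) (hz : IsConj z t) : t * t = 1 := by
  obtain ⟨c, rfl⟩ := isConj_iff.1 hz
  exact sq_cj c h.z2

theorem ne1 (h : P1 S U z u) (hz : IsConj z t) : t ≠ 1 := by
  rintro rfl
  exact h.ne.1 (isConj_one_left.1 hz)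

theorem nez (h : P1 S U z u) (ht : KK S U z t) : t ≠ z := by
  rintro rfl
  exact ht.2.1 (h.UT h.zU).2

theorem cj_inj {k a b : G} (e : k * a * k⁻¹ = k * b * k⁻¹) : a = b :=
  mul_left_cancel (mul_right_cancel e)

theorem kk_mul (ht : KK S U z t) (hx : x ∈ T) (hc : IsConj t (t * x)) : KK S U z (t * x) :=
  ⟨mul_mem ht.1 hx.1, fun e => ht.2.1 (by simpa using mul_mem e (inv_mem hx.2)), ht.2.2.trans hc⟩

end NA

open NA

theorem Q4.na8 (h : Q4 S U V z u f β l) (ht : KK S U z t) (ht' : KK S U z t') (j : ℤ) :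
    KK S U z (t * (t * t') ^ j) := by
  have p : P1 S U z u := h.toP1
  have hr : (t * t') ^ j ∈ T := zpow_mem (p.mul_mem ht.1 ht.2.1 ht'.1 ht'.2.1) j
  have t2 := sq p ht.2.2
  have t2' := sq p ht'.2.2
  refine ⟨mul_mem ht.1 hr.1, fun e => ht.2.1 (by simpa using mul_mem e (inv_mem hr.2)), ?_⟩
  have key : ∀ {k : G}, k * (t * t') * k⁻¹ = (t * t')⁻¹ → ∀ n : ℤ,
      IsConj k (k * (t * t') ^ (2 * n)) := fun {k} hk n => isConj_iff.2 ⟨(t * t') ^ (-n), by
    have := inv_zp hk n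
    calc (t * t') ^ (-n) * k * ((t * t') ^ (-n))⁻¹
        = (k * (t * t') ^ n * k⁻¹) * k * ((t * t') ^ (-n))⁻¹ := by rw [this]
      _ = _ := by group⟩
  obtain ⟨n, rfl | rfl⟩ := Int.even_or_odd' j
  · exact ht.2.2.trans (key (inv_l t2 t2') n)
  · have e : t * (t * t') ^ (2 * n + 1) = t' * (t * t') ^ (2 * n) := by
      rw [add_comm, zpow_add, zpow_one, ← mul_assoc, ← mul_assoc, t2, one_mul]
    rw [e]
    exact ht'.2.2.trans (key (inv_r t2 t2') n)

theorem Q4.na1 (h : Q4 S U V z u f β l) (nn : NN S U z) (ht : KK S U z t) (hs : s ∈ S) (hz : IsConj z s) (c : s * t = t * s) :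
    s = z ∨ s = t ∨ s = t * z := by
  have p : P1 S U z u := h.toP1
  obtain ⟨f', β', l', h', -, -, tl, -⟩ := h.reinv ht.1 ht.2.1 (sq p ht.2.2)
  obtain ⟨g, hg⟩ := isConj_iff.1 ht.2.2.symm
  obtain ⟨k, hk, hR⟩ := H45.NE8.ext_central p.syl p.cz hg
    (R := S ⊓ centralizer {t}) (p.syl.isP.to_le inf_le_left) inf_le_right
  have mk : ∀ a ∈ S, a * t = t * a → k * a * k⁻¹ ∈ S := fun a ha e =>
    hR (cj_mem k (show a ∈ S ⊓ centralizer {t} from ⟨ha, mcs.2 (cj_of_comm e)⟩))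
  have hl : k * l' * k⁻¹ ∈ S := mk l' h'.lA.1 (comm_of_cj tl).symm
  have hw : k * z * k⁻¹ ∈ U := nn _ (by
    have := p.sq_mem hl
    rwa [conj_mul, h'.l2] at this) (isConj_iff.2 ⟨k, rfl⟩)
  have w1 : k * z * k⁻¹ ≠ 1 := ne1 p (isConj_iff.2 ⟨k, rfl⟩)
  have wz : k * z * k⁻¹ ≠ z := fun e => nez p ht (cj_inj (hk.trans e.symm))
  have hs' : k * s * k⁻¹ ∈ S := mk s hs c
  have hc : k * s * k⁻¹ ∈ 𝐂(U) := by
    by_contra hc
    refine (p.fix_out hs' hc hw ?_).elim w1 wz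
    calc _ = k * (s * z * s⁻¹) * k⁻¹ := by group
      _ = _ := by rw [p.cjz hs]
  have hU := nn _ ⟨hs', hc⟩ (hz.trans (isConj_iff.2 ⟨k, rfl⟩))
  have s1 : k * s * k⁻¹ ≠ 1 := ne1 p (hz.trans (isConj_iff.2 ⟨k, rfl⟩))
  have e3 : k * (t * z) * k⁻¹ = z * (k * z * k⁻¹) := by rw [← conj_mul, hk]
  rcases p.memU.1 hw with e | e | e | e
  · exact absurd e w1
  · exact absurd e wz
  · rcases p.memU.1 hU with e' | e' | e' | e'
    · exact absurd e' s1
    · exact .inr (.inl (cj_inj (e'.trans hk.symm)))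
    · exact .inl (cj_inj (e'.trans e.symm))
    · exact .inr (.inr (cj_inj (by rw [e', e3, e])))
  · rcases p.memU.1 hU with e' | e' | e' | e'
    · exact absurd e' s1
    · exact .inr (.inl (cj_inj (e'.trans hk.symm)))
    · exact .inr (.inr (cj_inj (by rw [e', e3, e, ← mul_assoc, p.z2, one_mul])))
    · exact .inl (cj_inj (e'.trans e.symm))

theorem Q4.na2 (h : Q4 S U V z u f β l) (ht : KK S U z t) :
    ∃ x, XX S U V z l t x := by
  have p : P1 S U z u := h.toP1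
  have q : Q3 S U V z u f β := h.toQ3
  have t2 := sq p ht.2.2
  have ti := inv_of_sq t2
  obtain ⟨a, ha⟩ : ∃ a, a = m := ⟨_, rfl⟩
  have hv := h.sm t ht.1 ht.2.1
  have aA := h.mA
  have lm := h.lm
  rw [← ha] at hv aA lm
  have xl : a⁻¹ * (t * a * t⁻¹) * l⁻¹ ∈ V := by
    have e := mem_centralizer_iff.1 aA.2 _ hv
    have : a⁻¹ * (t * a * t⁻¹) * l⁻¹ = t * a * t⁻¹ * (l * a)⁻¹ := by
      calc _ = a⁻¹ * (t * a * t⁻¹ * (l * a)⁻¹ * (l * a)) * l⁻¹ := by group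
        _ = a⁻¹ * (t * a * t⁻¹ * (l * a)⁻¹ * a) := by
          rw [mul_assoc a⁻¹, mul_assoc _ (l * a), lm, mul_inv_cancel_right]
        _ = _ := by rw [e]; group
    rwa [this]
  refine ⟨a⁻¹ * (t * a * t⁻¹), ht, xl, ?_, kk_mul ht (q.AT (h.A0_le (h.sq_l xl).1))
    (isConj_iff.2 ⟨t * a⁻¹, by group⟩)⟩
  calc _ = t * a⁻¹ * (t * a * (t * t)⁻¹) := by group
    _ = t * a⁻¹ * (t⁻¹ * a) := by rw [t2, inv_one, mul_one, ti]
    _ = _ := by group

theorem Q4.na3 (h : Q4 S U V z u f β l) (ht : KK S U z t) (xl : x * l⁻¹ ∈ V) :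
    t * x * t⁻¹ = x ∨ t * x * t⁻¹ = x⁻¹ := by
  have p : P1 S U z u := h.toP1
  have q : Q3 S U V z u f β := h.toQ3
  have t2 := sq p ht.2.2
  obtain ⟨f', β', l', -, -, -, tl, -, hl, -⟩ := h.reinv ht.1 ht.2.1 t2
  have hv : x * l'⁻¹ ∈ V := by simpa [mul_assoc] using mul_mem xl (inv_mem hl)
  have e : t * x * t⁻¹ = t * (x * l'⁻¹) * t⁻¹ * (t * l' * t⁻¹) := by group
  rw [e, tl, (h.sq_l xl).2.2.1]
  rcases q.out ht.1 ht.2.1 (by rw [t2]; exact one_mem _) _ hv with e | e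
  · exact .inl (by rw [e]; group)
  · exact .inr (by rw [e]; group)

theorem NA.na4' (h : Q4 S U V z u f β l) (nn : NN S U z) (ht : KK S U z t) (ht' : KK S U z t')
    (hn : t * t' * (t * t') ≠ 1) :
    ∃ k : ℕ, (t * t') ^ 2 ^ k * (t * t') ^ 2 ^ k = z ∧ KK S U z (t * (t * t') ^ 2 ^ k) := by
  have p : P1 S U z u := h.toP1
  obtain ⟨k, h1, h2, -⟩ := exists_ord p.syl.isP (mul_mem ht.1 ht'.1) hn
  have e0 : (t * t') ^ 2 ^ k = (t * t') ^ (2 ^ k : ℤ) := by rw [← zpow_natCast]; push_cast; rfl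
  refine ⟨k, ?_, by rw [e0]; exact h.na8 ht ht' _⟩
  rw [e0, ← zpow_add] at *
  have hk := h.na8 ht ht' (2 ^ k + 2 ^ k)
  have hi := inv_zp (inv_l (sq p ht.2.2) (sq p ht'.2.2)) (2 ^ k + 2 ^ k)
  have i2 : (t * t') ^ (2 ^ k + 2 ^ k : ℤ) * (t * t') ^ (2 ^ k + 2 ^ k : ℤ) = 1 := by
    rw [← zpow_add, ← h2]; congr 1; ring
  rw [zpow_neg, inv_of_sq i2] at hi
  rcases h.na1 nn ht hk.1 hk.2.2 (by rw [mul_assoc, ← comm_of_cj hi]) with e | e | e
  · exact absurd e (nez p hk)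
  · exact absurd (mul_left_cancel (e.trans (mul_one t).symm)) h1
  · exact mul_left_cancel e

theorem Q4.na4 (h : Q4 S U V z u f β l) (nn : NN S U z) (ht : KK S U z t) (ht' : KK S U z t') (hn : t * t' * (t * t') ≠ 1) :
    ∃ n : ℕ, (t * t') ^ n * (t * t') ^ n = z ∧ KK S U z (t * (t * t') ^ n) := by
  obtain ⟨k, hk⟩ := na4' h nn ht ht' hn
  exact ⟨_, hk⟩

theorem Q4.na5 (h : Q4 S U V z u f β l) (nn : NN S U z) (X : XX S U V z l t x) (c : w * x = x * w) (w2 : w * w = z) (hw : KK S U z (t * w)) :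
    w = x ∨ w = x⁻¹ := by
  have p : P1 S U z u := h.toP1
  obtain ⟨-, x2, xi, -⟩ := h.sq_l X.xl
  have wi : w⁻¹ = z * w := inv_eq_of_mul_eq_one_left (by rw [mul_assoc, w2, p.z2])
  have t2 := sq p X.kt.2.2
  have tw : t * w * t = z * w := by
    rw [← wi]
    exact eq_inv_of_mul_eq_one_left (by rw [mul_assoc, sq p hw.2.2])
  have tx : t * x * t = z * x := by rw [← xi, ← X.inv, inv_of_sq t2]
  have cm : t * w * (t * x) = t * x * (t * w) := by
    rw [← mul_assoc, ← mul_assoc, tw, tx, mul_assoc, mul_assoc, c]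
  rcases h.na1 nn X.kx hw.1 hw.2.2 cm with e | e | e
  · exact absurd e (nez p hw)
  · exact .inl (mul_left_cancel e)
  · refine .inr ?_
    rw [mul_assoc] at e
    rw [mul_left_cancel e, xi, ← x2, mul_assoc]

theorem Q4.na7 (h : Q4 S U V z u f β l) (nn : NN S U z) (ht : KK S U z t) (ht' : KK S U z t') (hn : t * t' * (t * t') = 1) :
    t' = t ∨ t' = t * z := by
  have p : P1 S U z u := h.toP1
  have c : t' * t = t * t' := by
    rw [← inv_of_sq hn, mul_inv_rev, inv_of_sq (sq p ht.2.2), inv_of_sq (sq p ht'.2.2)]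
  exact (h.na1 nn ht ht'.1 ht'.2.2 c).resolve_left (nez p ht')

theorem Q4.na6 (h : Q4 S U V z u f β l) (nn : NN S U z) (X : XX S U V z l t x) (ht' : KK S U z t') (c : t' * x * t'⁻¹ = x) :
    t * t' * (t * t') = z := by
  have p : P1 S U z u := h.toP1
  obtain ⟨xA, x2, -, xn⟩ := h.sq_l X.xl
  have ri : t * t' * x * (t * t')⁻¹ = x⁻¹ := by
    calc _ = t * (t' * x * t'⁻¹) * t⁻¹ := by group
      _ = _ := by rw [c, X.inv]
  have hn : t * t' * (t * t') ≠ 1 := fun hn => by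
    rcases h.na7 nn X.kt ht' hn with e | e
    · rw [e, X.inv] at c
      exact xn c.symm
    · have : t * z * x * (t * z)⁻¹ = t * x * t⁻¹ := by rw [← x2]; group
      rw [e, this, X.inv] at c
      exact xn c.symm
  obtain ⟨k, h1, h2⟩ := na4' h nn X.kt ht' hn
  rcases k with _ | k
  · simpa using h1
  exfalso
  have r2 : Commute ((t * t') ^ 2) x := by
    refine comm_of_cj ?_
    calc _ = t * t' * (t * t' * x * (t * t')⁻¹) * (t * t')⁻¹ := by rw [pow_two]; group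
      _ = t * t' * x⁻¹ * (t * t')⁻¹ := by rw [ri]
      _ = (t * t' * x * (t * t')⁻¹)⁻¹ := by group
      _ = x := by rw [ri, inv_inv]
  have cm : (t * t') ^ 2 ^ (k + 1) * x = x * (t * t') ^ 2 ^ (k + 1) := by
    rw [pow_succ', pow_mul]; exact r2.pow_left _
  have cr : Commute (t * t') ((t * t') ^ 2 ^ (k + 1)) := (Commute.refl _).pow_right _
  have cx : Commute (t * t') x := by
    rcases h.na5 nn X cm h1 h2 with e | e
    · rwa [e] at cr
    · rw [e] at cr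
      exact Commute.inv_right_iff.1 cr
  exact xn ((cj_of_comm cx).symm.trans ri)

end H13.R3
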