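import Mathlib
import Cfsg.Agent.Base
import Cfsg.Agent.Lib.RK3.NA
import Cfsg.Agent.Lib.RK3.LD

/-! Simple groups of 2-rank 3, package NB (see `blueprint/RK3/README.md`). -/

set_option autoImplicit false
set_option linter.unusedSectionVars false
set_option linter.unusedVariables false

namespace H13.R3

open Subgroup H69 H70 Cfsg H22.RK H22.RG
open scoped commutatorElement Pointwise

variable {G : Type*} [Group G] [Finite G] {S U V M : Subgroup G}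
  {z u f β l e ρ γ φ y θ t t' x a g s v w : G} {n : ℕ}

local notation "T" => S ⊓ 𝐂(U)
local notation "A" => S ⊓ 𝐂(V)
local notation "W" => U ⊔ zpowers e
local notation "m" => β * l * β⁻¹
local notation "e₂" => β * e * β⁻¹
local notation "S₀" => S ⊓ centralizer (Singleton.singleton y : Set G)

namespace NB

theorem kk2 (h : Q4 S U V z u f β l) (ht : KK S U z t) : t * t = 1 := by
  obtain ⟨c, rfl⟩ := isConj_iff.1 ht.2.2
  exact sq_cj c h.toP1.z2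

theorem izp {r : G} (h : t * r * t⁻¹ = r⁻¹) (j : ℤ) : t * r ^ j * t⁻¹ = (r ^ j)⁻¹ := by
  rw [← conj_zpow, h, inv_zpow]

theorem il (h : t * t = 1) (h' : t' * t' = 1) : t * (t * t') * t⁻¹ = (t * t')⁻¹ := by
  rw [← mul_assoc, h, one_mul, mul_inv_rev, inv_eq_of_mul_eq_one_right h']

theorem cm {r : G} (c : r * x * r⁻¹ = x) (hs : s ∈ zpowers r) : s * x = x * s := by
  obtain ⟨j, rfl⟩ := hs
  exact (Commute.zpow_left (comm_of_cj c) j).eq

theorem cen (e : t * x * t⁻¹ = x⁻¹) (e' : t' * x * t'⁻¹ = x⁻¹) : t * t' * x * (t * t')⁻¹ = x := by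
  rw [show t * t' * x * (t * t')⁻¹ = t * (t' * x * t'⁻¹) * t⁻¹ by group, e',
    show t * x⁻¹ * t⁻¹ = (t * x * t⁻¹)⁻¹ by group, e, inv_inv]

theorem invs (e : t * x * t⁻¹ = x⁻¹) (c : s * x = x * s) : t * s * x * (t * s)⁻¹ = x⁻¹ := by
  rw [show t * s * x * (t * s)⁻¹ = t * (s * x * s⁻¹) * t⁻¹ by group, cj_of_comm c, e]

theorem kk_cj (ht : KK S U z t) (hy : y ∈ T) : KK S U z (y * t * y⁻¹) :=
  ⟨mul_mem (mul_mem hy.1 ht.1) (inv_mem hy.1), fun e => ht.2.1 (by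
    have hc : y ∈ 𝐂(U) := hy.2
    simpa [mul_assoc] using mul_mem (mul_mem (inv_mem hc) e) hc),
    ht.2.2.trans (isConj_iff.2 ⟨y, rfl⟩)⟩

theorem nz (e : y * x * y⁻¹ ∈ zpowers x) : y ∈ 𝐍(zpowers x) := nrm_of (by
  rintro _ ⟨j, rfl⟩
  rw [← conj_zpow]
  exact zpow_mem e j)

end NB

open NB in
theorem Q4.nb (h : Q4 S U V z u f β l) (nn : NN S U z) (X : XX S U V z l t x) :
    ∃ r ∈ T, x ∈ zpowers r ∧ ∀ t', (KK S U z t' ∧ t' * x * t'⁻¹ = x⁻¹) ↔ t * t' ∈ zpowers r := by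
  obtain ⟨-, x2, -, xn⟩ := h.sq_l X.xl
  have t2 := kk2 h X.kt
  have tt : ∀ s : G, t * (t * s) = s := fun s => by rw [← mul_assoc, t2, one_mul]
  have ix : t * x * x * (t * x)⁻¹ = x⁻¹ := invs X.inv rfl
  obtain ⟨t0, ⟨k0, i0⟩, hm⟩ := Set.exists_max_image {t' | KK S U z t' ∧ t' * x * t'⁻¹ = x⁻¹}
    (fun t' => orderOf (t * t')) (Set.toFinite _) ⟨t * x, X.kx, ix⟩
  have op : ∀ s ∈ S, ∃ k, orderOf s = 2 ^ k := fun s hs => by
    obtain ⟨k, e⟩ := IsPGroup.iff_orderOf.1 h.syl.isP ⟨s, hs⟩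
    exact ⟨k, by rw [← e, Subgroup.orderOf_mk]⟩
  have rT := h.toP1.mul_mem X.kt.1 X.kt.2.1 k0.1 k0.2.1
  have ex : ∀ t', KK S U z t' → t' * x * t'⁻¹ = x⁻¹ → (t * t') ^ orderOf (t * t0) = 1 :=
    fun t' k i => by
      obtain ⟨a, ha⟩ := op _ (mul_mem X.kt.1 k.1)
      obtain ⟨b, hb⟩ := op _ rT.1
      have := hm t' ⟨k, i⟩
      simp only [ha, hb] at this
      rw [← orderOf_dvd_iff_pow_eq_one, ha, hb]
      exact pow_dvd_pow 2 ((Nat.pow_le_pow_iff_right (by norm_num)).1 this)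
  have rc := cen X.inv i0
  have bk : ∀ s ∈ zpowers (t * t0), KK S U z (t * s) ∧ t * s * x * (t * s)⁻¹ = x⁻¹ := fun s hs =>
    ⟨let ⟨j, e⟩ := hs; e ▸ h.na8 X.kt k0 j, invs X.inv (cm rc hs)⟩
  have r2 : t * t0 * (t * t0) ≠ 1 := fun e => by
    have e1 := ex _ X.kx ix
    rw [tt] at e1
    have e2 : x ^ 2 = 1 := orderOf_dvd_iff_pow_eq_one.1 ((orderOf_dvd_of_pow_eq_one e1).trans
      (orderOf_dvd_of_pow_eq_one (by rw [pow_two, e])))
    exact h.toP1.ne.1 (by rw [← x2, ← pow_two, e2])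
  have xr : x ∈ zpowers (t * t0) := by
    obtain ⟨k, e1, e2⟩ := h.na4 nn X.kt k0 r2
    have hk := pow_mem (mem_zpowers (t * t0)) k
    rcases h.na5 nn X (cm rc hk) e1 e2 with e | e
    · exact e ▸ hk
    · exact inv_mem_iff.1 (e ▸ hk)
  have zr : z ∈ zpowers (t * t0) := x2 ▸ mul_mem xr xr
  have ti : ∀ s ∈ zpowers (t * t0), t * s = s⁻¹ * t := by
    rintro _ ⟨j, rfl⟩
    exact mul_inv_eq_iff_eq_mul.1 (izp (il t2 (kk2 h k0)) j)
  obtain ⟨N, hN⟩ : ∃ N, orderOf (t * t0) = 2 ^ (N + 1) := by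
    obtain ⟨b, hb⟩ := op _ rT.1
    cases b with
    | zero => exact (r2 (by rw [orderOf_eq_one_iff.1 hb, mul_one])).elim
    | succ b => exact ⟨b, hb⟩
  have fw : ∀ k : ℕ, ∀ t', KK S U z t' → t' * x * t'⁻¹ = x⁻¹ → (t * t') ^ 2 ^ k = 1 →
      t * t' ∈ zpowers (t * t0) := by
    intro k
    induction k with
    | zero => intro t' _ _ e; rw [pow_zero, pow_one] at e; exact e ▸ one_mem _
    | succ k ih =>
      intro t' k' i' e
      have qc := cen X.inv i'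
      have q2 := ih _ (h.na8 X.kt k' 2) (invs X.inv (cm qc (zpow_mem (mem_zpowers _) 2))) (by
        rw [tt, zpow_two, ← pow_two, ← pow_mul, ← pow_succ', e])
      rw [tt, zpow_two] at q2
      obtain ⟨j, hj⟩ := mem_powers_iff_mem_zpowers.2 q2
      replace hj : (t * t0) ^ j = t * t' * (t * t') := hj
      have d : 2 ^ N * 2 ∣ 2 ^ N * j := by
        rw [← pow_succ, ← hN, orderOf_dvd_iff_pow_eq_one, mul_comm, pow_mul, hj, ← pow_two, ← pow_mul,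
          ← pow_succ', ← hN, ex t' k' i']
      obtain ⟨i, rfl⟩ := Nat.dvd_of_mul_dvd_mul_left (by positivity) d
      obtain ⟨s, hs, e2⟩ : ∃ s ∈ zpowers (t * t0), s * s = t * t' * (t * t') :=
        ⟨_, pow_mem (mem_zpowers _) i, by rw [← hj, two_mul, pow_add]⟩
      have X1 : XX S U V z l (t * s) x :=
        ⟨(bk s hs).1, X.xl, (bk s hs).2, by rw [mul_assoc]; exact (bk _ (mul_mem hs xr)).1⟩
      have ew : t * s * t' = s⁻¹ * (t * t') := by rw [ti s hs, mul_assoc]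
      by_cases w2 : t * s * t' * (t * s * t') = 1
      · rcases h.na7 nn X1.kt k' w2 with e3 | e3
        · rw [e3, tt]; exact hs
        · rw [e3, mul_assoc t s z, tt]; exact mul_mem hs zr
      exfalso
      obtain ⟨k1, e3, e4⟩ := h.na4 nn X1.kt k' w2
      have si : s * (t * s * t') * s⁻¹ = (t * s * t')⁻¹ := by
        rw [ew]
        calc _ = (t * t')⁻¹ * (t * t' * (t * t')) * s⁻¹ := by group
          _ = _ := by rw [← e2]; group
      have sw : s * (t * s * t') ^ k1 * s⁻¹ = ((t * s * t') ^ k1)⁻¹ := by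
        rw [← conj_pow, si, inv_pow]
      have sx := cj_of_comm (cm rc hs)
      rcases h.na5 nn X1 (cm (cen X1.inv i') (pow_mem (mem_zpowers _) k1)) e3 e4 with e5 | e5
      · rw [e5, sx] at sw
        exact xn sw
      · rw [e5, show s * x⁻¹ * s⁻¹ = (s * x * s⁻¹)⁻¹ by group, sx, inv_inv] at sw
        exact xn sw.symm
  refine ⟨_, rT, xr, fun t' => ⟨fun ⟨k', i'⟩ => fw (N + 1) t' k' i' (hN ▸ ex t' k' i'), fun e => ?_⟩⟩
  have := bk _ e
  rwa [tt] at this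

namespace NB

theorem key (h : Q4 S U V z u f β l) (nn : NN S U z) (X : XX S U V z l t x) (tb : t * β * t⁻¹ = β⁻¹)
    (tf : t * f * t⁻¹ = f) (tl : t * l * t⁻¹ = l) (hy : y ∈ T) (hw : w ∈ U)
    (tw : t * w * t⁻¹ = z * w) (yf : y * f * y⁻¹ = w * f) : y ∈ 𝐍(zpowers x) := by
  obtain ⟨xA, x2, xi, xn⟩ := h.sq_l X.xl
  have t2 := kk2 h X.kt
  have z2 := h.toP1.z2
  have f2 := h.toQ3.f2
  have w2 := h.toP1.sqU hw
  have k' := kk_cj X.kt hy
  have X' : XX S U V z l (y * t * y⁻¹) (y * x * y⁻¹) :=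
    ⟨k', by simpa [mul_assoc] using mul_mem (h.T_mod hy xA) X.xl,
      by rw [show y * t * y⁻¹ * (y * x * y⁻¹) * (y * t * y⁻¹)⁻¹ = y * (t * x * t⁻¹) * y⁻¹ by group, X.inv]; group,
      by rw [← cj_mul]; exact kk_cj X.kx hy⟩
  rcases h.na3 k' X.xl with c | c
  swap
  · obtain ⟨r, -, xr, hr⟩ := h.nb nn X
    have k2 := ((hr (y * t * y⁻¹ * x)).2 (by
      rw [← mul_assoc]; exact mul_mem ((hr _).1 ⟨k', c⟩) xr)).1
    rcases h.na5 nn X' (h.A0_comm xA _ (h.sq_l X'.xl).1).symm x2 k2 with e | e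
    · exact nz (e ▸ mem_zpowers x)
    · exact nz (inv_mem_iff.1 (e ▸ mem_zpowers x))
  exfalso
  have r2 := h.na6 nn X k' c
  have rT := h.toP1.mul_mem X.kt.1 X.kt.2.1 k'.1 k'.2.1
  have tr := il t2 (kk2 h k')
  have rx : t * (y * t * y⁻¹) * x * (t * (y * t * y⁻¹))⁻¹ = x⁻¹ := by
    rw [show t * (y * t * y⁻¹) * x * (t * (y * t * y⁻¹))⁻¹ =
      t * (y * t * y⁻¹ * x * (y * t * y⁻¹)⁻¹) * t⁻¹ by group, c, X.inv]
  have yw : y * w * y⁻¹ = w := cj_of_comm (hy.2 w hw).symm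
  have yz := h.toP1.cjz hy.1
  have tz := h.toP1.cjz X.kt.1
  have rf : t * (y * t * y⁻¹) * f * (t * (y * t * y⁻¹))⁻¹ = z * f := by
    have e0 : y * (w * f) * y⁻¹ = f := by rw [cj_mul, yw, yf, ← mul_assoc, w2, one_mul]
    have e1 : y⁻¹ * f * y = w * f := by
      calc _ = y⁻¹ * (y * (w * f) * y⁻¹) * y := by rw [e0]
        _ = _ := by group
    have e2 : t * (w * f) * t⁻¹ = z * (w * f) := by rw [cj_mul, tw, tf, mul_assoc]
    have e3 : y * (z * (w * f)) * y⁻¹ = z * f := by rw [cj_mul, yz, e0]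
    rw [show t * (y * t * y⁻¹) * f * (t * (y * t * y⁻¹))⁻¹ =
      t * (y * (t * (y⁻¹ * f * y) * t⁻¹) * y⁻¹) * t⁻¹ by group, e1, e2, e3, cj_mul, tz, tf]
  generalize t * (y * t * y⁻¹) = r at r2 rT tr rx rf
  have xA' := h.A0_le xA
  have fA := h.toQ3.VA h.fV
  have xf : f * x = x * f := xA'.2 f h.fV
  have zc : ∀ s ∈ S, s * z = z * s := fun s hs => comm_of_cj (h.toP1.cjz hs)
  have hx1 : r * x * f ∈ T := mul_mem (mul_mem rT (h.toQ3.AT xA')) (h.toQ3.AT fA)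
  have ri : r⁻¹ = z * r := by
    rw [inv_eq_iff_mul_eq_one, ← mul_assoc, zc r rT.1, mul_assoc, r2, z2]
  have e1 : r * x * f * f * (r * x * f)⁻¹ = z * f := by
    rw [show r * x * f * f * (r * x * f)⁻¹ = r * (x * f * x⁻¹) * r⁻¹ by group, cj_of_comm xf.symm, rf]
  have e2 : r * x * f * (r * x * f) = 1 := by
    calc _ = (r * x * r⁻¹) * (r * f * r⁻¹) * (r * r) * (x * f) := by group
      _ = x⁻¹ * z * (f * z) * (x * f) := by rw [rx, rf, r2]; group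
      _ = x⁻¹ * (z * z) * (f * x) * f := by rw [zc f fA.1]; group
      _ = 1 := by rw [z2, xf, mul_one, ← mul_assoc, inv_mul_cancel, one_mul, f2]
  have e3 : t * (r * x * f) * t⁻¹ = r * x * f := by
    rw [cj_mul, cj_mul, tr, X.inv, tf, ri, xi, ← zc r rT.1, mul_assoc r, ← mul_assoc z, z2, one_mul]
  have cj := (h.ld X.kt.1 X.kt.2.1 t2 tb tf tl hx1 e1 e2 e3).1
  rcases h.na1 nn X.kt (mul_mem X.kt.1 fA.1) (X.kt.2.2.trans cj)
    (by rw [mul_assoc, ← comm_of_cj tf]) with e | e | e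
  · exact X.kt.2.1 (eq_mul_inv_of_mul_eq e ▸
      (mul_mem (h.toP1.UT h.toP1.zU) (inv_mem (h.toQ3.AT fA))).2)
  · exact h.fU (mul_eq_left.1 e ▸ one_mem U)
  · exact h.fU (mul_left_cancel e ▸ h.toP1.zU)

end NB

theorem Q4.nd (h : Q4 S U V z u f β l) (nn : NN S U z) (X : XX S U V z l t x) (tb : t * β * t⁻¹ = β⁻¹)
    (tf : t * f * t⁻¹ = f) (tl : t * l * t⁻¹ = l) :
    T ≤ 𝐍(zpowers x) := by
  intro y hy
  have tu := h.toP1.conj_u X.kt.1 X.kt.2.1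
  have uU := h.toP1.uU
  have zuU := mul_mem h.toP1.zU uU
  have tzu : t * (z * u) * t⁻¹ = z * (z * u) := by rw [cj_mul, h.toP1.cjz X.kt.1, tu]
  have k1 := fun y hy => NB.key h nn X tb tf tl (y := y) hy uU tu
  have k2 := fun y hy => NB.key h nn X tb tf tl (y := y) hy zuU tzu
  obtain ⟨w, hw, e⟩ := h.toQ3.cf hy.1
  obtain ⟨y1, hy1, e1⟩ := h.toQ3.onto uU
  have n1 := k1 y1 hy1 e1
  have e2 := h.toQ3.mul_c hy uU e e1
  rcases h.toP1.memU.1 hw with rfl | rfl | rfl | rfl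
  · exact (mul_mem_cancel_right n1).1 (k1 _ (mul_mem hy hy1) (by rw [e2, mul_one]))
  · exact (mul_mem_cancel_right n1).1 (k2 _ (mul_mem hy hy1) (by rw [e2, h.toP1.zu]))
  · exact k1 y hy e
  · exact k2 y hy e

end H13.R3
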