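import Mathlib
import Cfsg.Agent.Base
import Cfsg.Agent.Lib.RK3.NB

/-! Simple groups of 2-rank 3, package NC (see `blueprint/RK3/README.md`). -/

set_option autoImplicit false
set_option linter.unusedSectionVars false
set_option linter.unusedVariables false

namespace H13.R3

open Subgroup H69 H70 Cfsg H22.RK H22.RG
open scoped commutatorElement Pointwise

variable {G : Type*} [Group G] [Finite G] {S U V M : Subgroup G}
  {z u f β l e ρ γ φ y θ t t' x a g s v w : G} {n : ℕ}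

local notation "T" => S ⊓ 𝐂(U)
local notation "A" => S ⊓ 𝐂(V)
local notation "W" => U ⊔ zpowers e
local notation "m" => β * l * β⁻¹
local notation "e₂" => β * e * β⁻¹
local notation "S₀" => S ⊓ centralizer (Singleton.singleton y : Set G)

namespace NC

variable {r b : G} {H : Subgroup G}

theorem cjm {X : Subgroup G} (hg : g ∈ 𝐍(X)) (ha : a ∈ X) : g * a * g⁻¹ ∈ X :=
  H69.conj_mem_of_mem_normalizer hg ha

theorem cjm' {X : Subgroup G} (hg : g ∈ 𝐍(X)) (ha : a ∈ X) : g⁻¹ * a * g ∈ X :=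
  H69.conj_mem_of_mem_normalizer' hg ha

theorem inv_zq (h : g * r * g⁻¹ = r⁻¹) (k : ℤ) : g * r ^ k * g⁻¹ = (r ^ k)⁻¹ := by
  rw [← conj_zpow, h, inv_zpow]

theorem kk_sq (h : P1 S U z u) (ht : KK S U z t) : t * t = 1 := by
  obtain ⟨c, rfl⟩ := isConj_iff.1 ht.2.2
  exact sq_cj c h.z2

theorem kk_cj (h : P1 S U z u) (ht : KK S U z t) (hs : s ∈ S) : KK S U z (s * t * s⁻¹) :=
  have e0 : s * t * s⁻¹ ∈ S := mul_mem (mul_mem hs ht.1) (inv_mem hs)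
  ⟨e0, fun e => ht.2.1 ((mem_normalizer_iff.1 (h.nT hs) t).2 ⟨e0, e⟩).2,
    ht.2.2.trans (isConj_iff.2 ⟨s, rfl⟩)⟩

theorem nrm_zp (e : g * r * g⁻¹ ∈ zpowers r) : g ∈ 𝐍(zpowers r) := nrm_of (by
  rintro _ ⟨k, rfl⟩
  rw [← conj_zpow]
  exact zpow_mem e k)

theorem nrm_cj {X : Subgroup G} (h : X ≤ 𝐍(zpowers r)) (hg : g ∈ 𝐍(X)) :
    X ≤ 𝐍(zpowers (g * r * g⁻¹)) := by
  rw [← cj_zpowers, ← cj_normalizer]
  have := cj_mono g h
  rwa [cj_eq_of_mem_normalizer hg] at this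

theorem uq_cj (h : ∀ a ∈ zpowers r, a * a = 1 → a = 1 ∨ a = z) (g : G) :
    ∀ a ∈ zpowers (g * r * g⁻¹), a * a = 1 → a = 1 ∨ a = g * z * g⁻¹ := by
  rintro _ ⟨k, rfl⟩ e
  simp only [conj_zpow] at e ⊢
  have : r ^ k * r ^ k = 1 := by
    have e' : r ^ k * r ^ k = g⁻¹ * (g * r ^ k * g⁻¹ * (g * r ^ k * g⁻¹)) * g := by group
    rw [e', e]; group
  rcases h _ (zpow_mem (mem_zpowers r) k) this with e1 | e1
  · left; rw [e1]; group
  · right; rw [e1]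

theorem inv_pow_mem (hS : IsPGroup 2 S) (ha : a ∈ S) (h1 : a ≠ 1) :
    ∃ k : ℕ, a ^ k ≠ 1 ∧ a ^ k * a ^ k = 1 := by
  obtain ⟨k, hk⟩ := hS ⟨a, ha⟩
  have hk' : a ^ 2 ^ k ∈ (⊥ : Subgroup G) := mem_bot.2 (congrArg Subtype.val hk)
  obtain ⟨j, h2, h3⟩ := exists_pow_sq hk' (fun e => h1 (mem_bot.1 e))
  exact ⟨j, fun e => h2 (mem_bot.2 e), mem_bot.1 h3⟩

theorem inf_one (hS : IsPGroup 2 S) {X Y : Subgroup G} (hX : X ≤ S) {z' : G}
    (h1 : ∀ a ∈ X, a * a = 1 → a = 1 ∨ a = z) (h2 : ∀ a ∈ Y, a * a = 1 → a = 1 ∨ a = z')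
    (hne : z ≠ z') (ha : a ∈ X) (hb : a ∈ Y) : a = 1 := by
  by_contra h0
  obtain ⟨k, e1, e2⟩ := inv_pow_mem hS (hX ha) h0
  exact hne (((h1 _ (pow_mem ha k) e2).resolve_left e1).symm.trans
    ((h2 _ (pow_mem hb k) e2).resolve_left e1))

theorem cyc_comm (ha : a ∈ 𝐍(zpowers r)) (hb : b ∈ 𝐍(zpowers r)) :
    a * b * a⁻¹ * b⁻¹ ∈ 𝐂(zpowers r) := by
  obtain ⟨i, hi⟩ := cjm (inv_mem ha) (mem_zpowers r)
  obtain ⟨j, hj⟩ := cjm (inv_mem hb) (mem_zpowers r)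
  have e1 : a⁻¹ * (b⁻¹ * r * b⁻¹⁻¹) * a⁻¹⁻¹ = r ^ (i * j) := by
    rw [← hj, ← conj_zpow, ← hi, zpow_mul]
  have e2 : b⁻¹ * (a⁻¹ * r * a⁻¹⁻¹) * b⁻¹⁻¹ = r ^ (i * j) := by
    rw [← hi, ← conj_zpow, ← hj, mul_comm i j, zpow_mul]
  rw [H69.centralizer_zpowers, mcs]
  calc a * b * a⁻¹ * b⁻¹ * r * (a * b * a⁻¹ * b⁻¹)⁻¹
      = a * b * (a⁻¹ * (b⁻¹ * r * b⁻¹⁻¹) * a⁻¹⁻¹) * (a * b)⁻¹ := by group
    _ = a * b * (b⁻¹ * (a⁻¹ * r * a⁻¹⁻¹) * b⁻¹⁻¹) * (a * b)⁻¹ := by rw [e1, e2]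
    _ = r := by group

/-- the cyclic group belonging to `t` -/
structure RR (S U : Subgroup G) (z t r : G) : Prop where
  rT : r ∈ S ⊓ 𝐂(U)
  nS : S ≤ 𝐍(zpowers r)
  uq : ∀ a ∈ zpowers r, a * a = 1 → a = 1 ∨ a = z
  tt : ∀ y ∈ S, t * (y * t * y⁻¹) ∈ zpowers r
  inv : t * r * t⁻¹ = r⁻¹
  kk : ∀ t', t * t' ∈ zpowers r → IsConj z t'

theorem exists_rr (h : Q4 S U V z u f β l) (nn : NN S U z) (X : XX S U V z l t x)
    (hn : T ≤ 𝐍(zpowers x)) : ∃ r, RR S U z t r := by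
  have p := h.toQ3.toP1
  obtain ⟨r, hr, -, hb⟩ := h.nb nn X
  have t2 := kk_sq p X.kt
  obtain ⟨-, x2, xi, -⟩ := h.sq_l X.xl
  have nx : S ≤ 𝐍(zpowers x) := fun s hs => by
    have ht : t ∈ 𝐍(zpowers x) := nrm_zp (by rw [X.inv]; exact inv_mem (mem_zpowers x))
    by_cases hc : s ∈ 𝐂(U)
    · exact hn ⟨hs, hc⟩
    · simpa using mul_mem (hn (p.mul_mem hs hc X.kt.1 X.kt.2.1)) (inv_mem ht)
  have cj : ∀ t', KK S U z t' ∧ t' * x * t'⁻¹ = x⁻¹ → ∀ s ∈ S,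
      KK S U z (s * t' * s⁻¹) ∧ s * t' * s⁻¹ * x * (s * t' * s⁻¹)⁻¹ = x⁻¹ := fun t' h' s hs => by
    refine ⟨kk_cj p h'.1 hs, ?_⟩
    obtain ⟨k, hk⟩ := cjm' (nx hs) (mem_zpowers x)
    have hk' : x ^ k = s⁻¹ * x * s := hk
    calc s * t' * s⁻¹ * x * (s * t' * s⁻¹)⁻¹ = s * (t' * (s⁻¹ * x * s) * t'⁻¹) * s⁻¹ := by group
      _ = s * (s⁻¹ * x * s)⁻¹ * s⁻¹ := by rw [← hk', inv_zq h'.2]
      _ = x⁻¹ := by group
  have e0 : ∀ a : G, t * (t * a) = a := fun a => by rw [← mul_assoc, t2, one_mul]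
  have h1 := (hb (t * r)).2 (by rw [e0]; exact mem_zpowers r)
  have tt : ∀ y ∈ S, t * (y * t * y⁻¹) ∈ zpowers r := fun y hy => (hb _).1 (cj t ⟨X.kt, X.inv⟩ y hy)
  refine ⟨r, hr, fun s hs => nrm_zp ?_, fun a ha a2 => ?_, tt, ?_, fun t' h' => ((hb t').2 h').1.2.2⟩
  · have := mul_mem (inv_mem (tt s hs)) ((hb _).1 (cj _ h1 s hs))
    convert this using 1
    group
  · have h2 := ((hb (t * a)).2 (by rw [e0]; exact ha)).1
    rcases h.na7 nn X.kt h2 (by rw [e0, a2]) with e | e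
    · exact Or.inl (by simpa using e)
    · exact Or.inr (mul_left_cancel e)
  · rw [eq_inv_iff_mul_eq_one, inv_of_sq t2, ← kk_sq p h1.1]
    group

/-- the abelian normal subgroup generated by the rotated cyclic groups -/
structure HH (S U H : Subgroup G) (z β t : G) : Prop where
  le : H ≤ S ⊓ 𝐂(U)
  nS : S ≤ 𝐍(H)
  nb : β ∈ 𝐍(H)
  ab : H ≤ 𝐂(H)
  om : ∀ a ∈ H, a * a = 1 → a ∈ U
  tt : ∀ y ∈ S, t * y * t⁻¹ * y⁻¹ ∈ H
  cm : ∀ a ∈ S ⊓ 𝐂(U), ∀ b ∈ S ⊓ 𝐂(U), a * b * a⁻¹ * b⁻¹ ∈ 𝐂(H)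
  kk : ∀ a ∈ H, a * t * (a * t) = 1 → IsConj z (a * t)

theorem exists_hh (h : Q3 S U V z u f β) (ht : KK S U z t) (tb : t * β * t⁻¹ = β⁻¹)
    (R : RR S U z t r) : ∃ H, HH S U H z β t := by
  have p := h.toP1
  have hS := p.syl.isP
  have t2 := kk_sq p ht
  have ti : t⁻¹ = t := inv_of_sq t2
  have n1 : T ≤ 𝐍(zpowers r) := le_trans inf_le_left R.nS
  have n2 := nrm_cj n1 h.nT
  have n3 := nrm_cj n1 (inv_mem h.nT)
  have u2 := uq_cj R.uq β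
  have u3 := uq_cj R.uq β⁻¹
  rw [h.rz] at u2
  have ez : β⁻¹ * z * β⁻¹⁻¹ = z * u := by
    conv_lhs => rw [← h.rzu]
    group
  rw [ez] at u3
  rw [inv_inv] at n3 u3
  have r2T : β * r * β⁻¹ ∈ T := cjm h.nT R.rT
  have l1 : zpowers r ≤ T := zpowers_le_of_mem R.rT
  have l2 : zpowers (β * r * β⁻¹) ≤ T := zpowers_le_of_mem r2T
  have i12 : ∀ a ∈ zpowers r, a ∈ zpowers (β * r * β⁻¹) → a = 1 := fun a =>
    inf_one hS (l1.trans inf_le_left) R.uq u2 p.ne.2.2.1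
  have i23 : ∀ a ∈ zpowers (β * r * β⁻¹), a ∈ zpowers (β⁻¹ * r * β) → a = 1 := fun a =>
    inf_one hS (l2.trans inf_le_left) u2 u3 fun e => p.ne.1 (by simpa using e)
  have c12 : ∀ a ∈ zpowers r, ∀ b ∈ zpowers (β * r * β⁻¹), a * b = b * a := fun a ha b hb => by
    have e1 : a * b * a⁻¹ * b⁻¹ ∈ zpowers r := by
      have := mul_mem ha (cjm (n1 (l2 hb)) (inv_mem ha))
      convert this using 1
      group
    have := i12 _ e1 (mul_mem (cjm (n2 (l1 ha)) hb) (inv_mem hb))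
    rwa [mul_inv_eq_one, mul_inv_eq_iff_eq_mul] at this
  have c0 := c12 r (mem_zpowers _) _ (mem_zpowers _)
  have tb' : t * β⁻¹ * t⁻¹ = β := by
    have : t * β⁻¹ * t⁻¹ = (t * β * t⁻¹)⁻¹ := by group
    rw [this, tb, inv_inv]
  have t23 : t * (β * r * β⁻¹) * t⁻¹ = (β⁻¹ * r * β)⁻¹ := by
    calc t * (β * r * β⁻¹) * t⁻¹ = t * β * t⁻¹ * (t * r * t⁻¹) * (t * β⁻¹ * t⁻¹) := by group
      _ = (β⁻¹ * r * β)⁻¹ := by rw [tb, tb', R.inv]; group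
  have tt : ∀ y ∈ S, t * y * t⁻¹ * y⁻¹ ∈ zpowers r := fun y hy => by
    have := R.tt y hy
    rw [ti]
    convert this using 1
    group
  have r3H : β⁻¹ * r * β ∈ zpowers r ⊔ zpowers (β * r * β⁻¹) := by
    have := tt _ r2T.1
    rw [t23] at this
    have := inv_mem (mul_mem (mem_sup_left this) (m2r r (β * r * β⁻¹)))
    convert this using 1
    group
  have dec : ∀ c ∈ zpowers r ⊔ zpowers (β * r * β⁻¹), ∃ a ∈ zpowers r, ∃ b ∈ zpowers (β * r * β⁻¹),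
      c = a * b := fun c hc => (mem_sup_of_le_normalizer_left (l2.trans n1)).1 hc
  have nT : T ≤ 𝐍(zpowers r ⊔ zpowers (β * r * β⁻¹)) := fun y hy =>
    nrm2 (mem_sup_left (cjm (n1 hy) (mem_zpowers _))) (mem_sup_right (cjm (n2 hy) (mem_zpowers _)))
  have nt : t ∈ 𝐍(zpowers r ⊔ zpowers (β * r * β⁻¹)) :=
    nrm2 (by rw [R.inv]; exact inv_mem (m2l _ _)) (by rw [t23]; exact inv_mem r3H)
  refine ⟨zpowers r ⊔ zpowers (β * r * β⁻¹), sup_le l1 l2, fun s hs => ?_,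
    nrm2 (m2r _ _) (by rw [h.b3 R.rT]; exact r3H), sup_le
      (zpowers_le_of_mem (cent_sup (cent_zpowers rfl) (cent_zpowers c0.symm)))
      (zpowers_le_of_mem (cent_sup (cent_zpowers c0) (cent_zpowers rfl))), fun c hc c2 => ?_,
    fun y hy => mem_sup_left (tt y hy), fun a ha b hb =>
      cent_sup (cyc_comm (n1 ha) (n1 hb)) (cyc_comm (n2 ha) (n2 hb)), fun c hc c2 => ?_⟩
  · by_cases hc : s ∈ 𝐂(U)
    · exact nT ⟨hs, hc⟩
    · simpa using mul_mem (nT (p.mul_mem hs hc ht.1 ht.2.1)) (inv_mem nt)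
  · obtain ⟨a, ha, b, hb, rfl⟩ := dec c hc
    have e1 : a * a * (b * b) = 1 := by
      rw [← c2]
      calc a * a * (b * b) = a * (a * b) * b := by group
        _ = a * (b * a) * b := by rw [c12 a ha b hb]
        _ = a * b * (a * b) := by group
    have e2 : a * a = 1 := i12 _ (mul_mem ha ha) (by
      rw [eq_inv_of_mul_eq_one_left e1]; exact inv_mem (mul_mem hb hb))
    rw [e2, one_mul] at e1
    refine mul_mem ?_ ?_
    · rcases R.uq a ha e2 with e | e <;> rw [e]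
      exacts [one_mem _, p.zU]
    · rcases u2 b hb e1 with e | e <;> rw [e]
      exacts [one_mem _, p.uU]
  · obtain ⟨a, ha, b, hb, rfl⟩ := dec c hc
    have ta : t * a * t⁻¹ = a⁻¹ := by
      obtain ⟨k, rfl⟩ := ha
      exact inv_zq R.inv k
    have e1 : t * b * t⁻¹ = b⁻¹ := by
      have e2 : a * b * t * (a * b * t) = a * b * (t * a * t⁻¹) * (t * b * t⁻¹) * (t * t) := by group
      rw [c2, ta, t2, c12 a ha b hb] at e2
      rw [eq_inv_iff_mul_eq_one]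
      calc t * b * t⁻¹ * b = b⁻¹ * (b * a * a⁻¹ * (t * b * t⁻¹) * 1) * b := by group
        _ = 1 := by rw [← e2]; group
    have hb3 : b ∈ zpowers (β⁻¹ * r * β) := by
      obtain ⟨k, rfl⟩ := hb
      have e3 := e1
      rw [← conj_zpow, t23] at e3
      rw [← inv_mem_iff]
      exact e3 ▸ zpow_mem (inv_mem (mem_zpowers _)) k
    rw [i23 b hb hb3, mul_one]
    refine R.kk _ ?_
    have : t * (a * t) = a⁻¹ := by rw [← ta, ti, mul_assoc]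
    rw [this]
    exact inv_mem ha

theorem HH.dec (h : Q3 S U V z u f β) (ht : KK S U z t) (tb : t * β * t⁻¹ = β⁻¹)
    (Y : HH S U H z β t) (hy : y ∈ T) : ∃ a ∈ H, ∃ φ ∈ T, β * φ * β⁻¹ = φ ∧ y = a * φ := by
  have p := h.toP1
  have t2 := kk_sq p ht
  have ti : t⁻¹ = t := inv_of_sq t2
  have p1 : ∀ y ∈ T, β * t * β⁻¹ * y * (β * t * β⁻¹)⁻¹ * y⁻¹ ∈ H := fun y hy => by
    have := cjm Y.nb (Y.tt _ (cjm' h.nT hy).1)
    convert this using 1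
    group
  have e1 : t * (β * t * β⁻¹) = β⁻¹ * β⁻¹ := by
    calc t * (β * t * β⁻¹) = t * β * t⁻¹ * β⁻¹ := by rw [ti]; group
      _ = β⁻¹ * β⁻¹ := by rw [tb]
  have nT : β * t * β⁻¹ ∈ 𝐍(T) := mul_mem (mul_mem h.nT (p.nT ht.1)) (inv_mem h.nT)
  have p2 : β * y * β⁻¹ * y⁻¹ ∈ H := by
    have := mul_mem (Y.tt _ (cjm nT hy).1) (p1 y hy)
    have e2 : β * y * β⁻¹ = t * (β * t * β⁻¹) * y * (t * (β * t * β⁻¹))⁻¹ := by
      rw [e1]
      have := H69.conj_eq_of_mem_centralizer h.cube hy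
      calc β * y * β⁻¹ = β⁻¹ * β⁻¹ * (β ^ 3 * y * (β ^ 3)⁻¹) * (β⁻¹ * β⁻¹)⁻¹ := by group
        _ = β⁻¹ * β⁻¹ * y * (β⁻¹ * β⁻¹)⁻¹ := by rw [this]
    rw [e2]
    convert this using 1
    group
  have hH : ¬ 3 ∣ Nat.card H := by
    obtain ⟨k, hk⟩ := (p.syl.isP.to_le (Y.le.trans inf_le_left)).exists_card_eq
    rw [hk]
    exact fun e => absurd (Nat.prime_three.dvd_of_dvd_pow e) (by norm_num)
  obtain ⟨w, hw, ew⟩ := H45.NE8.exists_fix_coset (p := 3) (k := 1) Nat.prime_three hH Y.le hy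
    (by simpa using h.cube) Y.nb p2
  refine ⟨_, inv_mem hw, w, ?_, ew, by group⟩
  simpa using mul_mem (Y.le hw) hy

theorem f_mem (h : Q3 S U V z u f β) (hφ : φ ∈ T) (e : β * φ * β⁻¹ = φ) (h1 : φ ≠ 1) :
    ∃ k : ℕ, φ ^ k = f := by
  obtain ⟨k, e1, e2⟩ := inv_pow_mem h.toP1.syl.isP hφ.1 h1
  exact ⟨k, (h.bfix (pow_mem hφ k) e2 (by rw [← conj_pow, e])).resolve_left e1⟩

theorem HH.fix_one (h : Q3 S U V z u f β) (Y : HH S U H z β t) (hφ : φ ∈ H) (e : β * φ * β⁻¹ = φ) :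
    φ = 1 := by
  by_contra h1
  obtain ⟨k, hk⟩ := f_mem h (Y.le hφ) e h1
  exact h.fU (Y.om f (hk ▸ pow_mem hφ k) h.f2)

theorem HH.cent_le (h : Q3 S U V z u f β) (ht : KK S U z t) (tb : t * β * t⁻¹ = β⁻¹)
    (Y : HH S U H z β t) (hy : y ∈ T) (hc : y ∈ 𝐂(H)) : y ∈ H := by
  obtain ⟨a, ha, φ, hφ, e, rfl⟩ := Y.dec h ht tb hy
  by_cases h1 : φ = 1
  · simpa [h1] using ha
  obtain ⟨k, hk⟩ := f_mem h hφ e h1
  have hf : f ∈ 𝐂(H) := hk ▸ pow_mem (by simpa using mul_mem (inv_mem (Y.ab ha)) hc) k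
  refine absurd (h.oT f (h.AT (h.VA h.fV)) (mem_centralizer_iff.2 fun y hy => ?_) h.f2) h.fU
  obtain ⟨a', ha', φ', hφ', e', rfl⟩ := Y.dec h ht tb hy
  have c1 : a' * f = f * a' := mem_centralizer_iff.1 hf a' ha'
  have c2 : φ' * f = f * φ' := by
    by_cases h2 : φ' = 1
    · simp [h2]
    · obtain ⟨j, rfl⟩ := f_mem h hφ' e' h2
      exact ((Commute.refl φ').pow_right j).eq
  rw [mul_assoc, c2, ← mul_assoc, c1, mul_assoc]

theorem HH.comm (h : Q3 S U V z u f β) (ht : KK S U z t) (tb : t * β * t⁻¹ = β⁻¹)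
    (Y : HH S U H z β t) (ha : a ∈ S) (hb : b ∈ S) : a * b * a⁻¹ * b⁻¹ ∈ H := by
  have p := h.toP1
  have sy : ∀ a b : G, a * b * a⁻¹ * b⁻¹ ∈ H → b * a * b⁻¹ * a⁻¹ ∈ H := fun a b e => by
    convert inv_mem e using 1
    group
  have ext : ∀ b ∈ S, (∀ y ∈ T, y * b * y⁻¹ * b⁻¹ ∈ H) → ∀ a ∈ S, a * b * a⁻¹ * b⁻¹ ∈ H :=
    fun b hb hy a ha => by
    by_cases hc : a ∈ 𝐂(U)
    · exact hy a ⟨ha, hc⟩
    · have := mul_mem (cjm' (Y.nS ht.1) (hy _ (p.mul_mem ht.1 ht.2.1 ha hc)))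
        (cjm' (Y.nS ht.1) (inv_mem (Y.tt b hb)))
      convert this using 1
      group
  refine ext b hb (fun y hy => sy _ _ (ext y hy.1 (fun y' hy' => Y.cent_le h ht tb
    (mul_mem (mul_mem (mul_mem hy' hy) (inv_mem hy')) (inv_mem hy)) (Y.cm _ hy' _ hy)) b hb)) a ha

end NC

open NC in
theorem Q4.nc (h : Q4 S U V z u f β l) (nn : NN S U z) (hf : ¬ IsConj z f) (X : XX S U V z l t x)
    (tb : t * β * t⁻¹ = β⁻¹) (hn : T ≤ 𝐍(zpowers x)) :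
    False := by
  have q := h.toQ3
  have p := q.toP1
  have ht := X.kt
  have t2 := kk_sq p ht
  obtain ⟨r, R⟩ := exists_rr h nn X hn
  obtain ⟨H, Y⟩ := exists_hh q ht tb R
  have fS : f ∈ S := q.VS q.fV
  have key : ∀ k φ : G, k ∈ S → k * k ∈ H → φ ∈ T → β * φ * β⁻¹ = φ → k * φ * (k * φ) = 1 →
      φ = 1 ∨ φ = f := fun k φ hk k2 hφ e s2 => by
    refine q.bfix hφ (Y.fix_one q ?_ (by rw [cj_mul, e])) e
    have := inv_mem (mul_mem k2 (Y.comm q ht tb (inv_mem hk) hφ.1))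
    convert this using 1
    calc φ * φ = (k * k * (k⁻¹ * φ * k⁻¹⁻¹ * φ⁻¹))⁻¹ * (k * φ * (k * φ)) := by group
      _ = _ := by rw [s2, mul_one]
  have fin : ∀ k φ : G, k ∈ H ⊔ zpowers t → φ = 1 ∨ φ = f →
      k * φ ∈ H ⊔ zpowers t ∨ k * φ * f ∈ H ⊔ zpowers t := fun k φ hk e => by
    rcases e with e | e <;> rw [e]
    · exact Or.inl (by rwa [mul_one])
    · exact Or.inr (by rwa [mul_assoc, q.f2, mul_one])
  obtain ⟨g, hg, -⟩ := p.fu.transfer p.syl (K := H ⊔ zpowers t)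
    (sup_le (Y.le.trans inf_le_left) (zpowers_le_of_mem ht.1))
    (fun a ha b hb => mem_sup_left (Y.comm q ht tb ha hb)) q.f2 fS (fun s hs s2 => by
      by_cases hc : s ∈ 𝐂(U)
      · obtain ⟨a, ha, φ, hφ, e, rfl⟩ := Y.dec q ht tb ⟨hs, hc⟩
        exact fin a φ (mem_sup_left ha) (key a φ (Y.le ha).1 (mul_mem ha ha) hφ e s2)
      · obtain ⟨a, ha, φ, hφ, e, e1⟩ := Y.dec q ht tb (p.mul_mem ht.1 ht.2.1 hs hc)
        have e2 : s = t * a * φ := by rw [mul_assoc, ← e1, ← mul_assoc, t2, one_mul]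
        rw [e2] at s2 ⊢
        refine fin _ φ (mul_mem (mem_sup_right (mem_zpowers t)) (mem_sup_left ha))
          (key _ φ (mul_mem ht.1 (Y.le ha).1) ?_ hφ e s2)
        have := mul_mem (cjm (Y.nS ht.1) ha) ha
        rw [inv_of_sq t2] at this
        convert this using 1
        group)
    (R := zpowers f) (isP_of_sq (sq_zpowers q.f2)) (mem_zpowers f)
    (zpowers_le_of_mem (mem_centralizer_singleton_iff.2 rfl))
  have cf : IsConj (g * f * g⁻¹) f := (isConj_iff.2 ⟨g, rfl⟩).symm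
  have g2 := sq_cj g q.f2
  rcases (H45.NE8.mem_sup_zp (Y.nS ht.1) (by rw [t2]; exact one_mem _)).1 hg with e | e
  · refine hf ((q.conjU (Y.om _ e g2) fun e1 => q.fU ?_).trans cf)
    have : f = 1 := by simpa using e1
    rw [this]
    exact one_mem _
  · have := Y.kk _ e (by rw [inv_mul_cancel_right, g2])
    rw [inv_mul_cancel_right] at this
    exact hf (this.trans cf)

end H13.R3
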