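import Mathlib
import Cfsg.Agent.Base
import Cfsg.Agent.Lib.RK3.LA
import Cfsg.Agent.Lib.RK3.EK1

/-! Simple groups of 2-rank 3, package OB1 (see `blueprint/RK3/README.md`). -/

set_option autoImplicit false
set_option linter.unusedSectionVars false
set_option linter.unusedVariables false

namespace H13.R3

open Subgroup H69 H70 Cfsg H22.RK H22.RG
open scoped commutatorElement Pointwise

variable {G : Type*} [Group G] [Finite G] {S U V M : Subgroup G}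
  {z u f β l e ρ γ φ y θ t t' x a g s v w : G} {n : ℕ}

local notation "T" => S ⊓ 𝐂(U)
local notation "A" => S ⊓ 𝐂(V)
local notation "W" => U ⊔ zpowers e
local notation "m" => β * l * β⁻¹
local notation "e₂" => β * e * β⁻¹
local notation "S₀" => S ⊓ centralizer (Singleton.singleton y : Set G)

namespace OB1

theorem zp4 {a z x : G} (h : a * a = z) (h2 : z * z = 1) (hx : x ∈ zpowers a) :
    x = 1 ∨ x = a ∨ x = z ∨ x = z * a := by
  obtain ⟨k, rfl⟩ := mem_zpowers_iff.1 hx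
  have h4 : a ^ (4 : ℤ) = 1 := by
    rw [← h2, ← h, show (4 : ℤ) = 1 + 1 + (1 + 1) from rfl]; simp only [zpow_add, zpow_one]
  rw [zpow_eq_zpow_emod k h4]
  have : k % 4 = 0 ∨ k % 4 = 1 ∨ k % 4 = 1 + 1 ∨ k % 4 = 1 + 1 + 1 := by omega
  rcases this with e | e | e | e <;> rw [e] <;> simp only [zpow_add, zpow_one, zpow_zero, h] <;> simp

theorem zp2 {a z x : G} (h : a * a = z) (h2 : z * z = 1) (h1 : z ≠ 1) (hx : x ∈ zpowers a) (x2 : x * x = 1) :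
    x = 1 ∨ x = z := by
  rcases zp4 h h2 hx with e | e | e | e
  · exact Or.inl e
  · exact absurd (by rw [← h, ← e, x2]) h1
  · exact Or.inr e
  · refine absurd ?_ h1
    rw [e] at x2
    calc z = z * z * z := by rw [h2, one_mul]
      _ = z * a * (z * a) := by rw [← h]; group
      _ = 1 := x2

theorem st_mul {V : Subgroup G} {z a b : G} (h2 : z * z = 1) (c : a * z * a⁻¹ = z) (ha : St0 V z a)
    (hb : St0 V z b) : St0 V z (a * b) := fun w hw => by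
  have e : a * b * w * (a * b)⁻¹ = a * (b * w * b⁻¹) * a⁻¹ := by group
  rcases hb w hw with k | k
  · rw [e, k]; exact ha w hw
  · rw [e, k, ← conj_mul, c]
    rcases ha w hw with j | j
    · exact Or.inr (by rw [j])
    · exact Or.inl (by rw [j, ← mul_assoc, h2, one_mul])

theorem cj_zp {s y d : G} (h : s * y * s⁻¹ = y) (hd : d ∈ zpowers y) : s * d * s⁻¹ = d := by
  obtain ⟨k, rfl⟩ := mem_zpowers_iff.1 hd
  rw [← conj_zpow, h]

theorem cj_zp' {s y d : G} (h : s * y * s⁻¹ = y⁻¹) (hd : d ∈ zpowers y) : s * d * s⁻¹ = d⁻¹ := by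
  obtain ⟨k, rfl⟩ := mem_zpowers_iff.1 hd
  rw [← conj_zpow, h, inv_zpow]

theorem e2 (h : ON S U V z u f β l e ρ γ φ y) : e * e = 1 := by
  obtain ⟨c, hc⟩ := isConj_iff.1 h.ez
  rw [← hc, conj_mul, h.toP1.z2]; simp

theorem eA (h : ON S U V z u f β l e ρ γ φ y) : e ∉ 𝐂(V) := fun k => h.toP1.ne.1 (by
  have := (h.toQ3.memA h.eT).1 k
  rwa [h.ef, mul_eq_right] at this)

theorem cm (h : ON S U V z u f β l e ρ γ φ y) {a b : G} (ha : a ∈ A) (hb : b ∈ A) : a * b = b * a := h.comm hb a ha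

theorem cjA (h : ON S U V z u f β l e ρ γ φ y) (hs : s ∈ S) (ha : a ∈ A) : s * a * s⁻¹ ∈ A := (mem_normalizer_iff.1 (h.toQ3.nA hs) a).1 ha

theorem nuA (h : ON S U V z u f β l e ρ γ φ y) : φ * (e * φ * e⁻¹) ∈ A := mul_mem h.pA (cjA h h.eT.1 h.pA)

theorem nu2 (h : ON S U V z u f β l e ρ γ φ y) : φ * (e * φ * e⁻¹) * (φ * (e * φ * e⁻¹)) = z := by
  have := h.nz e h.eT h.ef
  rwa [show 2 ^ (2 - 1) = 2 from rfl, pow_two] at this

theorem uA (h : ON S U V z u f β l e ρ γ φ y) : u ∈ A := h.toQ3.VA (h.UV h.toP1.uU)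

theorem cu (h : ON S U V z u f β l e ρ γ φ y) (hx : x ∈ T) : x * u * x⁻¹ = u := (h.toP1.memT hx.1).1 hx.2

theorem sq4 (h : ON S U V z u f β l e ρ γ φ y) (ha : a ∈ A) : a * a * (a * a) = 1 := by
  rw [← h.ex a ha, show 2 ^ 2 = 1 + 1 + (1 + 1) from rfl]; simp only [pow_add, pow_one]

end OB1

open OB1

theorem ON.yA (h : ON S U V z u f β l e ρ γ φ y) :
    y ∈ A := by
  rw [h.hy]; exact mul_mem (nuA h) (uA h)

theorem ON.y2 (h : ON S U V z u f β l e ρ γ φ y) :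
    y * y = z := by
  rw [h.hy, mul_assoc, ← mul_assoc u, cm h (uA h) (nuA h), mul_assoc _ u, h.toP1.u2, mul_one, nu2 h]

theorem ON.ey (h : ON S U V z u f β l e ρ γ φ y) :
    e * y * e⁻¹ = y := by
  rw [h.hy, ← conj_mul, cu h h.eT, ← conj_mul, cm h h.pA (cjA h h.eT.1 h.pA)]
  congr 2
  calc _ = e * e * φ * (e * e)⁻¹ := by group
    _ = _ := by rw [e2 h]; group

theorem ON.ry (h : ON S U V z u f β l e ρ γ φ y) :
    ρ * y * ρ⁻¹ = y := by
  have k := h.rho ρ h.rS h.rU h.r2 h.rb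
  have k1 : ρ * (e * φ * e⁻¹) * ρ⁻¹ = (e * φ * e⁻¹)⁻¹ := by
    calc _ = ρ * e * ρ⁻¹ * (ρ * φ * ρ⁻¹) * (ρ * e * ρ⁻¹)⁻¹ := by group
      _ = _ := by rw [h.re, k]; group
  rw [h.hy, ← conj_mul, h.toP1.conj_u h.rS h.rU, ← conj_mul, k, k1, ← mul_inv_rev,
    ← cm h h.pA (cjA h h.eT.1 h.pA), ← nu2 h]
  group

theorem OB1.inv (h : ON S U V z u f β l e ρ γ φ y) (hx : x ∈ T) (k : x * f * x⁻¹ = u * f ∨ x * f * x⁻¹ = z * u * f) :
    x * y * x⁻¹ = y⁻¹ := by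
  rw [h.hy, ← conj_mul, cu h hx, h.ninv e h.eT h.ef x hx k, mul_inv_rev _ u,
    inv_eq_of_mul_eq_one_right h.toP1.u2]
  exact cm h (inv_mem (nuA h)) (uA h)

theorem OB1.e2T (h : ON S U V z u f β l e ρ γ φ y) : e₂ ∈ T := (mem_normalizer_iff.1 h.nT e).1 h.eT

theorem ON.e2y (h : ON S U V z u f β l e ρ γ φ y) :
    e₂ * y * (e₂)⁻¹ = y⁻¹ := by
  exact OB1.inv h (e2T h) (Or.inl (by rw [h.toQ3.b_c h.ef, h.rz]))

theorem ON.y_ne (h : ON S U V z u f β l e ρ γ φ y) :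
    y ≠ y⁻¹ := by
  exact fun k => h.toP1.ne.1 (by rw [← h.y2, mul_eq_one_iff_eq_inv]; exact k)

theorem OB1.Ay (h : ON S U V z u f β l e ρ γ φ y) (ha : a ∈ A) : a * y * a⁻¹ = y := by
  rw [cm h ha h.yA, mul_inv_cancel_right]

theorem OB1.Ty (h : ON S U V z u f β l e ρ γ φ y) (hx : x ∈ T) : (St0 V z x ∧ x * y * x⁻¹ = y ∧ (x ∈ A ∨ e * x ∈ A)) ∨
    (¬ St0 V z x ∧ x * y * x⁻¹ = y⁻¹) := by
  obtain ⟨w, hw, c⟩ := h.toQ3.cf hx.1
  have st : (x * f * x⁻¹ = f ∨ x * f * x⁻¹ = z * f) → St0 V z x := fun k v hv => by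
    have cU : ∀ w ∈ U, x * w * x⁻¹ = w := fun w hw => by rw [← hx.2 w hw, mul_inv_cancel_right]
    rcases h.toQ3.memV.1 hv with j | ⟨w', j, rfl⟩
    · exact Or.inl (cU v j)
    · rw [← conj_mul, cU w' j]
      refine k.imp (fun k => by rw [k]) fun k => ?_
      rw [k, ← mul_assoc, ← mul_assoc, mem_centralizer_singleton_iff.1 (h.cz (h.US j))]
  obtain ⟨n1, n2, n3, n4⟩ := h.toP1.ne
  rcases h.toP1.memU.1 hw with j | j | j | j <;> rw [j] at c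
  · rw [one_mul] at c
    have hA : x ∈ A := ⟨hx.1, (h.toQ3.memA hx).2 c⟩
    exact Or.inl ⟨st (Or.inl c), Ay h hA, Or.inl hA⟩
  · have hA : e * x ∈ A := ⟨mul_mem h.eT.1 hx.1, (h.toQ3.memA (mul_mem h.eT hx)).2 (by
      rw [h.toQ3.mul_c h.eT h.toP1.zU h.ef c, h.toP1.z2, one_mul])⟩
    refine Or.inl ⟨st (Or.inr c), ?_, Or.inr hA⟩
    calc _ = e⁻¹ * (e * x * y * (e * x)⁻¹) * e := by group
      _ = e⁻¹ * (e * y * e⁻¹) * e := by rw [Ay h hA, h.ey]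
      _ = y := by group
  · refine Or.inr ⟨fun k => ?_, OB1.inv h hx (Or.inl c)⟩
    rcases k f h.fV with k | k <;> rw [c] at k
    · exact n2 (mul_eq_right.1 k)
    · exact n3 (mul_right_cancel k).symm
  · refine Or.inr ⟨fun k => ?_, OB1.inv h hx (Or.inr c)⟩
    rcases k f h.fV with k | k <;> rw [c] at k
    · exact n4 (mul_eq_right.1 k)
    · exact n2 (mul_eq_left.1 (mul_right_cancel k))

theorem OB1.rr (h : ON S U V z u f β l e ρ γ φ y) (s : G) : ρ * (ρ * s) = s := by rw [← mul_assoc, h.r2, one_mul]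

theorem OB1.Sy (h : ON S U V z u f β l e ρ γ φ y) (hs : s ∈ S) : (St0 V z s ∧ s * y * s⁻¹ = y) ∨ (¬ St0 V z s ∧ s * y * s⁻¹ = y⁻¹) := by
  by_cases hc : s ∈ 𝐂(U)
  · exact (Ty h ⟨hs, hc⟩).imp (fun k => ⟨k.1, k.2.1⟩) id
  have sr : St0 V z ρ := h.toQ3.out h.rS h.rU (by rw [h.r2]; exact one_mem _)
  have e1 : s * y * s⁻¹ = ρ * (ρ * s * y * (ρ * s)⁻¹) * ρ⁻¹ := by
    conv_lhs => rw [← rr h s]
    group
  rcases Ty h (h.toP1.mul_mem h.rS h.rU hs hc) with k | k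
  · exact Or.inl ⟨rr h s ▸ st_mul h.toP1.z2 (h.toP1.cjz h.rS) sr k.1, by rw [e1, k.2.1, h.ry]⟩
  · exact Or.inr ⟨fun j => k.1 (st_mul h.toP1.z2 (h.toP1.cjz h.rS) sr j), by rw [e1, k.2, conj_inv.symm, h.ry]⟩

theorem ON.ny (h : ON S U V z u f β l e ρ γ φ y) :
    S ≤ 𝐍(zpowers y) := by
  intro s hs
  rw [← cj_eq_self_iff, cj_zpowers]
  rcases Sy h hs with k | k <;> rw [k.2]
  exact zpowers_inv

theorem ON.memS0 (h : ON S U V z u f β l e ρ γ φ y) (hs : s ∈ S) :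
    s * y * s⁻¹ = y ↔ St0 V z s := by
  rcases Sy h hs with k | k
  · exact ⟨fun _ => k.1, fun _ => k.2⟩
  · exact ⟨fun j => absurd (j.symm.trans k.2) h.y_ne, fun j => absurd j k.1⟩

theorem OB1.mem0 : s ∈ S₀ ↔ s ∈ S ∧ s * y * s⁻¹ = y := by
  rw [mem_inf, mem_centralizer_singleton_iff, mul_inv_eq_iff_eq_mul]

theorem ON.cases0 (h : ON S U V z u f β l e ρ γ φ y) (hs : s ∈ S₀) :
    s ∈ A ∨ e * s ∈ A ∨ ρ * s ∈ A ∨ e * ρ * s ∈ A := by
  obtain ⟨hs, c⟩ := mem0.1 hs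
  by_cases hc : s ∈ 𝐂(U)
  · rcases Ty h ⟨hs, hc⟩ with k | k
    · exact k.2.2.imp id Or.inl
    · exact absurd (c.symm.trans k.2) h.y_ne
  · rcases Ty h (h.toP1.mul_mem h.rS h.rU hs hc) with k | k
    · exact Or.inr (Or.inr (by rw [mul_assoc]; exact k.2.2))
    · refine absurd (Eq.trans ?_ k.2) h.y_ne
      calc y = ρ * (s * y * s⁻¹) * ρ⁻¹ := by rw [c, h.ry]
        _ = _ := by group

theorem ON.A_le (h : ON S U V z u f β l e ρ γ φ y) :
    A ≤ S₀ := by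
  exact fun a ha => mem0.2 ⟨ha.1, Ay h ha⟩

theorem ON.nS0 (h : ON S U V z u f β l e ρ γ φ y) :
    S ≤ 𝐍(S₀) := by
  intro s hs
  rw [← cj_eq_self_iff, cj_inf, cj_eq_of_mem hs, cj_centralizer_singleton]
  rcases Sy h hs with k | k <;> rw [k.2]
  ext x
  simp only [mem_inf, mem_centralizer_singleton_iff]
  exact and_congr_right fun _ => Commute.inv_right_iff

theorem OB1.cardS (h : ON S U V z u f β l e ρ γ φ y) : Nat.card S = 512 := by
  rw [h.toP1.cardS, h.toQ3.cardT, h.card]; rfl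

theorem ON.card0 (h : ON S U V z u f β l e ρ γ φ y) :
    Nat.card (S₀ : Subgroup G) = 256 := by
  have k : (S₀ : Subgroup G).relIndex S = 2 := relIndex_eq_two_iff_exists_notMem_and'.2
    ⟨e₂, (e2T h).1, fun j => h.y_ne ((mem0.1 j).2.symm.trans h.e2y), fun b hb => by
      rcases Sy h hb with j | j
      · exact Or.inr (mem0.2 ⟨hb, j.2⟩)
      · refine Or.inl (mem0.2 ⟨mul_mem (e2T h).1 hb, ?_⟩)
        calc _ = e₂ * (b * y * b⁻¹) * (e₂)⁻¹ := by group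
          _ = y := by rw [j.2, conj_inv.symm, h.e2y, inv_inv]⟩
  have := relIndex_mul_relIndex ⊥ (S₀) S bot_le inf_le_left
  rw [relIndex_bot_left, relIndex_bot_left, k, cardS h] at this
  omega

theorem ON.sqz (h : ON S U V z u f β l e ρ γ φ y) (ha : a ∈ A) (c : a * a = z) :
    a * y⁻¹ ∈ V := by
  refine h.toQ3.invA (mul_mem ha (inv_mem h.yA)) ?_
  rw [mul_assoc, ← mul_assoc y⁻¹, cm h (inv_mem h.yA) ha, mul_assoc, ← mul_assoc, c, ← mul_inv_rev, h.y2,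
    mul_inv_cancel]

theorem ON.cA (h : ON S U V z u f β l e ρ γ φ y) (ha : a ∈ A) (c1 : a * e = e * a) (c2 : a * ρ = ρ * a) :
    a ∈ zpowers y := by
  have hz : z ∈ zpowers y := h.y2 ▸ mul_mem (mem_zpowers y) (mem_zpowers y)
  have k : ∀ v ∈ V, e * v * e⁻¹ = v → ρ * v * ρ⁻¹ = v → v ∈ zpowers y := fun v hv k1 k2 => by
    rcases h.toP1.fix_out h.rS h.rU (h.toQ3.fixV h.eT (eA h) hv k1) k2 with j | j <;> rw [j]
    exacts [one_mem _, hz]
  have d1 : e * a * e⁻¹ = a := by rw [← c1, mul_inv_cancel_right]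
  have d2 : ρ * a * ρ⁻¹ = a := by rw [← c2, mul_inv_cancel_right]
  have k1 := h.nm1 e h.eT h.ef a ha
  rw [d1] at k1
  rcases zp2 (nu2 h) h.toP1.z2 h.toP1.ne.1 k1 (sq4 h ha) with j | j
  · exact k a (h.toQ3.invA ha j) d1 d2
  · have := k _ (h.sqz ha j) (by rw [← conj_mul, d1, conj_inv.symm, h.ey]) (by rw [← conj_mul, d2, conj_inv.symm, h.ry])
    simpa using mul_mem this (mem_zpowers y)

theorem ON.syl0 (h : ON S U V z u f β l e ρ γ φ y) :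
    IsSylowIn 2 (S₀) (centralizer {y}) := by
  refine ⟨inf_le_right, h.syl.isP.to_le inf_le_left, fun R r1 r2 r3 => ?_⟩
  by_contra hne
  obtain ⟨g, -, hg⟩ := h.syl.exists_cj_le r3 le_top
  have c1 : Nat.card (S₀ : Subgroup G) ∣ Nat.card R := card_dvd_of_le r1
  have c2 : Nat.card R ≠ Nat.card (S₀ : Subgroup G) := fun k => hne (eq_of_le_of_card_ge r1 k.le).symm
  have c3 : 0 < Nat.card R := Nat.card_pos
  rw [h.card0] at c1 c2
  have e1 : R ^ᶜ g = S := eq_of_le_of_card_ge hg (by rw [card_cj, cardS h]; omega)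
  have k1 : g * y * g⁻¹ ∈ S := hg (cj_mem g (r1 (h.A_le h.yA)))
  have k2 : ∀ s ∈ S, g * y * g⁻¹ * s = s * (g * y * g⁻¹) := fun s hs => by
    have := cj_mono g r2 (e1.ge hs)
    rw [cj_centralizer_singleton] at this
    exact (mem_centralizer_singleton_iff.1 this).symm
  have k3 := cj_zp' h.e2y (h.cA ⟨k1, fun v hv => (k2 v (h.VS hv)).symm⟩ (k2 e h.eT.1) (k2 ρ h.rS))
  rw [← k2 _ (e2T h).1, mul_inv_cancel_right, conj_inv] at k3
  exact h.y_ne (by simpa using k3)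

theorem ON.ycm (h : ON S U V z u f β l e ρ γ φ y) :
    y ∈ ⁅(S₀ : Subgroup G), (S₀ : Subgroup G)⁆ := by
  have me : e ∈ S₀ := mem0.2 ⟨h.eT.1, h.ey⟩
  have mr : ρ ∈ S₀ := mem0.2 ⟨h.rS, h.ry⟩
  obtain ⟨a, ha, k⟩ := h.on u h.toP1.uU
  have k1 := commutator_mem_commutator me (h.A_le (h.toQ4.A0_le ha))
  have k2 := commutator_mem_commutator me (h.A_le h.pA)
  have k3 := commutator_mem_commutator mr (h.A_le h.pA)
  rw [commutatorElement_def, k, mul_inv_cancel_right] at k1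
  rw [commutatorElement_def, h.rho ρ h.rS h.rU h.r2 h.rb] at k3
  have k4 := mul_mem (mul_mem k2 (inv_mem k3)) k1
  have e1 : ⁅e, φ⁆ * (φ⁻¹ * φ⁻¹)⁻¹ * u = y := by
    rw [h.hy, cm h h.pA (cjA h h.eT.1 h.pA), commutatorElement_def]; group
  rwa [e1] at k4

theorem ON.cAe (h : ON S U V z u f β l e ρ γ φ y) (ha : a ∈ A) (c : e * a * e⁻¹ * a⁻¹ ∈ zpowers y) :
    a ∈ V ⊔ zpowers y := by
  have k1 := cj_zp h.ey c
  have k2 : e * (e * a * e⁻¹ * a⁻¹) * e⁻¹ = (e * a * e⁻¹ * a⁻¹)⁻¹ := by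
    calc _ = e * e * a * (e * e)⁻¹ * e * a⁻¹ * e⁻¹ := by group
      _ = _ := by rw [e2 h]; group
  have k3 := zp2 h.y2 h.toP1.z2 h.toP1.ne.1 c (by rw [mul_eq_one_iff_eq_inv, ← k2, k1])
  have hz : z ∈ zpowers (φ * (e * φ * e⁻¹)) := nu2 h ▸ mul_mem (mem_zpowers _) (mem_zpowers _)
  have k4 : a * a ∈ zpowers (φ * (e * φ * e⁻¹)) := by
    have k5 := h.nm1 e h.eT h.ef a ha
    rw [cm h ha (cjA h h.eT.1 ha)] at k5
    have k6 : e * a * e⁻¹ * a⁻¹ ∈ zpowers (φ * (e * φ * e⁻¹)) := by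
      rcases k3 with j | j <;> rw [j]
      exacts [one_mem _, hz]
    have := mul_mem (inv_mem k6) k5
    rwa [show (e * a * e⁻¹ * a⁻¹)⁻¹ * (e * a * e⁻¹ * a) = a * a by group] at this
  rcases zp2 (nu2 h) h.toP1.z2 h.toP1.ne.1 k4 (sq4 h ha) with j | j
  · exact mem_sup_left (h.toQ3.invA ha j)
  · rw [← inv_mul_cancel_right a y]
    exact mul_mem (mem_sup_left (h.sqz ha j)) (mem_sup_right (mem_zpowers y))

theorem ON.Vy (h : ON S U V z u f β l e ρ γ φ y) (hv : v ∈ V) (c : v ∈ zpowers y) :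
    v = 1 ∨ v = z := by
  exact zp2 h.y2 h.toP1.z2 h.toP1.ne.1 c (h.e8.sq v hv)

end H13.R3
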