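import Mathlib
import Cfsg.Agent.Base
import Cfsg.Agent.Lib.RK3.OB1

/-! Simple groups of 2-rank 3, package OB2 (see `blueprint/RK3/README.md`). -/

set_option autoImplicit false
set_option linter.unusedSectionVars false
set_option linter.unusedVariables false

namespace H13.R3

open Subgroup H69 H70 Cfsg H22.RK H22.RG
open scoped commutatorElement Pointwise

variable {G : Type*} [Group G] [Finite G] {S U V M : Subgroup G}
  {z u f β l e ρ γ φ y θ t t' x a g s v w : G} {n : ℕ}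

local notation "T" => S ⊓ 𝐂(U)
local notation "A" => S ⊓ 𝐂(V)
local notation "W" => U ⊔ zpowers e
local notation "m" => β * l * β⁻¹
local notation "e₂" => β * e * β⁻¹
local notation "S₀" => S ⊓ centralizer (Singleton.singleton y : Set G)

namespace OB2

/-- equality modulo `z`. -/
def Md (z a b : G) : Prop := a = b ∨ a = z * b

variable {b c a' b' k : G}

theorem Md.rfl' : Md z a a := Or.inl rfl

theorem Md.zz : Md z (z * a) a := Or.inr rfl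

theorem Md.trans (z2 : z * z = 1) (h1 : Md z a b) (h2 : Md z b c) : Md z a c := by
  rcases h1 with rfl | rfl
  · exact h2
  · rcases h2 with rfl | rfl
    · exact Or.inr rfl
    · exact Or.inl (by rw [← mul_assoc, z2, one_mul])

theorem Md.symm (z2 : z * z = 1) (h1 : Md z a b) : Md z b a := by
  rcases h1 with rfl | rfl
  · exact Or.inl rfl
  · exact Or.inr (by rw [← mul_assoc, z2, one_mul])

theorem Md.cj (hg : g * z * g⁻¹ = z) (h1 : Md z a b) : Md z (g * a * g⁻¹) (g * b * g⁻¹) := by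
  rcases h1 with rfl | rfl
  · exact Or.inl rfl
  · exact Or.inr (by rw [cj_mul, hg])

theorem Md.mul (z2 : z * z = 1) (hc : b * z = z * b) (h1 : Md z a b) (h2 : Md z a' b') :
    Md z (a * a') (b * b') := by
  rcases h1 with rfl | rfl <;> rcases h2 with rfl | rfl
  · exact Or.inl rfl
  · exact Or.inr (by rw [← mul_assoc, hc, mul_assoc])
  · exact Or.inr (mul_assoc _ _ _)
  · exact Or.inl (by rw [mul_assoc z, ← mul_assoc b, hc, mul_assoc z, ← mul_assoc z, z2, one_mul])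

theorem md_iff (z2 : z * z = 1) : a * b⁻¹ ∈ zpowers z ↔ Md z a b := by
  rw [mem_zpowers_two z2, mul_inv_eq_one, mul_inv_eq_iff_eq_mul]; rfl

theorem nV (h : Q3 S U V z u f β) (hg : g ∈ 𝐍(A)) (hv : v ∈ V) : g * v * g⁻¹ ∈ V :=
  h.invA (conj_mem_of_mem_normalizer hg (h.VA hv)) (sq_cj g (h.e8.sq v hv))

theorem zV (h : Q3 S U V z u f β) : z ∈ V := h.UV h.toP1.zU

theorem uV (h : Q3 S U V z u f β) : u ∈ V := h.UV h.toP1.uU

theorem cm (h : Q3 S U V z u f β) (ha : a ∈ V) (hb : b ∈ V) : a * b = b * a :=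
  comm_of_cj (E8.cj h.e8 ha hb)

theorem cls (h : Q3 S U V z u f β) (hv : v ∈ V) :
    Md z v 1 ∨ Md z v u ∨ Md z v f ∨ Md z v (u * f) := by
  rcases h.memV.1 hv with hU | ⟨w, hw, rfl⟩
  · rcases h.toP1.memU.1 hU with rfl | rfl | rfl | rfl
    · exact Or.inl Md.rfl'
    · exact Or.inl (Or.inr (mul_one _).symm)
    · exact Or.inr (Or.inl Md.rfl')
    · exact Or.inr (Or.inl Md.zz)
  · rcases h.toP1.memU.1 hw with rfl | rfl | rfl | rfl
    · exact Or.inr (Or.inr (Or.inl (Or.inl (one_mul _))))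
    · exact Or.inr (Or.inr (Or.inl Md.zz))
    · exact Or.inr (Or.inr (Or.inr Md.rfl'))
    · exact Or.inr (Or.inr (Or.inr (Or.inr (mul_assoc _ _ _))))

theorem st_z (h : Q3 S U V z u f β) (hg : St0 V z g) : g * z * g⁻¹ = z := by
  rcases hg z (zV h) with e | e
  · exact e
  · rw [h.toP1.z2] at e
    have : z = 1 := by
      have e2 : z = g⁻¹ * (g * z * g⁻¹) * g := by group
      rw [e2, e]; group
    exact absurd this h.toP1.ne.1

theorem st_of (h : Q3 S U V z u f β) (hz : g * z * g⁻¹ = z) (hu : Md z (g * u * g⁻¹) u)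
    (hf : Md z (g * f * g⁻¹) f) : St0 V z g := by
  intro v hv
  have z2 := h.toP1.z2
  have key : ∀ r, Md z v r → Md z (g * r * g⁻¹) r → Md z (g * v * g⁻¹) v := fun r h1 h2 =>
    ((h1.cj hz).trans z2 h2).trans z2 (h1.symm z2)
  rcases cls h hv with e | e | e | e
  · exact key _ e (Or.inl (by group))
  · exact key _ e hu
  · exact key _ e hf
  · exact key _ e (by rw [cj_mul]; exact hu.mul z2 (cm h (uV h) (zV h)) hf)

/-- the stabiliser of `V / ⟨z⟩` in `𝐍(A)`. -/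
def KS (h : Q3 S U V z u f β) : Subgroup G where
  carrier := {k | k ∈ 𝐍(A) ∧ St0 V z k}
  one_mem' := ⟨one_mem _, fun v hv => Or.inl (by group)⟩
  mul_mem' := by
    rintro a b ⟨a1, a2⟩ ⟨b1, b2⟩
    refine ⟨mul_mem a1 b1, fun v hv => ?_⟩
    have e : a * b * v * (a * b)⁻¹ = a * (b * v * b⁻¹) * a⁻¹ := by group
    rw [e]
    exact (Md.cj (st_z h a2) (b2 v hv)).trans h.toP1.z2 (a2 v hv)
  inv_mem' := by
    rintro a ⟨a1, a2⟩
    refine ⟨inv_mem a1, fun v hv => ?_⟩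
    have hz : a⁻¹ * z * a⁻¹⁻¹ = z := by
      have := st_z h a2
      conv_lhs => rw [← this]
      group
    have := Md.cj hz (a2 v hv)
    have e : a⁻¹ * (a * v * a⁻¹) * a⁻¹⁻¹ = v := by group
    rw [e] at this
    exact this.symm h.toP1.z2

theorem nKS (h : Q3 S U V z u f β) (hg : g ∈ 𝐍(A)) (hz : g * z * g⁻¹ = z) : g ∈ 𝐍(KS h) := by
  refine nrm_of fun k hk => ⟨mul_mem (mul_mem hg hk.1) (inv_mem hg), fun v hv => ?_⟩
  have h1 := nV h (inv_mem hg) hv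
  have := Md.cj hz (hk.2 _ h1)
  have e : g * (g⁻¹ * v * g⁻¹⁻¹) * g⁻¹ = v := by group
  have e2 : g * k * g⁻¹ * v * (g * k * g⁻¹)⁻¹ = g * (k * (g⁻¹ * v * g⁻¹⁻¹) * k⁻¹) * g⁻¹ := by group
  rw [e] at this
  rw [e2]
  exact this

/-- a 3-cycle on `V / ⟨z⟩`. -/
structure Cy (z u f g : G) : Prop where
  hz : g * z * g⁻¹ = z
  hu : Md z (g * u * g⁻¹) f
  hf : Md z (g * f * g⁻¹) (u * f)

theorem Cy.huf (h : Q3 S U V z u f β) (c : Cy z u f g) : Md z (g * (u * f) * g⁻¹) u := by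
  rw [cj_mul]
  have := c.hu.mul h.toP1.z2 (cm h h.fV (zV h)) c.hf
  have e : f * (u * f) = u := by rw [← cm h h.fV (uV h), ← mul_assoc, h.f2, one_mul]
  rwa [e] at this

theorem Cy.cube (h : Q3 S U V z u f β) (c : Cy z u f g) : St0 V z (g ^ 3) := by
  have z2 := h.toP1.z2
  have e : ∀ x : G, g ^ 3 * x * (g ^ 3)⁻¹ = g * (g * (g * x * g⁻¹) * g⁻¹) * g⁻¹ := fun x => by
    rw [pow_three]; group
  refine st_of h ?_ ?_ ?_
  · rw [e, c.hz, c.hz, c.hz]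
  · rw [e]
    exact ((((c.hu.cj c.hz).trans z2 c.hf).cj c.hz).trans z2 (c.huf h))
  · rw [e]
    exact ((((c.hf.cj c.hz).trans z2 (c.huf h)).cj c.hz).trans z2 c.hu)

theorem Cy.left (h : Q3 S U V z u f β) (c : Cy z u f g) (hk : St0 V z k) : Cy z u f (k * g) := by
  have z2 := h.toP1.z2
  have e : ∀ x : G, k * g * x * (k * g)⁻¹ = k * (g * x * g⁻¹) * k⁻¹ := fun x => by group
  have kz := st_z h hk
  refine ⟨by rw [e, c.hz, kz], ?_, ?_⟩
  · rw [e]; exact (c.hu.cj kz).trans z2 (hk f h.fV)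
  · rw [e]; exact (c.hf.cj kz).trans z2 (hk _ (mul_mem (uV h) h.fV))

theorem nmd (h : Q3 S U V z u f β) :
    ¬ Md z u 1 ∧ ¬ Md z f 1 ∧ ¬ Md z (u * f) 1 ∧ ¬ Md z f u ∧ ¬ Md z (u * f) f ∧ ¬ Md z u (u * f) := by
  have hU : ∀ a b : G, b ∈ U → Md z a b → a ∈ U := fun a b hb e => by
    rcases e with rfl | rfl
    exacts [hb, mul_mem h.toP1.zU hb]
  have uf : u * f ∉ U := fun e => h.fU (by simpa using mul_mem (inv_mem h.toP1.uU) e)
  obtain ⟨n1, n2, n3, n4⟩ := h.toP1.ne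
  refine ⟨?_, fun e => h.fU (hU _ _ (one_mem _) e), fun e => uf (hU _ _ (one_mem _) e),
    fun e => h.fU (hU _ _ h.toP1.uU e), ?_, fun e => uf (hU _ _ h.toP1.uU (e.symm h.toP1.z2))⟩
  · rintro (e | e)
    · exact n2 e
    · exact n3 (by rw [e, mul_one])
  · rintro (e | e)
    · exact n2 (by simpa using e)
    · exact n3 (mul_right_cancel e).symm

theorem Cy.fpf (h : Q3 S U V z u f β) (c : Cy z u f g) (hv : v ∈ V)
    (e : g * v * g⁻¹ * v⁻¹ ∈ zpowers z) : v ∈ zpowers z := by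
  have z2 := h.toP1.z2
  rw [md_iff z2] at e
  obtain ⟨n1, n2, n3, n4, n5, n6⟩ := nmd h
  have key : ∀ r r', Md z v r → Md z (g * r * g⁻¹) r' → Md z r' r := fun r r' h1 h2 =>
    (((h2.symm z2).trans z2 ((h1.cj c.hz).symm z2)).trans z2 e).trans z2 h1
  rcases cls h hv with e' | e' | e' | e'
  · have := (md_iff z2).2 e'
    simpa using this
  · exact absurd (key _ _ e' c.hu) n4
  · exact absurd (key _ _ e' c.hf) n5
  · exact absurd (key _ _ e' (c.huf h)) n6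

end OB2

open OB2

theorem ON.odd_cent (h : ON S U V z u f β l e ρ γ φ y) (hw : Odd (orderOf w)) (hn : w ∈ 𝐍(S₀)) (ht : St0 V z w) :
    w ∈ 𝐂(S₀) := by
  have q : Q3 S U V z u f β := h.toQ3
  have nA : w ∈ 𝐍(A) := h.wc w ((cj_le_of_mem_normalizer h.A_le hn).trans inf_le_left)
  have wz := st_z q ht
  have cV : w ∈ 𝐂(V) := by
    refine mem_centralizer_iff_commute.2 fun v hv => (comm_of_cj ?_).symm
    rcases ht v hv with e | e
    · exact e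
    · exact H13.PS.odd_fix hw wz ⟨1, by rw [pow_one, pow_two, q.toP1.z2]⟩ (by rw [e, cm q (zV q) hv])
  have cA : w ∈ 𝐂(A) := h.cv w nA cV
  refine mem_centralizer_iff_commute.2 fun s hs => (comm_of_cj ?_).symm
  have hs' : w * s * w⁻¹ ∈ S₀ := conj_mem_of_mem_normalizer hn hs
  have hS : s⁻¹ * (w * s * w⁻¹) ∈ S := mul_mem (inv_mem hs.1) hs'.1
  have hC : s⁻¹ * (w * s * w⁻¹) ∈ 𝐂(V) := by
    have h1 : s⁻¹ * w * s ∈ 𝐂(V) :=
      conj_mem_of_mem_normalizer' (H69.normalizer_le_normalizer_centralizer V (q.nV hs.1)) cV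
    have := mul_mem h1 (inv_mem cV)
    have e : s⁻¹ * (w * s * w⁻¹) = s⁻¹ * w * s * w⁻¹ := by group
    rwa [e]
  exact H13.PS.odd_fix hw (conj_eq_of_mem_centralizer cA ⟨hS, hC⟩)
    (H69.isPGroup_iff_mem.1 q.syl.isP _ hS) (by group)

theorem ON.th (h : ON S U V z u f β l e ρ γ φ y) :
    ∃ θ, TH S V z β e y θ := by
  have q : Q3 S U V z u f β := h.toQ3
  have p1 : P1 S U z u := q.toP1
  have z2 := p1.z2
  obtain ⟨n1, n2, n3, n4⟩ := p1.ne
  have nU : ∀ a ∈ U, f ≠ a := fun a ha e => q.fU (e ▸ ha)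
  have nU' : ∀ a ∈ U, u * f ≠ a := fun a ha e =>
    q.fU (by have := mul_mem (inv_mem p1.uU) ha; rw [← e] at this; simpa using this)
  obtain ⟨n0, a0, b0, c0, d0⟩ := h.full z (zV q) u (uV q) f q.fV z (zV q) f q.fV (u * f) (mul_mem (uV q) q.fV)
    ⟨n1, n2, n3.symm, nU _ (one_mem _), nU _ p1.zU, nU _ p1.uU, nU _ (mul_mem p1.zU p1.uU)⟩
    ⟨n1, nU _ (one_mem _), nU _ p1.zU, nU' _ (one_mem _), nU' _ p1.zU, fun e => n2 (by simpa using e),
      fun e => n3 (mul_right_cancel e).symm⟩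
  have hSK : S ≤ 𝐍(KS q) := fun s hs => nKS q (q.nA hs) (p1.cjz hs)
  have syl : IsSylowIn 2 (S ⊓ KS q) (KS q) := q.syl.inf_of_le_normalizer le_top hSK
  have eS : S ⊓ KS q = S₀ := by
    ext s
    constructor
    · rintro ⟨a, b⟩
      exact ⟨a, mcs.2 ((h.memS0 a).2 b.2)⟩
    · rintro ⟨a, b⟩
      exact ⟨a, q.nA a, (h.memS0 a).1 (mcs.1 b)⟩
  rw [eS] at syl
  obtain ⟨k, hk, r, hr, e0⟩ := syl.frattini (nKS q a0 b0)
  have er : r = k⁻¹ * n0 := by rw [e0]; group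
  have hk' : k⁻¹ ∈ KS q := inv_mem hk
  have rA : r ∈ 𝐍(A) := by rw [er]; exact mul_mem hk'.1 a0
  have cr : Cy z u f r := by
    rw [er]; exact (⟨b0, Or.inl c0, Or.inl d0⟩ : Cy z u f n0).left q hk'.2
  have e2T : e₂ ∈ T := conj_mem_of_mem_normalizer q.nT h.eT
  have ee : e * e = 1 := by
    obtain ⟨c, hc⟩ := isConj_iff.1 h.ez
    rw [← hc]; exact sq_cj c z2
  have e22 : e₂ * e₂ = 1 := sq_cj β ee
  have e2f : e₂ * f * (e₂)⁻¹ = u * f := by rw [q.b_c h.ef, q.rz]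
  have e2u : e₂ * u * (e₂)⁻¹ = u := conj_eq_of_mem_centralizer e2T.2 p1.uU
  have e2z : e₂ * z * (e₂)⁻¹ = z := p1.cjz e2T.1
  generalize hE : β * e * β⁻¹ = E at *
  have e2uf : E * (u * f) * E⁻¹ = f := by rw [cj_mul, e2u, e2f, ← mul_assoc, p1.u2, one_mul]
  -- the conjugate `E' = r E r⁻¹`
  have tr : ∀ x : G, r * E * r⁻¹ * (r * x * r⁻¹) * (r * E * r⁻¹)⁻¹ = r * (E * x * E⁻¹) * r⁻¹ := fun x => by group
  have Ez : r * E * r⁻¹ * z * (r * E * r⁻¹)⁻¹ = z := by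
    have := tr z
    rwa [e2z, cr.hz] at this
  have Ef : Md z (r * E * r⁻¹ * f * (r * E * r⁻¹)⁻¹) f := by
    have h1 := (cr.hu.cj Ez).symm z2
    rw [tr, e2u] at h1
    exact h1.trans z2 cr.hu
  have Eu : Md z (r * E * r⁻¹ * u * (r * E * r⁻¹)⁻¹) (u * f) := by
    have h1 := ((cr.huf q).cj Ez).symm z2
    rw [tr, e2uf] at h1
    exact h1.trans z2 cr.hf
  have E'2 : r * E * r⁻¹ * (r * E * r⁻¹) = 1 := sq_cj r e22
  have E'A : r * E * r⁻¹ ∈ 𝐍(A) := mul_mem (mul_mem rA (q.nA e2T.1)) (inv_mem rA)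
  have E'S : r * E * r⁻¹ ∈ 𝐍(S₀) := mul_mem (mul_mem hr (h.nS0 e2T.1)) (inv_mem hr)
  generalize r * E * r⁻¹ = E' at *
  have ex : ∀ x : G, E * E' * x * (E * E')⁻¹ = E * (E' * x * E'⁻¹) * E⁻¹ := fun x => by group
  have cd : Cy z u f (E * E') := by
    refine ⟨by rw [ex, Ez, e2z], ?_, ?_⟩
    · rw [ex]; have := Eu.cj e2z; rwa [e2uf] at this
    · rw [ex]; have := Ef.cj e2z; rwa [e2f] at this
  have dA : E * E' ∈ 𝐍(A) := mul_mem (q.nA e2T.1) E'A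
  have dS : E * E' ∈ 𝐍(S₀) := mul_mem (h.nS0 e2T.1) E'S
  have di : E * (E * E') * E⁻¹ = (E * E')⁻¹ := by
    rw [← mul_assoc, e22, one_mul, mul_inv_rev, inv_eq_of_mul_eq_one_right E'2]
  generalize E * E' = δ at *
  obtain ⟨k, j, -, h3, ho, hk3, -⟩ := H45.NE8.exists_three_part δ
  have cθ : Cy z u f (δ ^ k) := by
    have e1 : δ ^ k = (δ ^ 3) ^ (k / 3) * δ := by
      rw [← pow_mul, ← pow_succ]; congr 1; omega
    have hm : δ ^ 3 ∈ KS q := ⟨pow_mem dA 3, cd.cube q⟩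
    rw [e1]; exact cd.left q (pow_mem hm _).2
  have θA : δ ^ k ∈ 𝐍(A) := pow_mem dA k
  have θS : δ ^ k ∈ 𝐍(S₀) := pow_mem dS k
  have θi : E * δ ^ k * E⁻¹ = (δ ^ k)⁻¹ := by rw [← conj_pow, di, inv_pow]
  generalize δ ^ k = θ at *
  have cy : θ * y * θ⁻¹ = y := by
    have yA : θ * y * θ⁻¹ ∈ A := conj_mem_of_mem_normalizer θA h.yA
    have cS : ∀ s ∈ S₀, θ * y * θ⁻¹ * s = s * (θ * y * θ⁻¹) := fun s hs => by
      have h1 := mcs.1 (conj_mem_of_mem_normalizer' θS hs).2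
      have e1 : s * (θ * y * θ⁻¹) = θ * (θ⁻¹ * s * θ * y * (θ⁻¹ * s * θ)⁻¹) * θ⁻¹ * s := by group
      rw [e1, h1]
    have hz : θ * y * θ⁻¹ ∈ zpowers y :=
      h.cA yA (cS e ⟨h.eT.1, mcs.2 h.ey⟩) (cS ρ ⟨h.rS, mcs.2 h.ry⟩)
    have hV : θ * y * θ⁻¹ * y⁻¹ ∈ V := h.sqz yA (by rw [← cj_mul, h.y2, cθ.hz])
    rcases h.Vy hV (mul_mem hz (inv_mem (mem_zpowers y))) with e1 | e1
    · exact mul_inv_eq_one.1 e1
    · refine H13.PS.odd_fix ho cθ.hz ⟨1, by rw [pow_one, pow_two, z2]⟩ ?_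
      rw [mul_inv_eq_iff_eq_mul.1 e1, ← h.y2, mul_assoc]
  refine ⟨θ, ⟨j, h3⟩, θA, θS, cy, fun v hv e1 => cθ.fpf q hv e1, by rw [hE]; exact θi, ?_⟩
  exact h.odd_cent (ho.of_dvd_nat (orderOf_pow_dvd 3)) (pow_mem θS 3) (cθ.cube q)

theorem ON.to_tau (h : ON S U V z u f β l e ρ γ φ y) (k : TH S V z β e y θ) (hs : s ∈ S₀) (hA : s ∉ 𝐂(V)) :
    ∃ j : ℕ, e * (θ ^ j * s * (θ ^ j)⁻¹) ∈ A := by
  have q : Q3 S U V z u f β := h.toQ3
  have p1 : P1 S U z u := q.toP1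
  have z2 := p1.z2
  obtain ⟨n1, n2, n3, n4, n5, n6⟩ := nmd q
  have θz : θ * z * θ⁻¹ = z := by rw [← h.y2, cj_mul, k.cy]
  have st := (h.memS0 hs.1).1 (mcs.1 hs.2)
  obtain ⟨v, hv, v1, sv⟩ : ∃ v ∈ V, ¬ Md z v 1 ∧ s * v * s⁻¹ = v := by
    rcases st u (uV q) with a | a
    · exact ⟨u, uV q, n1, a⟩
    rcases st f q.fV with b | b
    · exact ⟨f, q.fV, n2, b⟩
    refine ⟨u * f, mul_mem (uV q) q.fV, n3, ?_⟩
    rw [cj_mul, a, b, mul_assoc z, ← mul_assoc u, cm q (uV q) (zV q), mul_assoc z, ← mul_assoc z, z2, one_mul]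
  have fp : ∀ v ∈ V, ¬ Md z v 1 → ¬ Md z (θ * v * θ⁻¹) v := fun v hv a b =>
    a ((md_iff z2).1 (by simpa using k.fpf v hv ((md_iff z2).2 b)))
  have nz : ∀ v ∈ V, ¬ Md z v 1 → ¬ Md z (θ * v * θ⁻¹) 1 := fun v hv a b => a (by
    have hz : θ⁻¹ * z * θ⁻¹⁻¹ = z := by
      conv_lhs => rw [← θz]
      group
    have := b.cj hz
    have e1 : θ⁻¹ * (θ * v * θ⁻¹) * θ⁻¹⁻¹ = v := by group
    have e2 : θ⁻¹ * 1 * θ⁻¹⁻¹ = 1 := by group
    rwa [e1, e2] at this)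
  have hv1 := nV q k.nA hv
  have hv2 := nV q k.nA hv1
  have a1 := nz v hv v1
  have a2 := nz _ hv1 a1
  have b1 := fp v hv v1
  have b2 := fp _ hv1 a1
  have b3 : ¬ Md z (θ * (θ * v * θ⁻¹) * θ⁻¹) v := fun c => by
    have c1 : ¬ Md z (θ * v * θ⁻¹ * v) 1 := fun d => b1 (by
      have := Md.mul z2 (by rw [one_mul, mul_one]) d (Md.rfl' (a := v))
      rwa [mul_assoc, q.e8.sq v hv, mul_one, one_mul] at this)
    refine fp _ (mul_mem hv1 hv) c1 ?_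
    rw [cj_mul, cm q hv1 hv]
    exact Md.mul z2 (cm q hv (zV q)) c Md.rfl'
  obtain ⟨j, hj⟩ : ∃ j : ℕ, Md z (θ ^ j * v * (θ ^ j)⁻¹) u := by
    by_contra hne
    push Not at hne
    have c0 : ¬ Md z v u := by simpa using hne 0
    have c1 : ¬ Md z (θ * v * θ⁻¹) u := by simpa using hne 1
    have c2 : ¬ Md z (θ * (θ * v * θ⁻¹) * θ⁻¹) u := by
      have := hne 2
      have e1 : θ ^ 2 * v * (θ ^ 2)⁻¹ = θ * (θ * v * θ⁻¹) * θ⁻¹ := by rw [pow_two]; group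
      rwa [e1] at this
    have two : ∀ x ∈ V, ¬ Md z x 1 → ¬ Md z x u → Md z x f ∨ Md z x (u * f) := fun x hx a b => by
      rcases cls q hx with d | d | d | d
      exacts [absurd d a, absurd d b, Or.inl d, Or.inr d]
    have tt : ∀ {a b c : G}, Md z a c → Md z b c → Md z a b := fun d1 d2 => d1.trans z2 (d2.symm z2)
    rcases two _ hv v1 c0 with d0 | d0 <;> rcases two _ hv1 a1 c1 with d1 | d1 <;>
      rcases two _ hv2 a2 c2 with d2 | d2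
    exacts [b1 (tt d1 d0), b1 (tt d1 d0), b3 (tt d2 d0), b2 (tt d2 d1), b2 (tt d2 d1), b3 (tt d2 d0),
      b1 (tt d1 d0), b1 (tt d1 d0)]
  refine ⟨j, ?_⟩
  have gA : θ ^ j ∈ 𝐍(A) := pow_mem k.nA j
  have gS : θ ^ j ∈ 𝐍(S₀) := pow_mem k.nS j
  generalize θ ^ j = g at *
  have hs' : g * s * g⁻¹ ∈ S₀ := conj_mem_of_mem_normalizer gS hs
  have hA' : g * s * g⁻¹ ∉ 𝐂(V) := fun c => hA (by
    refine mem_centralizer_iff_commute.2 fun w hw => (comm_of_cj ?_).symm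
    have := conj_eq_of_mem_centralizer c (nV q gA hw)
    have e1 : s * w * s⁻¹ = g⁻¹ * (g * s * g⁻¹ * (g * w * g⁻¹) * (g * s * g⁻¹)⁻¹) * g := by group
    rw [e1, this]; group)
  have fx : g * s * g⁻¹ * (g * v * g⁻¹) * (g * s * g⁻¹)⁻¹ = g * v * g⁻¹ := by
    have e1 : g * s * g⁻¹ * (g * v * g⁻¹) * (g * s * g⁻¹)⁻¹ = g * (s * v * s⁻¹) * g⁻¹ := by group
    rw [e1, sv]
  generalize g * s * g⁻¹ = s' at *
  have s'z := p1.cjz hs'.1
  have s'u : s' * u * s'⁻¹ = u := by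
    rcases hj with d | d
    · rwa [d] at fx
    · rw [d, cj_mul, s'z] at fx; exact mul_left_cancel fx
  have s'T : s' ∈ T := ⟨hs'.1, (p1.memT hs'.1).2 s'u⟩
  have s'f : s' * f * s'⁻¹ = z * f := by
    rcases (h.memS0 hs'.1).1 (mcs.1 hs'.2) f q.fV with d | d
    · exact absurd ((q.memA s'T).2 d) hA'
    · exact d
  have eT : e * s' ∈ T := mul_mem h.eT s'T
  refine ⟨eT.1, (q.memA eT).2 ?_⟩
  have e1 : e * s' * f * (e * s')⁻¹ = e * (s' * f * s'⁻¹) * e⁻¹ := by group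
  rw [e1, s'f, cj_mul, p1.cjz h.eT.1, h.ef, ← mul_assoc, z2, one_mul]

end H13.R3
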