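import Mathlib
import Cfsg.Agent.Base
import Cfsg.Agent.Lib.RK3.OB1

/-! Simple groups of 2-rank 3, package OB3 (see `blueprint/RK3/README.md`). -/

set_option autoImplicit false
set_option linter.unusedSectionVars false
set_option linter.unusedVariables false

namespace H13.R3

open Subgroup H69 H70 Cfsg H22.RK H22.RG
open scoped commutatorElement Pointwise

variable {G : Type*} [Group G] [Finite G] {S U V M : Subgroup G}
  {z u f β l e ρ γ φ y θ t t' x a g s v w : G} {n : ℕ}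

local notation "T" => S ⊓ 𝐂(U)
local notation "A" => S ⊓ 𝐂(V)
local notation "W" => U ⊔ zpowers e
local notation "m" => β * l * β⁻¹
local notation "e₂" => β * e * β⁻¹
local notation "S₀" => S ⊓ centralizer (Singleton.singleton y : Set G)

local notation "ν" => φ * (e * φ * e⁻¹)
local notation "ν₃" => β⁻¹ * (φ * (e * φ * e⁻¹)) * β

namespace OB3

theorem cjN {Z : Subgroup G} {k x : G} (hk : k ∈ 𝐍(Z)) (hx : x ∈ Z) : k * x * k⁻¹ ∈ Z :=
  (mem_normalizer_iff.1 hk x).1 hx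

theorem cjN' {Z : Subgroup G} {k x : G} (hk : k ∈ 𝐍(Z)) (hx : x ∈ Z) : k⁻¹ * x * k ∈ Z := by
  simpa using cjN (inv_mem hk) hx

theorem mem4 {g c x : G} (h : g * g = c) (hc : c * c = 1) (hx : x ∈ zpowers g) :
    x = 1 ∨ x = g ∨ x = c ∨ x = g * c := by
  obtain ⟨k, rfl⟩ := mem_zpowers_iff.1 hx
  have h4 : g ^ 4 = 1 := by rw [← hc, ← h]; simp only [pow_succ, pow_zero, one_mul, mul_assoc]
  rw [zpow_eq_zpow_emod' k h4]
  have : k % (4 : ℕ) = 0 ∨ k % (4 : ℕ) = 1 ∨ k % (4 : ℕ) = 2 ∨ k % (4 : ℕ) = 3 := by omega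
  rcases this with e | e | e | e <;> rw [e]
  · exact Or.inl (zpow_zero g)
  · exact Or.inr (Or.inl (zpow_one g))
  · exact Or.inr (Or.inr (Or.inl ((zpow_two g).trans h)))
  · refine Or.inr (Or.inr (Or.inr ?_))
    rw [← h, show (3 : ℤ) = 1 + 2 from rfl, zpow_add, zpow_one, zpow_two]

theorem cmA (h : ON S U V z u f β l e ρ γ φ y) {b : G} (ha : a ∈ A) (hb : b ∈ A) : a * b = b * a :=
  mem_centralizer_iff.1 (h.comm hb) a ha

theorem ee (h : ON S U V z u f β l e ρ γ φ y) : e * e = 1 := by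
  obtain ⟨k, hk⟩ := isConj_iff.1 h.ez
  rw [← hk, show k * z * k⁻¹ * (k * z * k⁻¹) = k * (z * z) * k⁻¹ by group, h.z2]; group

theorem nC (h : ON S U V z u f β l e ρ γ φ y) (hx : x ∈ T) (w1 : w ≠ 1) (c : x * f * x⁻¹ = w * f) :
    x ∉ 𝐂(V) := fun d => w1 (mul_right_cancel (c.symm.trans (((h.memA hx).1 d).trans (one_mul _).symm)))

theorem eA (h : ON S U V z u f β l e ρ γ φ y) : e ∉ 𝐂(V) := nC h h.eT h.ne.1 h.ef

theorem nuA (h : ON S U V z u f β l e ρ γ φ y) : ν ∈ A := mul_mem h.pA (cjN (h.nA h.eT.1) h.pA)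

theorem nu2 (h : ON S U V z u f β l e ρ γ φ y) : ν * (ν) = z := by
  have := h.nz e h.eT h.ef
  rwa [show 2 ^ (2 - 1) = 2 from rfl, pow_two] at this

theorem e2T (h : ON S U V z u f β l e ρ γ φ y) : e₂ ∈ T := cjN h.toRot.nT h.eT

theorem e2f (h : ON S U V z u f β l e ρ γ φ y) : e₂ * f * (e₂)⁻¹ = u * f := by
  have := h.b_c h.ef
  rwa [h.rz] at this

theorem e22 (h : ON S U V z u f β l e ρ γ φ y) : e₂ * (e₂) = 1 := by
  rw [show e₂ * (e₂) = β * (e * e) * β⁻¹ by group, ee h]; group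

theorem nu3A (h : ON S U V z u f β l e ρ γ φ y) : ν₃ ∈ A := cjN' h.bA (nuA h)

theorem bz (h : ON S U V z u f β l e ρ γ φ y) : β⁻¹ * z * β = z * u := by
  have := h.rzu
  calc β⁻¹ * z * β = β⁻¹ * (β * (z * u) * β⁻¹) * β := by rw [this]
    _ = _ := by group

theorem nu32 (h : ON S U V z u f β l e ρ γ φ y) : ν₃ * (ν₃) = z * u := by
  rw [show ν₃ * (ν₃) = β⁻¹ * (ν * (ν)) * β by group, nu2 h, bz h]

theorem inv3 (h : ON S U V z u f β l e ρ γ φ y) (hx : x ∈ T)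
    (c : x * f * x⁻¹ = z * f ∨ x * f * x⁻¹ = u * f) : x * (ν₃) * x⁻¹ = (ν₃)⁻¹ := by
  have := h.ninv e h.eT h.ef _ (cjN h.toRot.nT hx) (c.imp (fun c => by rw [h.b_c c, h.rz])
    fun c => by rw [h.b_c c, h.ru])
  calc x * (ν₃) * x⁻¹ = β⁻¹ * (β * x * β⁻¹ * (ν) * (β * x * β⁻¹)⁻¹) * β := by group
    _ = _ := by rw [this]; group

theorem zu2 (h : ON S U V z u f β l e ρ γ φ y) : z * u * (z * u) = 1 := h.sqU (mul_mem h.zU h.uU)

theorem UA (h : ON S U V z u f β l e ρ γ φ y) : U ≤ A := h.UV.trans h.VA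

theorem wf (h : ON S U V z u f β l e ρ γ φ y) : e * (e₂) * f * (e * (e₂))⁻¹ = z * u * f := by
  rw [h.mul_c h.eT h.uU h.ef (e2f h), h.zu]

theorem sq1 (h : ON S U V z u f β l e ρ γ φ y) (hx : x ∈ T) (c : x * f * x⁻¹ = z * f) : e * x ∈ A := by
  have t := mul_mem h.eT hx
  refine ⟨t.1, (h.memA t).2 ?_⟩
  rw [h.mul_c h.eT h.zU h.ef c, h.z2, one_mul]

end OB3

open OB3 in
theorem ON.ee2 (h : ON S U V z u f β l e ρ γ φ y) :
    e * (e₂) * (e * (e₂)) ∈ zpowers (β⁻¹ * (φ * (e * φ * e⁻¹)) * β) ∧ e * (e₂) * (e * (e₂)) ∉ V := by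
  have wT := mul_mem h.eT (e2T h)
  have ie : e⁻¹ = e := inv_eq_of_mul_eq_one_right (ee h)
  have ie2 : (e₂)⁻¹ = e₂ := inv_eq_of_mul_eq_one_right (e22 h)
  have wC : e * (e₂) ∉ 𝐂(V) := nC h wT h.ne.2.2.2 (wf h)
  have e2C : e₂ ∉ 𝐂(V) := nC h (e2T h) h.ne.2.1 (e2f h)
  have k1 : e * (e₂) * (e * (e₂)) ∈ zpowers (ν₃) := by
    have xf := h.b_c (wf h)
    rw [h.rzu] at xf
    have aA := sq1 h (cjN h.toRot.nT wT) xf
    have := h.nm1 e h.eT h.ef _ aA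
    rw [cmA h aA (cjN (h.nA h.eT.1) aA)] at this
    have k := cj_mem β⁻¹ this
    rw [cj_zpowers, inv_inv] at k
    generalize e * (e₂) = w at k ⊢
    rwa [show β⁻¹ * (e * (e * (β * w * β⁻¹)) * e⁻¹ * (e * (β * w * β⁻¹))) * β =
      β⁻¹ * (e * e) * β * (w * w) by group, ee h, mul_one, inv_mul_cancel, one_mul] at k
  refine ⟨k1, fun hV => ?_⟩
  have n3 : ν₃ ∉ V := fun c => h.ne.2.2.2 ((nu32 h).symm.trans (h.e8.sq _ c))
  rcases mem4 (nu32 h) (zu2 h) k1 with c | c | c | c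
  · refine wC (h.e16 h.eT (e2T h) (ee h) (e22 h) ?_ (eA h) e2C)
    rw [← inv_eq_of_mul_eq_one_right c, mul_inv_rev, ie, ie2]
  · exact n3 (c ▸ hV)
  · have i1 := inv3 h h.eT (Or.inl h.ef)
    have i2 := inv3 h (e2T h) (Or.inr (e2f h))
    have n2 := nu32 h
    have nA := nu3A h
    have eT' := e2T h
    generalize ν₃ = k at i1 i2 nA n2
    generalize e₂ = e' at *
    refine wC ((mul_mem_cancel_right (mem_inf.1 nA).2).1 ?_)
    rw [mul_assoc]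
    refine h.e16 h.eT (mul_mem eT' (h.AT nA)) (ee h) ?_ ?_ (eA h)
      fun d => e2C ((mul_mem_cancel_right (mem_inf.1 nA).2).1 d)
    · calc e' * k * (e' * k) = e' * k * e'⁻¹ * k := by rw [ie2]; group
        _ = 1 := by rw [i2, inv_mul_cancel]
    · have c1 : e * e' = z * u * (e' * e) := by
        calc e * e' = e * e' * (e * e') * (e'⁻¹ * e⁻¹) := by group
          _ = _ := by rw [c, ie, ie2]
      have c2 : z * u * (e' * e) = e' * e * (z * u) := by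
        have t : e' * e ∈ 𝐂(U) := (mem_inf.1 (mul_mem eT' h.eT)).2
        exact mem_centralizer_iff.1 t _ (mul_mem h.zU h.uU)
      have c3 : k * e = e * k⁻¹ := by
        calc k * e = e * (e * k * e⁻¹) := by rw [ie, ← mul_assoc, ← mul_assoc, ee h, one_mul]
          _ = _ := by rw [i1]
      have c4 : z * u * k = k⁻¹ := by
        rw [eq_inv_iff_mul_eq_one, mul_assoc, n2, zu2 h]
      rw [← mul_assoc, c1, c2, mul_assoc e' k, c3, ← c4]; group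
  · exact n3 ((mul_mem_cancel_right (h.UV (mul_mem h.zU h.uU))).1 (c ▸ hV))

namespace OB3

theorem w2 (h : ON S U V z u f β l e ρ γ φ y) : ∃ v ∈ U, ν₃ = e * (e₂) * (e * (e₂)) * v := by
  rcases mem4 (nu32 h) (zu2 h) h.ee2.1 with c | c | c | c
  · exact absurd (c ▸ one_mem V) h.ee2.2
  · exact ⟨1, one_mem _, by rw [c, mul_one]⟩
  · exact absurd (c ▸ h.UV (mul_mem h.zU h.uU)) h.ee2.2
  · exact ⟨z * u, mul_mem h.zU h.uU, by rw [c, mul_assoc _ (z * u), zu2 h, mul_one]⟩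

theorem msq (h : ON S U V z u f β l e ρ γ φ y) {b : G} (ha : a ∈ A) (hb : b ∈ A) :
    a * b * (a * b) = a * a * (b * b) := by
  rw [mul_assoc, ← mul_assoc b, ← cmA h ha hb]; group

theorem sqc (h : ON S U V z u f β l e ρ γ φ y) (ha : a ∈ A) (c : a * a ∈ U) :
    a ∈ V ∨ a * y⁻¹ ∈ V ∨ a * (ν₃) ∈ V ∨ a * (ν₃) * y⁻¹ ∈ V := by
  rcases h.memU.1 c with c | c | c | c
  · exact Or.inl (h.invA ha c)
  · exact Or.inr (Or.inl (h.sqz ha c))
  · refine Or.inr (Or.inr (Or.inr (h.sqz (mul_mem ha (nu3A h)) ?_)))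
    rw [msq h ha (nu3A h), c, nu32 h, h.zu, ← mul_assoc, h.u2, one_mul]
  · refine Or.inr (Or.inr (Or.inl (h.invA (mul_mem ha (nu3A h)) ?_)))
    rw [msq h ha (nu3A h), c, nu32 h, zu2 h]

theorem sqV (h : ON S U V z u f β l e ρ γ φ y) (ha : a ∈ A) : a * a ∈ V :=
  h.invA (mul_mem ha ha) (by
    have := h.ex a ha
    rwa [show 2 ^ 2 = 2 + 2 from rfl, pow_add, pow_two] at this)

/-- the coset `τ₁` -/
theorem cls1 (h : ON S U V z u f β l e ρ γ φ y) (hM : 𝐍(A) ≤ M) (hγ : γ ∈ M) (hx : x ∈ T)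
    (x2 : x * x = 1) (c : x * f * x⁻¹ = z * f) : ∃ g ∈ M, g * z * g⁻¹ = x := by
  have ie : e⁻¹ = e := inv_eq_of_mul_eq_one_right (ee h)
  have SM : S ≤ M := h.nA.trans hM
  have cj : ∀ k ∈ M, ∀ s, (∃ g ∈ M, g * z * g⁻¹ = s) → ∃ g ∈ M, g * z * g⁻¹ = k * s * k⁻¹ := by
    rintro k hk _ ⟨g, hg, rfl⟩
    exact ⟨k * g, mul_mem hk hg, by group⟩
  have eA' : ∀ b ∈ A, e * b * e⁻¹ ∈ A := fun b hb => cjN (h.nA h.eT.1) hb
  -- `R a`: `e a` is conjugate to `e` under `A`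
  let R : G → Prop := fun a => ∃ b ∈ A, a = (e * b * e⁻¹) * b⁻¹
  have RA : ∀ a, R a → a ∈ A := by
    rintro _ ⟨b, hb, rfl⟩
    exact mul_mem (eA' b hb) (inv_mem hb)
  have Rm : ∀ a a', R a → R a' → R (a * a') := by
    rintro _ _ ⟨b, hb, rfl⟩ ⟨b', hb', rfl⟩
    refine ⟨b * b', mul_mem hb hb', ?_⟩
    rw [mul_assoc _ b⁻¹, cmA h (inv_mem hb) (mul_mem (eA' b' hb') (inv_mem hb'))]; group
  have Rc : ∀ a k, R a → k ∈ A → (∃ g ∈ M, g * z * g⁻¹ = e * k) → ∃ g ∈ M, g * z * g⁻¹ = e * (k * a) := by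
    rintro _ k ⟨b, hb, rfl⟩ hk hg
    have := cj b (SM hb.1) _ hg
    rwa [show b * (e * k) * b⁻¹ = e * ((e⁻¹ * b * e) * k * b⁻¹) by group, cmA h (cjN' (h.nA h.eT.1) hb) hk,
      show e⁻¹ * b * e = e * b * e⁻¹ by rw [ie], mul_assoc k] at this
  have Ri : ∀ b ∈ A, e * b * e⁻¹ = b⁻¹ → R (b * b) := fun b hb i =>
    ⟨b⁻¹, inv_mem hb, by rw [show e * b⁻¹ * e⁻¹ = (e * b * e⁻¹)⁻¹ by group, i, inv_inv]⟩
  have fA : f ∈ A := h.VA h.fV
  have Rz : R z := ⟨f, fA, by rw [h.ef, mul_inv_cancel_right]⟩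
  have i3 := inv3 h h.eT (Or.inl h.ef)
  have Rzu : R (z * u) := nu32 h ▸ Ri _ (nu3A h) i3
  have RU : ∀ v ∈ U, R v := by
    intro v hv
    rcases h.memU.1 hv with rfl | rfl | rfl | rfl
    · exact ⟨1, one_mem _, by group⟩
    · exact Rz
    · have := Rm _ _ Rz Rzu
      rwa [← mul_assoc, h.z2, one_mul] at this
    · exact Rzu
  have pf : φ * φ = f := by
    have := h.pf
    rwa [show 2 ^ (2 - 1) = 2 from rfl, pow_two] at this
  have Rn : R (ν * f) := ⟨φ, h.pA, by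
    rw [cmA h h.pA (eA' _ h.pA), ← pf, eq_mul_inv_iff_mul_eq, mul_assoc _ φ, mul_assoc _ (φ * _),
      show φ * (φ * φ) * φ = φ * φ * (φ * φ) by group, pf, h.f2, mul_one]⟩
  have I : ∀ a, R a → e * a * e⁻¹ = a⁻¹ := by
    rintro _ ⟨b, hb, rfl⟩
    calc _ = (e * e) * b * e⁻¹ * b⁻¹ * e⁻¹ := by group
      _ = b * e * b⁻¹ * e⁻¹ := by rw [ee h, one_mul, show b * e⁻¹ = b * e by rw [ie]]
      _ = _ := by group
  have Im : ∀ a ∈ A, ∀ b ∈ A, e * a * e⁻¹ = a⁻¹ → e * b * e⁻¹ = b⁻¹ → e * (a * b) * e⁻¹ = (a * b)⁻¹ := by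
    intro a ha b hb i j
    rw [show e * (a * b) * e⁻¹ = e * a * e⁻¹ * (e * b * e⁻¹) by group, i, j, cmA h ha hb, mul_inv_rev]
  have IV : ∀ v ∈ V, e * v * e⁻¹ = v⁻¹ → v ∈ U := fun v hv i =>
    h.fixV h.eT (eA h) hv (i.trans (inv_eq_of_mul_eq_one_right (h.e8.sq v hv)))
  have K : ∀ a ∈ A, e * a * e⁻¹ = a⁻¹ → (a ∈ V ∨ a * y⁻¹ ∈ V) → R a := by
    rintro a ha i (c | c)
    · exact RU a (IV a c i)
    · have nA := RA _ Rn
      have yA := h.yA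
      have m1 : a * (ν * f) ∈ V := by
        have : a * (ν * f) = a * y⁻¹ * (y * y) * u * f := by
          rw [h.hy]
          generalize ν = k
          calc a * (k * f) = a * k * (u * u) * f := by rw [h.u2]; group
            _ = _ := by group
        rw [this, h.y2]
        exact mul_mem (mul_mem (mul_mem c (h.UV h.zU)) (h.UV h.uU)) h.fV
      have r1 := Rm _ _ (Rm _ _ (RU _ (IV _ m1 (Im a ha _ nA i (I _ Rn)))) Rn) Rz
      rwa [mul_assoc a, msq h (nuA h) fA, nu2 h, h.f2, mul_one, mul_assoc, h.z2, mul_one] at r1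
  have ze : ∃ g ∈ M, g * z * g⁻¹ = e := by
    have k1 := cj γ hγ u ⟨β, hM h.bA, h.rz⟩
    rcases h.gu with c | c <;> rw [c] at k1
    · exact k1
    · have k2 := Rc z z Rz (UA h h.zU) (by
        rwa [mem_centralizer_iff.1 h.eT.2 z h.zU] at k1)
      rwa [h.z2, mul_one] at k2
  have aA := sq1 h hx c
  have xa : x = e * (e * x) := by rw [← mul_assoc, ee h, one_mul]
  have ia : e * (e * x) * e⁻¹ = (e * x)⁻¹ := by
    rw [← xa, mul_inv_rev, inv_eq_of_mul_eq_one_right x2]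
  generalize e * x = a at aA xa ia
  subst xa
  have aU : a * a ∈ U := IV _ (sqV h aA) (Im a aA a aA ia ia)
  have K1 : (a ∈ V ∨ a * y⁻¹ ∈ V) ∨ (a * (ν₃) ∈ V ∨ a * (ν₃) * y⁻¹ ∈ V) := or_assoc.2 (sqc h aA aU)
  rcases K1 with c | c
  · have := Rc a 1 (K a aA ia c) (one_mem _) (by rwa [mul_one])
    rwa [one_mul] at this
  · obtain ⟨v, hv, e3⟩ := w2 h
    have ie2 : (e₂)⁻¹ = e₂ := inv_eq_of_mul_eq_one_right (e22 h)
    have k1 := cj _ (SM (e2T h).1) _ ze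
    have wA : e * (e₂) * (e * (e₂)) ∈ A := h.sqT (mul_mem h.eT (e2T h))
    have k2 := Rc v _ (RU v hv) wA (by
      rwa [ie2, show e₂ * e * (e₂) = e⁻¹ * (e * (e₂) * (e * (e₂))) by group, ie] at k1)
    rw [← e3] at k2
    have k3 := Rc _ _ (Rm _ _ Rzu (K _ (mul_mem aA (nu3A h)) (Im a aA _ (nu3A h) ia i3) c)) (nu3A h) k2
    rwa [cmA h aA (nu3A h), ← mul_assoc (z * u), cmA h (UA h (mul_mem h.zU h.uU)) (nu3A h),
      show ν₃ * (ν₃ * (z * u) * a) = ν₃ * (ν₃) * (z * u) * a by group, nu32 h, zu2 h, one_mul] at k3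

end OB3

open OB3 in
theorem ON.cls (h : ON S U V z u f β l e ρ γ φ y) (hM : 𝐍(A) ≤ M) (hγ : γ ∈ M) (hx : x ∈ S) (x2 : x * x = 1) (x1 : x ≠ 1) :
    ∃ g ∈ M, g * z * g⁻¹ = x := by
  have back : ∀ k ∈ 𝐍(A), k * x * k⁻¹ ∈ T → k * x * k⁻¹ * f * (k * x * k⁻¹)⁻¹ = z * f →
      ∃ g ∈ M, g * z * g⁻¹ = x := by
    intro k hk t c
    obtain ⟨g, hg, e1⟩ := cls1 h hM hγ t (by
      rw [show k * x * k⁻¹ * (k * x * k⁻¹) = k * (x * x) * k⁻¹ by group, x2]; group) c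
    exact ⟨k⁻¹ * g, mul_mem (inv_mem (hM hk)) hg, by
      rw [show k⁻¹ * g * z * (k⁻¹ * g)⁻¹ = k⁻¹ * (g * z * g⁻¹) * k by group, e1]; group⟩
  by_cases hU : x ∈ 𝐂(U)
  · have xT : x ∈ T := ⟨hx, hU⟩
    obtain ⟨w, hw, c⟩ := h.cf hx
    rcases h.memU.1 hw with rfl | rfl | rfl | rfl
    · obtain ⟨k, hk, e1⟩ := h.toQ3.la_conj h.toLA (h.invA ⟨hx, (h.memA xT).2 (by rw [c, one_mul])⟩ x2) x1
      exact ⟨k, hM hk, e1⟩
    · exact cls1 h hM hγ xT x2 c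
    · have t1 := cjN h.toRot.nT xT
      have c1 := h.b_c (h.b_c c)
      rw [h.ru, h.rzu] at c1
      have e1 : β * β * x * (β * β)⁻¹ = β * (β * x * β⁻¹) * β⁻¹ := by group
      exact back (β * β) (mul_mem h.bA h.bA) (e1 ▸ cjN h.toRot.nT t1) (e1 ▸ c1)
    · have c1 := h.b_c c
      rw [h.rzu] at c1
      exact back β h.bA (cjN h.toRot.nT xT) c1
  · obtain ⟨k, hk, -, t, c⟩ := h.toQ3.la_out h.toLA hx hU (x2 ▸ one_mem _)
    exact back k hk t c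

open OB3 in
theorem ON.gen0 (h : ON S U V z u f β l e ρ γ φ y) :
    S₀ = V ⊔ zpowers y ⊔ V ^ᶜ γ ⊔ (V ^ᶜ γ) ^ᶜ (e₂) := by
  have m0 : ∀ s ∈ S, s * y * s⁻¹ = y → s ∈ S₀ := fun s hs c =>
    ⟨hs, mem_centralizer_singleton_iff.2 (mul_inv_eq_iff_eq_mul.1 c)⟩
  have g0 : V ^ᶜ γ ≤ S₀ := by
    rw [h.toEE.vg]
    exact sup_le (sup_le (zpowers_le.2 (h.A_le (UA h h.zU))) (zpowers_le.2 (m0 e h.eT.1 h.ey)))
      (zpowers_le.2 (m0 ρ h.rS h.ry))
  refine le_antisymm ?_ (sup_le (sup_le (sup_le (h.VA.trans h.A_le) (zpowers_le.2 (h.A_le h.yA))) g0)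
    (cj_le_of_mem_normalizer g0 (h.nS0 (e2T h).1)))
  have eg : e ∈ V ^ᶜ γ := by
    rw [h.toEE.vg]; exact mem_sup_left (mem_sup_right (mem_zpowers e))
  have rg : ρ ∈ V ^ᶜ γ := by
    rw [h.toEE.vg]; exact mem_sup_right (mem_zpowers ρ)
  generalize hH : V ⊔ zpowers y ⊔ V ^ᶜ γ ⊔ (V ^ᶜ γ) ^ᶜ (e₂) = H
  have VH : V ≤ H := hH ▸ le_sup_left.trans (le_sup_left.trans le_sup_left)
  have yH : y ∈ H := hH ▸ mem_sup_left (mem_sup_left (mem_sup_right (mem_zpowers y)))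
  have eH : e ∈ H := hH ▸ mem_sup_left (mem_sup_right eg)
  have rH : ρ ∈ H := hH ▸ mem_sup_left (mem_sup_right rg)
  have eH' : e₂ * e * (e₂)⁻¹ ∈ H := hH ▸ mem_sup_right (cj_mem _ eg)
  have rH' : e₂ * ρ * (e₂)⁻¹ ∈ H := hH ▸ mem_sup_right (cj_mem _ rg)
  have ie2 : (e₂)⁻¹ = e₂ := inv_eq_of_mul_eq_one_right (e22 h)
  have ir : ρ⁻¹ = ρ := inv_eq_of_mul_eq_one_right h.r2
  have nH : ν₃ ∈ H := by
    obtain ⟨v, hv, e3⟩ := w2 h
    rw [e3, show e * (e₂) * (e * (e₂)) = e * (e₂ * e * (e₂)) by group]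
    exact mul_mem (mul_mem eH (by rwa [ie2] at eH')) (VH (h.UV hv))
  have K : ∀ a ∈ A, a * a ∈ U → a ∈ H := by
    intro a ha c
    rcases sqc h ha c with c | c | c | c
    · exact VH c
    · exact (mul_mem_cancel_right (inv_mem yH)).1 (VH c)
    · exact (mul_mem_cancel_right nH).1 (VH c)
    · exact (mul_mem_cancel_right nH).1 ((mul_mem_cancel_right (inv_mem yH)).1 (VH c))
  have e3 : ρ * (e₂) * ρ⁻¹ = β⁻¹ * e * β := by
    calc _ = ρ * β * ρ⁻¹ * (ρ * e * ρ⁻¹) * (ρ * β * ρ⁻¹)⁻¹ := by group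
      _ = _ := by rw [h.rb, h.re, inv_inv]
  have dH : e * (β⁻¹ * e * β) * (e₂) ∈ H := by
    have := mul_mem (mul_mem eH rH) rH'
    rwa [ie2, show e * ρ * (e₂ * ρ * (e₂)) = e * (ρ * (e₂) * ρ⁻¹⁻¹) * (e₂) by group, ir, e3] at this
  have e3T : β⁻¹ * e * β ∈ T := cjN' h.toRot.nT h.eT
  have e3f : β⁻¹ * e * β * f * (β⁻¹ * e * β)⁻¹ = z * u * f := by
    have := h.b_c (e2f h)
    rwa [h.ru, h.b3 h.eT] at this
  have dA : e * (β⁻¹ * e * β) * (e₂) ∈ A := by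
    have := sq1 h (mul_mem e3T (e2T h)) (by
      rw [h.mul_c e3T h.uU e3f (e2f h), h.zu, ← mul_assoc u u, h.u2, one_mul])
    rwa [← mul_assoc] at this
  have dU := (h.toQ4.ld h.rS h.rU h.r2 h.rb h.rf h.rl h.eT h.ef (ee h) h.re).2.2.2
  generalize e * (β⁻¹ * e * β) * (e₂) = d at dH dA dU
  have AH : A ≤ H := by
    intro a ha
    rcases h.memV.1 (sqV h ha) with c | ⟨w, hw, c⟩
    · exact K a ha c
    · obtain ⟨w', hw', c'⟩ := (h.memV.1 (sqV h dA)).resolve_left dU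
      refine (mul_mem_cancel_right dH).1 (K _ (mul_mem ha dA) ?_)
      rw [msq h ha dA, c, c', mul_assoc, ← mul_assoc f, cmA h (h.VA h.fV) (UA h hw'), mul_assoc w', h.f2,
        mul_one]
      exact mul_mem hw hw'
  intro s hs
  rcases h.cases0 hs with c | c | c | c
  · exact AH c
  · exact (mul_mem_cancel_left eH).1 (AH c)
  · exact (mul_mem_cancel_left rH).1 (AH c)
  · exact (mul_mem_cancel_left (mul_mem eH rH)).1 (AH c)

end H13.R3
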