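import Mathlib
import Cfsg.Agent.Base
import Cfsg.Agent.Lib.RK3.OB2
import Cfsg.Agent.Lib.RK3.WF
import Cfsg.Agent.S3157

/-! Simple groups of 2-rank 3, package OS (see `blueprint/RK3/README.md`). -/

set_option autoImplicit false
set_option linter.unusedSectionVars false
set_option linter.unusedVariables false

namespace H13.R3

open Subgroup H69 H70 Cfsg H22.RK H22.RG
open scoped commutatorElement Pointwise

variable {G : Type*} [Group G] [Finite G] {S U V M : Subgroup G}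
  {z u f β l e ρ γ φ y θ t t' x a g s v w : G} {n : ℕ}

local notation "T" => S ⊓ 𝐂(U)
local notation "A" => S ⊓ 𝐂(V)
local notation "W" => U ⊔ zpowers e
local notation "m" => β * l * β⁻¹
local notation "e₂" => β * e * β⁻¹
local notation "S₀" => S ⊓ centralizer (Singleton.singleton y : Set G)

namespace OS

theorem nm {X : Subgroup G} (hg : g ∈ 𝐍(X)) (hx : x ∈ X) : g * x * g⁻¹ ∈ X :=
  (cj_eq_of_mem_normalizer hg).le (cj_mem g hx)

theorem induce {P Y : Subgroup G} {Q : Type*} [Group Q] (π : P →* Q) (hs : Function.Surjective π)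
    (hk : ∀ x : P, π x = 1 ↔ (x : G) ∈ Y) (hg : g ∈ 𝐍(P)) (hY : g ∈ 𝐍(Y)) :
    ∃ α : MulAut Q, ∀ x : P, α (π x) = π ⟨g * x * g⁻¹, nm hg x.2⟩ := by
  have : Finite Q := Finite.of_surjective π hs
  let c : P →* Q := π.comp (P.normalizerMonoidHom ⟨g, hg⟩).toMonoidHom
  have hc : π.ker ≤ c.ker := fun x hx => (hk _).2 (nm hY ((hk x).1 hx))
  let r : Q →* Q := π.liftOfRightInverse (Function.surjInv hs) (Function.rightInverse_surjInv hs) ⟨c, hc⟩
  have e : ∀ x, r (π x) = c x := fun x => π.liftOfRightInverse_comp_apply _ _ ⟨c, hc⟩ x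
  have sj : Function.Surjective r := fun q => by
    obtain ⟨x, rfl⟩ := hs q
    obtain ⟨x', rfl⟩ := (P.normalizerMonoidHom ⟨g, hg⟩).surjective x
    exact ⟨π x', e x'⟩
  exact ⟨MulEquiv.ofBijective r (Finite.surjective_iff_bijective.1 sj), e⟩

theorem y4 (h : ON S U V z u f β l e ρ γ φ y) : orderOf y = 4 := by
  have p := h.toEE.toQ4.toQ3.toP1
  haveI : Fact (Nat.Prime 2) := ⟨Nat.prime_two⟩
  refine orderOf_eq_prime_pow (p := 2) (n := 1) ?_ ?_
  · rw [pow_one, pow_two, h.y2]; exact p.ne.1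
  · rw [show y ^ 2 ^ (1 + 1) = y * y * (y * y) by norm_num [pow_succ, mul_assoc], h.y2, p.z2]

theorem zY (h : ON S U V z u f β l e ρ γ φ y) : zpowers z ≤ zpowers y := by
  rw [zpowers_le, ← h.y2]
  exact mul_mem (mem_zpowers y) (mem_zpowers y)

theorem dec (h : ON S U V z u f β l e ρ γ φ y) (hs : s ∈ V ⊔ zpowers y) :
    ∃ v ∈ V, ∃ i : ℤ, v * y ^ i = s := by
  have q := h.toEE.toQ4.toQ3
  have e := coe_mul_of_left_le_normalizer_right V (zpowers y) (q.VS.trans h.ny)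
  have hs' : s ∈ (V : Set G) * (zpowers y : Set G) := e ▸ hs
  obtain ⟨v, hv, c, ⟨i, rfl⟩, rfl⟩ := hs'
  exact ⟨v, hv, i, rfl⟩

theorem e2 (h : ON S U V z u f β l e ρ γ φ y) : e * e = 1 := by
  obtain ⟨c, hc⟩ := isConj_iff.1 h.ez
  rw [← hc]
  exact sq_cj c h.toEE.toQ4.toQ3.toP1.z2

theorem eS0 (h : ON S U V z u f β l e ρ γ φ y) : e ∈ S₀ :=
  ⟨h.eT.1, mcs.2 h.ey⟩

theorem nab (h : ON S U V z u f β l e ρ γ φ y) : e * φ * e⁻¹ * φ⁻¹ ∉ zpowers y := fun c => by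
  have q := h.toEE.toQ4.toQ3
  have p := q.toP1
  obtain ⟨v, hv, i, e1⟩ := dec h (h.cAe h.pA c)
  have cm : Commute v (y ^ i) := Commute.zpow_right (h.yA.2 v hv) i
  have e3 : f = z ^ i := by
    have e4 := h.pf
    rw [show φ ^ 2 ^ (2 - 1) = φ ^ 2 by norm_num, ← e1, cm.mul_pow, pow_two v, q.e8.sq v hv, one_mul] at e4
    rw [← e4, ← h.y2, ← pow_two, ← zpow_natCast, ← zpow_natCast, ← zpow_mul, ← zpow_mul, mul_comm]
  exact q.fU (e3 ▸ zpow_mem p.zU i)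

theorem fixθ (h : ON S U V z u f β l e ρ γ φ y) (k : TH S V z β e y θ) (hs : s ∈ S₀)
    (c : θ * s * θ⁻¹ = s) : s ∈ zpowers y := by
  have q := h.toEE.toQ4.toQ3
  have p := q.toP1
  have θz : θ * z * θ⁻¹ = z := by rw [← h.y2, cj_mul, k.cy]
  have hA : s ∈ A := by
    refine ⟨hs.1, ?_⟩
    by_contra hA
    obtain ⟨j, hj⟩ := h.to_tau k hs hA
    rw [cj_of_comm (Commute.pow_left (comm_of_cj c) j)] at hj
    have hT : s ∈ T := by
      have := mul_mem (inv_mem h.eT) (q.AT hj)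
      rwa [inv_mul_cancel_left] at this
    have su : s * u * s⁻¹ = u := (p.memT hs.1).1 hT.2
    have hU : θ * u * θ⁻¹ ∈ U := by
      refine q.fixV hT hA (nm (q.nA_le k.nA) (q.UV p.uU)) ?_
      calc s * (θ * u * θ⁻¹) * s⁻¹ = θ * ((θ⁻¹ * s * θ) * u * (θ⁻¹ * s * θ)⁻¹) * θ⁻¹ := by group
        _ = θ * u * θ⁻¹ := by
          rw [show θ⁻¹ * s * θ = s by rw [mul_assoc, ← comm_of_cj c, inv_mul_cancel_left], su]
    have hz : u ∈ zpowers z := by
      refine k.fpf u (q.UV p.uU) ?_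
      rcases p.memU.1 hU with e1 | e1 | e1 | e1
      · exact absurd (conj_eq_one_iff.1 e1) p.ne.2.1
      · exact absurd (mul_left_cancel (mul_right_cancel (θz.trans e1.symm))) p.ne.2.2.1
      · rw [e1, mul_inv_cancel]; exact one_mem _
      · rw [e1, mul_inv_cancel_right]; exact mem_zpowers z
    rcases (mem_zpowers_two p.z2).1 hz with e1 | e1
    · exact p.ne.2.1 e1
    · exact p.ne.2.2.1 e1.symm
  have fx : ∀ v ∈ V, θ * v * θ⁻¹ = v → v ∈ zpowers z := fun v hv e1 =>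
    k.fpf v hv (by rw [e1, mul_inv_cancel]; exact one_mem _)
  have s4 : s * s * (s * s) = 1 := by
    rw [← h.ex s hA]; norm_num [pow_succ, mul_assoc]
  rcases (mem_zpowers_two p.z2).1 (fx _ (q.invA (mul_mem hA hA) s4) (by rw [cj_mul, c])) with e1 | e1
  · exact zY h (fx s (q.invA hA e1) c)
  · have := mul_mem (zY h (fx _ (h.sqz hA e1) (by rw [cj_mul, c, ← conj_inv, k.cy]))) (mem_zpowers y)
    rwa [inv_mul_cancel_right] at this

theorem nY (k : TH S V z β e y θ) : θ ∈ 𝐍(zpowers y) :=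
  nrm_of fun x hx => by
    obtain ⟨i, rfl⟩ := hx
    rw [← conj_zpow, k.cy]
    exact zpow_mem (mem_zpowers y) i

theorem fpf (h : ON S U V z u f β l e ρ γ φ y) (k : TH S V z β e y θ) (hs : s ∈ S₀)
    (c : θ * s * θ⁻¹ * s⁻¹ ∈ zpowers y) : s ∈ zpowers y := by
  obtain ⟨i, hi⟩ := c
  have e1 : θ * s * θ⁻¹ = y ^ i * s := by rw [show y ^ i = _ from hi]; group
  have e2 : θ * y ^ i * θ⁻¹ = y ^ i := by rw [← conj_zpow, k.cy]
  have e3 : θ ^ 3 * s * (θ ^ 3)⁻¹ = s := cj_of_comm (k.cube s hs).symm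
  have e4 : θ ^ 3 * s * (θ ^ 3)⁻¹ = θ * (θ * (θ * s * θ⁻¹) * θ⁻¹) * θ⁻¹ := by
    rw [pow_succ, pow_two]; group
  rw [e4, e1, cj_mul θ (y ^ i) s, e2, e1, cj_mul θ (y ^ i), cj_mul θ (y ^ i) s, e2, e1, ← mul_assoc,
    ← mul_assoc, mul_eq_right] at e3
  have e5 : (y ^ i) ^ 4 = 1 := by
    rw [← zpow_natCast, ← zpow_mul, mul_comm, zpow_mul, zpow_natCast, ← y4 h, pow_orderOf_eq_one, one_zpow]
  have e6 : y ^ i = 1 := by
    rw [show (y ^ i) ^ 4 = y ^ i * y ^ i * y ^ i * y ^ i by norm_num [pow_succ], e3, one_mul] at e5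
    exact e5
  refine fixθ h k hs ?_
  rw [e1, e6, one_mul]

end OS

theorem ON.os (h : ON S U V z u f β l e ρ γ φ y) (k : TH S V z β e y θ) {Q : Type*} [Group Q] (π : (S₀ : Subgroup G) →* Q)
    (hs : Function.Surjective π) (hk : ∀ x : (S₀ : Subgroup G), π x = 1 ↔ (x : G) ∈ zpowers y) :
    SylL34 Q := by
  have q := h.toEE.toQ4.toQ3
  have p := q.toP1
  have : Finite Q := Finite.of_surjective π hs
  have eS : e₂ ∈ S := (OS.nm q.nT h.eT).1
  obtain ⟨r, hr⟩ := OS.induce π hs hk k.nS (OS.nY k)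
  obtain ⟨x, hx⟩ := OS.induce π hs hk (h.nS0 eS) (h.ny eS)
  have c64 : Nat.card Q = 64 := by
    have e1 : π.ker = (zpowers y).subgroupOf (S₀) := by
      ext x; rw [MonoidHom.mem_ker, hk, mem_subgroupOf]
    have le : zpowers y ≤ S₀ := zpowers_le.2 (h.A_le h.yA)
    have e2 := card_mul_index π.ker
    rw [index_ker, MonoidHom.range_eq_top.2 hs, card_top, h.card0, e1,
      Nat.card_congr (subgroupOfEquivOfLe le).toEquiv, Nat.card_zpowers, OS.y4 h] at e2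
    omega
  have na : ¬ IsMulCommutative Q := fun hc => by
    refine OS.nab h ((hk (⟨e, OS.eS0 h⟩ * ⟨φ, h.A_le h.pA⟩ * (⟨e, OS.eS0 h⟩)⁻¹ * (⟨φ, h.A_le h.pA⟩)⁻¹)).1 ?_)
    rw [map_mul, map_mul, map_mul, map_inv, map_inv, hc.is_comm.comm (π ⟨e, _⟩)]
    group
  have fp : ∀ a : Q, r a = a → a = 1 := fun a ha => by
    obtain ⟨s, rfl⟩ := hs a
    rw [hr] at ha
    refine (hk s).2 (OS.fpf h k s.2 ((hk (⟨_, OS.nm k.nS s.2⟩ * s⁻¹)).1 ?_))
    rw [map_mul, map_inv, ha, mul_inv_cancel]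
  have o3 : orderOf r = 3 := by
    haveI : Fact (Nat.Prime 3) := ⟨Nat.prime_three⟩
    refine orderOf_eq_prime ?_ fun e1 => na ⟨⟨fun a b => ?_⟩⟩
    · ext a
      obtain ⟨s, rfl⟩ := hs a
      rw [pow_succ, pow_two, MulAut.mul_apply, MulAut.mul_apply, hr, hr, hr, MulAut.one_apply]
      congr 1
      refine Subtype.ext ?_
      have e3 : θ ^ 3 * s * (θ ^ 3)⁻¹ = s := cj_of_comm (k.cube s s.2).symm
      refine Eq.trans ?_ e3
      rw [pow_succ, pow_two]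
      simp only [mul_inv_rev, mul_assoc]
    · rw [fp a (by rw [e1]; rfl), fp b (by rw [e1]; rfl)]
  have xr : x * r * x⁻¹ = r⁻¹ := by
    have e1 : r * x * r = x := by
      ext a
      obtain ⟨s, rfl⟩ := hs a
      rw [MulAut.mul_apply, MulAut.mul_apply, hr, hx, hr, hx]
      congr 1
      refine Subtype.ext ?_
      have e3 : θ * (e₂) * θ = e₂ := by
        calc θ * (e₂) * θ = θ * (e₂ * θ * (e₂)⁻¹) * (e₂) := by group
          _ = e₂ := by rw [k.inv]; group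
      calc θ * (e₂ * (θ * s * θ⁻¹) * (e₂)⁻¹) * θ⁻¹ = (θ * (e₂) * θ) * s * (θ * (e₂) * θ)⁻¹ := by group
        _ = e₂ * s * (e₂)⁻¹ := by rw [e3]
    calc x * r * x⁻¹ = r⁻¹ * (r * x * r) * x⁻¹ := by group
      _ = r⁻¹ := by rw [e1]; group
  have o2 : orderOf x = 2 := by
    refine orderOf_two ?_ fun e1 => ?_
    · ext a
      obtain ⟨s, rfl⟩ := hs a
      rw [MulAut.mul_apply, hx, hx, MulAut.one_apply]
      congr 1
      refine Subtype.ext ?_
      calc e₂ * (e₂ * s * (e₂)⁻¹) * (e₂)⁻¹ = (e₂ * (e₂)) * s * (e₂ * (e₂))⁻¹ := by group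
        _ = s := by rw [sq_cj β (OS.e2 h)]; group
    · rw [e1, one_mul, inv_one, mul_one] at xr
      have e3 : r ^ 2 = 1 := by rw [pow_two]; exact mul_eq_one_iff_eq_inv.2 xr
      have := orderOf_dvd_of_pow_eq_one e3
      rw [o3] at this
      omega
  exact (Cfsg.Agent.S3157.result c64 na r x o3 o2 xr fp (x.toMonoidHom.eqLocus (MonoidHom.id Q))
    (fun _ => Iff.rfl)).1

theorem ON.cen0 (h : ON S U V z u f β l e ρ γ φ y) (k : TH S V z β e y θ) (hs : s ∈ S₀) :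
    (∀ x ∈ S₀, s * x * s⁻¹ * x⁻¹ ∈ zpowers y) ↔ s ∈ V ⊔ zpowers y := by
  have q := h.toEE.toQ4.toQ3
  have p := q.toP1
  constructor
  · intro H
    by_cases hA : s ∈ 𝐂(V)
    · refine h.cAe ⟨hs.1, hA⟩ ?_
      have := inv_mem (H e (OS.eS0 h))
      rwa [show (s * e * s⁻¹ * e⁻¹)⁻¹ = e * s * e⁻¹ * s⁻¹ by group] at this
    · obtain ⟨j, hj⟩ := h.to_tau k hs hA
      have h1 := OS.nm (pow_mem (OS.nY k) j)
        (H _ (OS.nm (inv_mem (pow_mem k.nS j)) (h.A_le h.pA)))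
      have cm : e * (θ ^ j * s * (θ ^ j)⁻¹) * φ * (e * (θ ^ j * s * (θ ^ j)⁻¹))⁻¹ = φ :=
        cj_of_comm (h.comm h.pA _ hj)
      refine absurd ?_ (OS.nab h)
      convert h1 using 1
      calc e * φ * e⁻¹ * φ⁻¹
          = e * (e * (θ ^ j * s * (θ ^ j)⁻¹) * φ * (e * (θ ^ j * s * (θ ^ j)⁻¹))⁻¹) * e⁻¹ * φ⁻¹ := by rw [cm]
        _ = (e * e) * (θ ^ j * s * (θ ^ j)⁻¹ * φ * (θ ^ j * s * (θ ^ j)⁻¹)⁻¹) * (e * e)⁻¹ * φ⁻¹ := by group
        _ = _ := by rw [OS.e2 h]; group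
  · intro H x hx
    obtain ⟨v, hv, i, rfl⟩ := OS.dec h H
    have c1 : y ^ i * x * (y ^ i)⁻¹ = x :=
      cj_of_comm (Commute.zpow_left (comm_of_cj (cj_symm (mcs.1 hx.2))) i)
    have e1 : v * y ^ i * x * (v * y ^ i)⁻¹ * x⁻¹ = v * (x * v * x⁻¹)⁻¹ := by
      calc v * y ^ i * x * (v * y ^ i)⁻¹ * x⁻¹ = v * (y ^ i * x * (y ^ i)⁻¹) * v⁻¹ * x⁻¹ := by group
        _ = _ := by rw [c1]; group
    rw [e1]
    rcases (h.memS0 hx.1).1 (mcs.1 hx.2) v hv with e2 | e2 <;> rw [e2]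
    · rw [mul_inv_cancel]; exact one_mem _
    · rw [mul_inv_rev, mul_inv_cancel_left]; exact inv_mem (OS.zY h (mem_zpowers z))

end H13.R3
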