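import Mathlib
import Cfsg.Agent.Base
import Cfsg.Agent.Lib.RK3.OB2

/-! Simple groups of 2-rank 3, package OI (see `blueprint/RK3/README.md`). -/

set_option autoImplicit false
set_option linter.unusedSectionVars false
set_option linter.unusedVariables false

namespace H13.R3

open Subgroup H69 H70 Cfsg H22.RK H22.RG
open scoped commutatorElement Pointwise

variable {G : Type*} [Group G] [Finite G] {S U V M : Subgroup G}
  {z u f β l e ρ γ φ y θ t t' x a g s v w : G} {n : ℕ}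

local notation "T" => S ⊓ 𝐂(U)
local notation "A" => S ⊓ 𝐂(V)
local notation "W" => U ⊔ zpowers e
local notation "m" => β * l * β⁻¹
local notation "e₂" => β * e * β⁻¹
local notation "S₀" => S ⊓ centralizer (Singleton.singleton y : Set G)

namespace OI

theorem mem4 (y2 : y * y = z) (z2 : z * z = 1) (z1 : z ≠ 1) (hx : x ∈ zpowers y) (x2 : x * x = z) :
    x = y ∨ x = y⁻¹ := by
  obtain ⟨k, rfl⟩ := mem_zpowers_iff.1 hx
  have y4 : y ^ (4 : ℤ) = 1 := by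
    rw [show y ^ (4 : ℤ) = y * y * (y * y) by
      rw [show (4 : ℤ) = 1 + 1 + (1 + 1) by norm_num, zpow_add, zpow_add, zpow_one], y2, z2]
  rw [zpow_eq_zpow_emod k y4] at x2 ⊢
  have hk : k % 4 = 0 ∨ k % 4 = 1 ∨ k % 4 = 2 ∨ k % 4 = 3 := by omega
  rcases hk with hk | hk | hk | hk <;> rw [hk] at x2 ⊢
  · exact absurd (by rw [← x2]; group) z1
  · left; group
  · refine absurd ?_ z1
    rw [← x2, ← y4]; group
  · right
    rw [eq_inv_iff_mul_eq_one, ← y4]; group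

theorem cj_eq {c b : G} (hc : b * c = c * b) : c * b * c⁻¹ = b := by
  rw [← hc]; group

theorem st0_of (h : Q3 S U V z u f β) (hx : x ∈ T) (e : x * f * x⁻¹ = f ∨ x * f * x⁻¹ = z * f) :
    St0 V z x := by
  intro w hw
  rcases h.memV.1 hw with hw | ⟨w', hw', rfl⟩
  · exact Or.inl (cj_eq (mem_centralizer_iff.1 hx.2 w hw))
  · have e1 : x * (w' * f) * x⁻¹ = w' * (x * f * x⁻¹) := by
      rw [← mul_assoc x, ← mem_centralizer_iff.1 hx.2 w' hw']; group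
    have e2 : w' * z = z * w' := mem_centralizer_iff.1 (h.toP1.UT h.toP1.zU).2 w' hw'
    rcases e with e | e
    · left; rw [e1, e]
    · right; rw [e1, e, ← mul_assoc, e2, mul_assoc]

theorem cV_of (h : Q3 S U V z u f β) (h1 : x * z * x⁻¹ = z) (h2 : x * u * x⁻¹ = u)
    (h3 : x * f * x⁻¹ = f) : x ∈ 𝐂(V) := by
  have hU : ∀ w ∈ U, x * w * x⁻¹ = w := by
    intro w hw
    rcases h.toP1.memU.1 hw with rfl | rfl | rfl | rfl
    · group
    · exact h1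
    · exact h2
    · calc x * (z * u) * x⁻¹ = (x * z * x⁻¹) * (x * u * x⁻¹) := by group
        _ = z * u := by rw [h1, h2]
  rw [mem_centralizer_iff]
  intro w hw
  have : x * w * x⁻¹ = w := by
    rcases h.memV.1 hw with hw | ⟨w', hw', rfl⟩
    · exact hU w hw
    · calc x * (w' * f) * x⁻¹ = (x * w' * x⁻¹) * (x * f * x⁻¹) := by group
        _ = w' * f := by rw [hU w' hw', h3]
  calc w * x = (x * w * x⁻¹) * x := by rw [this]
    _ = x * w := by group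

theorem like (h : ON S U V z u f β l e ρ γ φ y) (hx : x ∈ 𝐍(A)) (xz : x * z * x⁻¹ = z) (hs : s ∈ S)
    (sy : s * y * s⁻¹ = y) (eu : s * u * s⁻¹ = x * u * x⁻¹) (ef : s * f * s⁻¹ = x * f * x⁻¹) :
    x * y * x⁻¹ = y := by
  have q := h.toEE.toQ4.toQ3
  have key : ∀ b : G, s * b * s⁻¹ = x * b * x⁻¹ → s⁻¹ * x * b * (s⁻¹ * x)⁻¹ = b := by
    intro b hb
    calc s⁻¹ * x * b * (s⁻¹ * x)⁻¹ = s⁻¹ * (x * b * x⁻¹) * s := by group
      _ = b := by rw [← hb]; group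
  have h1 : s⁻¹ * x ∈ 𝐂(V) := cV_of q (key z (by rw [xz, q.toP1.cjz hs])) (key u eu) (key f ef)
  have h2 := h.toLA.cv _ (mul_mem (inv_mem (q.nA hs)) hx) h1
  have h3 := cj_eq (mem_centralizer_iff.1 h2 y h.yA)
  calc x * y * x⁻¹ = s * (s⁻¹ * x * y * (s⁻¹ * x)⁻¹) * s⁻¹ := by group
    _ = y := by rw [h3, sy]

theorem act (h : ON S U V z u f β l e ρ γ φ y) (hx : x ∈ 𝐍(A)) (xz : x * z * x⁻¹ = z)
    (ht : St0 V z x) : x * y * x⁻¹ = y := by
  have q := h.toEE.toQ4.toQ3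
  have eu : e * u * e⁻¹ = u := (q.toP1.memT h.eT.1).1 h.eT.2
  have ru : ρ * u * ρ⁻¹ = z * u := q.toP1.conj_u h.rS h.rU
  rcases ht u (q.UV q.toP1.uU) with h1 | h1 <;> rcases ht f q.fV with h2 | h2
  · exact like h hx xz (one_mem S) (by group) (by rw [h1]; group) (by rw [h2]; group)
  · exact like h hx xz h.eT.1 h.ey (by rw [h1, eu]) (by rw [h2, h.ef])
  · exact like h hx xz h.rS h.ry (by rw [h1, ru]) (by rw [h2, h.rf])
  · refine like h hx xz (mul_mem h.eT.1 h.rS) ?_ ?_ ?_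
    · calc e * ρ * y * (e * ρ)⁻¹ = e * (ρ * y * ρ⁻¹) * e⁻¹ := by group
        _ = y := by rw [h.ry, h.ey]
    · calc e * ρ * u * (e * ρ)⁻¹ = e * (ρ * u * ρ⁻¹) * e⁻¹ := by group
        _ = (e * z * e⁻¹) * (e * u * e⁻¹) := by rw [ru]; group
        _ = x * u * x⁻¹ := by rw [h1, eu, q.toP1.cjz h.eT.1]
    · calc e * ρ * f * (e * ρ)⁻¹ = e * (ρ * f * ρ⁻¹) * e⁻¹ := by group
        _ = x * f * x⁻¹ := by rw [h.rf, h.ef, h2]

theorem nA_le (h : Q3 S U V z u f β) (hx : x ∈ 𝐍(A)) (hv : v ∈ V) : x * v * x⁻¹ ∈ V := by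
  refine h.invA ((mem_normalizer_iff.1 hx v).1 (h.VA hv)) ?_
  have v2 : v * v = 1 := by
    rcases h.memV.1 hv with hw | ⟨w, hw, rfl⟩
    · exact h.toP1.sqU hw
    · have c : w * f = f * w := mem_centralizer_iff.1 (h.AT (h.VA h.fV)).2 w hw
      calc w * f * (w * f) = w * (f * w) * f := by group
        _ = (w * w) * (f * f) := by rw [← c]; group
        _ = 1 := by rw [h.toP1.sqU hw, h.f2, one_mul]
  calc x * v * x⁻¹ * (x * v * x⁻¹) = x * (v * v) * x⁻¹ := by group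
    _ = 1 := by rw [v2]; group

theorem cj_sq (y2 : y * y = z) (hg : g * z * g⁻¹ = z) : g * y * g⁻¹ * (g * y * g⁻¹) = z := by
  calc g * y * g⁻¹ * (g * y * g⁻¹) = g * (y * y) * g⁻¹ := by group
    _ = z := by rw [y2, hg]

theorem caseA (h : ON S U V z u f β l e ρ γ φ y) (hg : g * z * g⁻¹ = z) (hA : g * y * g⁻¹ ∈ A) :
    g * y * g⁻¹ = y ∨ g * y * g⁻¹ = y⁻¹ := by
  haveI : Fact (Nat.Prime 2) := ⟨Nat.prime_two⟩
  have q := h.toEE.toQ4.toQ3
  have h1 : (A) ^ᶜ g⁻¹ ≤ centralizer {y} := by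
    intro b hb
    rw [mem_cj, inv_inv] at hb
    rw [mem_centralizer_singleton_iff]
    have c := mem_centralizer_iff.1 (h.toLA.comm hb) _ hA
    calc b * y = g⁻¹ * (g * b * g⁻¹ * (g * y * g⁻¹)) * g := by group
      _ = y * b := by rw [← c]; group
  obtain ⟨c, hc, hle⟩ := h.syl0.exists_cj_le (q.sylA.cj g⁻¹).isP h1
  rw [cj_cj] at hle
  have hk : g * c⁻¹ ∈ 𝐍(A) := by
    have := inv_mem (h.toLA.wc _ (hle.trans inf_le_left))
    rwa [mul_inv_rev, inv_inv] at this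
  have ky : g * c⁻¹ * y * (g * c⁻¹)⁻¹ = g * y * g⁻¹ := by
    have := mem_centralizer_singleton_iff.1 hc
    calc g * c⁻¹ * y * (g * c⁻¹)⁻¹ = g * c⁻¹ * (y * c) * g⁻¹ := by group
      _ = g * y * g⁻¹ := by rw [← this]; group
  generalize g * c⁻¹ = k at hk ky
  have y2 := cj_sq h.y2 hg
  have kz : k * z * k⁻¹ = z := by
    calc k * z * k⁻¹ = k * y * k⁻¹ * (k * y * k⁻¹) := by rw [← h.y2]; group
      _ = z := by rw [ky, y2]
  have key : ∀ s ∈ S, s * y * s⁻¹ = y → g * y * g⁻¹ * s = s * (g * y * g⁻¹) := by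
    intro s hs sy
    have st := (h.memS0 hs).1 sy
    have kz' : k⁻¹ * z * k = z := by
      calc k⁻¹ * z * k = k⁻¹ * (k * z * k⁻¹) * k := by rw [kz]
        _ = z := by group
    have h2 : k⁻¹ * s * k * y * (k⁻¹ * s * k)⁻¹ = y := by
      refine act h (mul_mem (mul_mem (inv_mem hk) (q.nA hs)) hk) ?_ ?_
      · calc k⁻¹ * s * k * z * (k⁻¹ * s * k)⁻¹ = k⁻¹ * (s * (k * z * k⁻¹) * s⁻¹) * k := by group
          _ = z := by rw [kz, q.toP1.cjz hs, kz']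
      · intro w hw
        have e1 : k⁻¹ * s * k * w * (k⁻¹ * s * k)⁻¹ = k⁻¹ * (s * (k * w * k⁻¹) * s⁻¹) * k := by group
        rcases st _ (nA_le q hk hw) with e2 | e2
        · left; rw [e1, e2]; group
        · right
          rw [e1, e2]
          calc k⁻¹ * (z * (k * w * k⁻¹)) * k = (k⁻¹ * z * k) * w := by group
            _ = z * w := by rw [kz']
    rw [← ky]
    calc k * y * k⁻¹ * s = k * (k⁻¹ * s * k * y * (k⁻¹ * s * k)⁻¹) * k⁻¹ * s := by rw [h2]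
      _ = s * (k * y * k⁻¹) := by group
  exact mem4 h.y2 q.toP1.z2 q.toP1.ne.1 (h.cA hA (key e h.eT.1 h.ey) (key ρ h.rS h.ry)) y2

theorem e2 (h : ON S U V z u f β l e ρ γ φ y) : e * e = 1 := by
  obtain ⟨c, hc⟩ := isConj_iff.1 h.ez
  calc e * e = c * (z * z) * c⁻¹ := by rw [← hc]; group
    _ = 1 := by rw [h.toEE.toQ4.toQ3.toP1.z2]; group

theorem eV (h : ON S U V z u f β l e ρ γ φ y) : e ∉ 𝐂(V) := by
  intro hc
  have q := h.toEE.toQ4.toQ3
  have h1 := (q.memA h.eT).1 hc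
  rw [h.ef] at h1
  exact q.toP1.ne.1 (mul_eq_right.1 h1)

/-- an element of `T` with square `z` acts trivially on `V / ⟨z⟩`. -/
theorem sqT (h : ON S U V z u f β l e ρ γ φ y) (hx : x ∈ T) (x2 : x * x = z) :
    x * f * x⁻¹ = f ∨ x * f * x⁻¹ = z * f := by
  have q := h.toEE.toQ4.toQ3
  obtain ⟨w, hw, e1⟩ := q.cf hx.1
  by_cases w1 : w = 1
  · left; rw [e1, w1, one_mul]
  · rcases q.co_sq h.toLA h.toCO h.eT (eV h) (e2 h) hx hw w1 e1 (by rw [x2, q.toP1.z2]) with h1 | h1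
    · exact absurd (x2.symm.trans h1) q.toP1.ne.1
    · right; rw [e1, ← h1, x2]

/-- the final configuration -/
theorem fin (h : ON S U V z u f β l e ρ γ φ y) (hv : v ∈ S) (hx : x ∈ S) (v2 : v * v = 1)
    (x2 : x * x = z) (c : x * v = v * x) (vy : v * y * v⁻¹ = y⁻¹) (xy : x * y * x⁻¹ = y) : False := by
  have q := h.toEE.toQ4.toQ3
  have hn : ¬ St0 V z v := fun st => h.y_ne (((h.memS0 hv).2 st).symm.trans vy)
  have vT : v ∈ T := by
    refine ⟨hv, ?_⟩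
    by_contra hc
    exact hn (q.out hv hc (by rw [v2]; exact one_mem _))
  obtain ⟨w, hw, e1⟩ := q.cf hv
  have xT : x ∈ T := by
    refine ⟨hx, ?_⟩
    by_contra hc
    have h1 := q.out_c hx vT hw e1
    rw [cj_eq c.symm, e1] at h1
    rcases q.toP1.fix_out hx hc hw (mul_right_cancel h1).symm with h2 | h2
    · exact hn (st0_of q vT (Or.inl (by rw [e1, h2, one_mul])))
    · exact hn (st0_of q vT (Or.inr (by rw [e1, h2])))
  have h3 : x * v * (x * v) = z := by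
    calc x * v * (x * v) = x * (v * x) * v := by group
      _ = (x * x) * (v * v) := by rw [← c]; group
      _ = z := by rw [x2, v2, mul_one]
  have h4 := (h.memS0 (mul_mem hx hv)).2 (st0_of q (mul_mem xT vT) (sqT h (mul_mem xT vT) h3))
  apply h.y_ne
  calc y = x * v * y * (x * v)⁻¹ := h4.symm
    _ = x * (v * y * v⁻¹) * x⁻¹ := by group
    _ = (x * y * x⁻¹)⁻¹ := by rw [vy]; group
    _ = y⁻¹ := by rw [xy]

theorem norm_zp (hx : x * t * x⁻¹ = t ∨ x * t * x⁻¹ = t⁻¹) : x ∈ 𝐍(zpowers t) := by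
  rw [← cj_eq_self_iff, cj_zpowers]
  rcases hx with h | h
  · rw [h]
  · rw [h, zpowers_inv]

theorem caseB (h : ON S U V z u f β l e ρ γ φ y) (hg : g * z * g⁻¹ = z) (hS : g * y * g⁻¹ ∈ S)
    (hA : g * y * g⁻¹ ∉ 𝐂(V)) : False := by
  haveI : Fact (Nat.Prime 2) := ⟨Nat.prime_two⟩
  have q := h.toEE.toQ4.toQ3
  have z2 := q.toP1.z2
  have t2 := cj_sq h.y2 hg
  have hN : S ^ᶜ g ≤ 𝐍(zpowers (g * y * g⁻¹)) := by
    rw [← cj_zpowers, ← cj_normalizer]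
    exact cj_mono g h.ny
  obtain ⟨t, ht⟩ : ∃ t, t = g * y * g⁻¹ := ⟨_, rfl⟩
  rw [← ht] at hS hA t2 hN
  have st : St0 V z t := by
    by_cases hc : t ∈ 𝐂(U)
    · exact st0_of q ⟨hS, hc⟩ (sqT h ⟨hS, hc⟩ t2)
    · exact q.out hS hc (by rw [t2]; exact (q.VA (q.UV q.toP1.zU)).2)
  have ty := (h.memS0 hS).2 st
  obtain ⟨v, hv, tv⟩ : ∃ v ∈ V, t * v * t⁻¹ = z * v := by
    by_contra hn
    push Not at hn
    refine hA (mem_centralizer_iff.2 fun w hw => ?_)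
    have := (st w hw).resolve_right (hn w hw)
    calc w * t = (t * w * t⁻¹) * t := by rw [this]
      _ = t * w := by group
  have vA := q.VA hv
  have v2 : v * v = 1 := by
    rcases q.memV.1 hv with hw | ⟨w, hw, rfl⟩
    · exact q.toP1.sqU hw
    · have c : w * f = f * w := mem_centralizer_iff.1 (q.AT (q.VA q.fV)).2 w hw
      calc w * f * (w * f) = w * (f * w) * f := by group
        _ = (w * w) * (f * f) := by rw [← c]; group
        _ = 1 := by rw [q.toP1.sqU hw, q.f2, one_mul]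
  have vt : v * t * v⁻¹ = t⁻¹ := by
    have e1 : v * t⁻¹ * v⁻¹ = t⁻¹ * z := by
      calc v * t⁻¹ * v⁻¹ = t⁻¹ * (t * v * t⁻¹) * v⁻¹ := by group
        _ = t⁻¹ * z := by rw [tv]; group
    calc v * t * v⁻¹ = (v * t⁻¹ * v⁻¹)⁻¹ := by group
      _ = t⁻¹ := by rw [e1, ← t2]; group
  have yt : y * t * y⁻¹ = t := by
    calc y * t * y⁻¹ = (t * y * t⁻¹) * t * y⁻¹ := by rw [ty]
      _ = t := by group
  have syl : IsSylowIn 2 (S ^ᶜ g) 𝐍(zpowers t) := (q.syl.cj g).mono hN (by rw [cj_top]; exact le_top)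
  obtain ⟨c, hc, hle⟩ := syl.exists_cj_le (R := S ⊓ 𝐍(zpowers t)) (q.syl.isP.to_le inf_le_left)
    inf_le_right
  have hin : ∀ b ∈ S, b ∈ 𝐍(zpowers t) → g⁻¹ * c * b * (g⁻¹ * c)⁻¹ ∈ S := by
    intro b h1 h2
    have := mem_cj.1 (hle (cj_mem c (⟨h1, h2⟩ : b ∈ S ⊓ 𝐍(zpowers t))))
    rwa [show g⁻¹ * (c * b * c⁻¹) * g = g⁻¹ * c * b * (g⁻¹ * c)⁻¹ by group] at this
  have ct : c * t * c⁻¹ = t ∨ c * t * c⁻¹ = t⁻¹ := by
    have h1 : c * t * c⁻¹ ∈ zpowers t := (mem_normalizer_iff.1 hc t).1 (mem_zpowers t)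
    have h2 : c * z * c⁻¹ * (c * z * c⁻¹) = 1 := by
      calc c * z * c⁻¹ * (c * z * c⁻¹) = c * (z * z) * c⁻¹ := by group
        _ = 1 := by rw [z2]; group
    obtain ⟨j, hj⟩ := mem_zpowers_iff.1 h1
    have t4 : t ^ (4 : ℤ) = 1 := by
      rw [show t ^ (4 : ℤ) = t * t * (t * t) by
        rw [show (4 : ℤ) = 1 + 1 + (1 + 1) by norm_num, zpow_add, zpow_add, zpow_one], t2, z2]
    have h3 : c * t * c⁻¹ * (c * t * c⁻¹) ≠ 1 := by
      intro h3
      apply q.toP1.ne.1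
      calc z = c⁻¹ * (c * t * c⁻¹ * (c * t * c⁻¹)) * c := by rw [← t2]; group
        _ = 1 := by rw [h3]; group
    rw [← hj, zpow_eq_zpow_emod j t4] at h3 ⊢
    have hk : j % 4 = 0 ∨ j % 4 = 1 ∨ j % 4 = 2 ∨ j % 4 = 3 := by omega
    rcases hk with hk | hk | hk | hk <;> rw [hk] at h3 ⊢
    · exact absurd (by group) h3
    · left; group
    · exact absurd (by rw [← t4]; group) h3
    · right
      rw [eq_inv_iff_mul_eq_one, ← t4]; group
  have kt : g⁻¹ * c * t * (g⁻¹ * c)⁻¹ = y ∨ g⁻¹ * c * t * (g⁻¹ * c)⁻¹ = y⁻¹ := by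
    have e1 : g⁻¹ * c * t * (g⁻¹ * c)⁻¹ = g⁻¹ * (c * t * c⁻¹) * g := by group
    rcases ct with e2 | e2
    · left; rw [e1, e2, ht]; group
    · right; rw [e1, e2, ht]; group
  have h1 := hin v vA.1 (norm_zp (Or.inr vt))
  have h2 := hin y h.yA.1 (norm_zp (Or.inl yt))
  generalize g⁻¹ * c = k at h1 h2 kt
  have yi : y⁻¹ * y⁻¹ = z := by
    rw [← mul_inv_rev, h.y2, inv_eq_iff_mul_eq_one, z2]
  have kz : k * z * k⁻¹ = z := by
    have e1 : k * z * k⁻¹ = k * t * k⁻¹ * (k * t * k⁻¹) := by rw [← t2]; group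
    rcases kt with e2 | e2
    · rw [e1, e2, h.y2]
    · rw [e1, e2, yi]
  have a1 : k * v * k⁻¹ * (k * t * k⁻¹) * (k * v * k⁻¹)⁻¹ = (k * t * k⁻¹)⁻¹ := by
    calc k * v * k⁻¹ * (k * t * k⁻¹) * (k * v * k⁻¹)⁻¹ = k * (v * t * v⁻¹) * k⁻¹ := by group
      _ = (k * t * k⁻¹)⁻¹ := by rw [vt]; group
  have a2 : k * y * k⁻¹ * (k * t * k⁻¹) * (k * y * k⁻¹)⁻¹ = k * t * k⁻¹ := by
    calc k * y * k⁻¹ * (k * t * k⁻¹) * (k * y * k⁻¹)⁻¹ = k * (y * t * y⁻¹) * k⁻¹ := by group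
      _ = k * t * k⁻¹ := by rw [yt]
  have yv : y * v = v * y := (mem_centralizer_iff.1 h.yA.2 v hv).symm
  refine fin h h1 h2 ?_ (cj_sq h.y2 kz) ?_ ?_ ?_
  · calc k * v * k⁻¹ * (k * v * k⁻¹) = k * (v * v) * k⁻¹ := by group
      _ = 1 := by rw [v2]; group
  · calc k * y * k⁻¹ * (k * v * k⁻¹) = k * (y * v) * k⁻¹ := by group
      _ = k * v * k⁻¹ * (k * y * k⁻¹) := by rw [yv]; group
  · rcases kt with e2 | e2 <;> rw [e2] at a1
    · exact a1
    · calc k * v * k⁻¹ * y * (k * v * k⁻¹)⁻¹ = (k * v * k⁻¹ * y⁻¹ * (k * v * k⁻¹)⁻¹)⁻¹ := by group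
        _ = y⁻¹ := by rw [a1, inv_inv]
  · rcases kt with e2 | e2 <;> rw [e2] at a2
    · exact a2
    · calc k * y * k⁻¹ * y * (k * y * k⁻¹)⁻¹ = (k * y * k⁻¹ * y⁻¹ * (k * y * k⁻¹)⁻¹)⁻¹ := by group
        _ = y := by rw [a2, inv_inv]

end OI

theorem ON.oi (h : ON S U V z u f β l e ρ γ φ y) (k : TH S V z β e y θ) (hg : g * z * g⁻¹ = z) (hS : g * y * g⁻¹ ∈ S) :
    g * y * g⁻¹ = y ∨ g * y * g⁻¹ = y⁻¹ := by
  by_cases hA : g * y * g⁻¹ ∈ 𝐂(V)
  · exact OI.caseA h hg ⟨hS, hA⟩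
  · exact (OI.caseB h hg hS hA).elim

end H13.R3
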