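import Mathlib
import Cfsg.Agent.Base
import Cfsg.Agent.Lib.RK3.OI

/-! Simple groups of 2-rank 3, package OZ (see `blueprint/RK3/README.md`). -/

set_option autoImplicit false
set_option linter.unusedSectionVars false
set_option linter.unusedVariables false

namespace H13.R3

open Subgroup H69 H70 Cfsg H22.RK H22.RG
open scoped commutatorElement Pointwise

variable {G : Type*} [Group G] [Finite G] {S U V M : Subgroup G}
  {z u f β l e ρ γ φ y θ t t' x a g s v w : G} {n : ℕ}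

local notation "T" => S ⊓ 𝐂(U)
local notation "A" => S ⊓ 𝐂(V)
local notation "W" => U ⊔ zpowers e
local notation "m" => β * l * β⁻¹
local notation "e₂" => β * e * β⁻¹
local notation "S₀" => S ⊓ centralizer (Singleton.singleton y : Set G)

namespace OZ

theorem syl_of_el2 {N Y : Subgroup G} (hY : IsPGroup 2 Y) (hYN : Y ≤ N)
    (hel : ∀ x ∈ N, Gold.El2 x → x ∈ Y) : IsSylowIn 2 Y N :=
  ⟨hYN, hY, fun R h1 h2 h3 => le_antisymm (fun x hx => hel x (h2 hx) (Gold.El2.of_mem h3 hx)) h1⟩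

/-- a central Sylow 2-subgroup has a complement inside the odd core of any overgroup normalising -/
theorem split {N Y C : Subgroup G} (hY : IsSylowIn 2 Y N) (hc : N ≤ 𝐂(Y)) (hNC : N ≤ C)
    (hn : C ≤ 𝐍(N)) : N ≤ Y ⊔ Gold.Od C := by
  have hnm : (Y.subgroupOf N).Normal :=
    (normal_subgroupOf_iff_le_normalizer hY.le).2 (le_normalizer_of_le_centralizer hc)
  have hni : ¬ 2 ∣ (Y.subgroupOf N).index := hY.not_dvd_relIndex
  have hco : Nat.Coprime (Nat.card (Y.subgroupOf N)) (Y.subgroupOf N).index := by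
    obtain ⟨k, hk⟩ := IsPGroup.iff_card.1 (isPGroup_subgroupOf hY.isP N)
    rw [hk]
    exact ((Nat.Prime.coprime_iff_not_dvd Nat.prime_two).2 hni).pow_left k
  obtain ⟨H, hH⟩ := exists_right_complement'_of_coprime hco
  have hKN : H.map N.subtype ≤ N := map_subtype_le H
  have hKo : Gold.OddS (H.map N.subtype) := by
    rw [Gold.OddS, card_map_subtype, ← hH.symm.index_eq_card]
    exact hni
  have hsup : N ≤ H.map N.subtype ⊔ Y := by
    have e := congrArg (Subgroup.map N.subtype) hH.sup_eq_top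
    rw [Subgroup.map_sup, map_subtype_top, map_subgroupOf_eq_of_le hY.le, sup_comm] at e
    exact e.ge
  have hYK : Y ≤ 𝐍(H.map N.subtype) :=
    le_normalizer_of_le_centralizer (le_centralizer_iff.1 (hKN.trans hc))
  have hCK : C ≤ 𝐍(H.map N.subtype) := le_normalizer_of_cj_le fun g hg x hx => by
    obtain ⟨a, ha, rfl⟩ := mem_cj'.1 hx
    exact Gold.mem_of_odd hY.isP hYK (hsup (conj_mem_of_mem_normalizer (hn hg) (hKN ha)))
      (Gold.odd_conj (hKo.odd ha) g)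
  exact hsup.trans (sup_le (le_sup_of_le_right (Gold.le_Od (hKN.trans hNC) hKo hCK)) le_sup_left)

theorem zp_inv (hy : y * y = z) (hz : z * z = 1) : y⁻¹ = z * y := by
  rw [inv_eq_iff_mul_eq_one, ← hy]
  rw [← hy] at hz
  simpa only [mul_assoc] using hz

theorem mem_zp (hy : y * y = z) (hz : z * z = 1) (hx : x ∈ zpowers y) :
    x = 1 ∨ x = y ∨ x = z ∨ x = y⁻¹ := by
  have h4 : y ^ 4 = 1 := by
    rw [← hy] at hz
    rw [← hz]; simp only [pow_succ, pow_zero, one_mul, mul_assoc]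
  obtain ⟨n, rfl⟩ := (mem_powers_iff_mem_zpowers.2 hx)
  have e : y ^ n = y ^ (n % 4) := pow_eq_pow_mod n h4
  have hl : n % 4 < 4 := Nat.mod_lt _ (by norm_num)
  simp only
  rw [e]
  generalize n % 4 = r at hl
  interval_cases r
  · exact Or.inl (pow_zero y)
  · exact Or.inr (Or.inl (pow_one y))
  · exact Or.inr (Or.inr (Or.inl ((pow_two y).trans hy)))
  · refine Or.inr (Or.inr (Or.inr ?_))
    rw [eq_inv_iff_mul_eq_one, ← pow_succ, h4]

theorem nrm_cases (hy : y * y = z) (hz : z * z = 1) (z1 : z ≠ 1) (hg : g ∈ 𝐍(zpowers y)) :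
    g * y * g⁻¹ = y ∨ g * y * g⁻¹ = y⁻¹ := by
  have key : g * y * g⁻¹ * (g * y * g⁻¹) ≠ 1 := by
    intro e
    apply z1
    have : g * (y * y) * g⁻¹ = 1 := by rw [← e]; group
    rw [hy] at this
    have e2 : z = g⁻¹ * (g * z * g⁻¹) * g := by group
    rw [e2, this]; group
  rcases mem_zp hy hz (conj_mem_of_mem_normalizer hg (mem_zpowers y)) with e | e | e | e
  · exact absurd (by rw [e, one_mul]) key
  · exact Or.inl e
  · exact absurd (by rw [e, hz]) key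
  · exact Or.inr e

theorem nrm_of (hg : g * y * g⁻¹ = y ∨ g * y * g⁻¹ = y⁻¹) : g ∈ 𝐍(zpowers y) := by
  refine cj_eq_self_iff.1 ?_
  rw [cj_zpowers]
  rcases hg with e | e
  · rw [e]
  · rw [e, zpowers_inv]

theorem fix_z (hy : y * y = z) (hz : z * z = 1) (hg : g * y * g⁻¹ = y ∨ g * y * g⁻¹ = y⁻¹) :
    g * z * g⁻¹ = z := by
  have e0 : g * z * g⁻¹ = g * y * g⁻¹ * (g * y * g⁻¹) := by rw [← hy]; group
  rcases hg with e | e
  · rw [e0, e, hy]
  · rw [e0, e, ← mul_inv_rev, hy, inv_eq_iff_mul_eq_one, hz]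

/-- a conjugate of `y` under `𝐂(z)` normalising `⟨y⟩` is `y` or its inverse -/
theorem iso (h : ON S U V z u f β l e ρ γ φ y) (k : TH S V z β e y θ) (hg : g * z * g⁻¹ = z)
    (hn : g * y * g⁻¹ ∈ 𝐍(zpowers y)) : g * y * g⁻¹ = y ∨ g * y * g⁻¹ = y⁻¹ := by
  have z2 := h.toEE.toQ4.toQ3.toP1.z2
  have z1 := h.toEE.toQ4.toQ3.toP1.ne.1
  have hS : IsSylowIn 2 S 𝐍(zpowers y) := h.syl.mono h.ny le_top
  have ey : Gold.El2 y := Gold.El2.of_mem h.syl.isP h.yA.1
  obtain ⟨c, hc, hle⟩ := hS.exists_cj_le (ey.conj g).isPGroup (zpowers_le.2 hn)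
  have hcc := nrm_cases h.y2 z2 z1 hc
  have hci := nrm_cases h.y2 z2 z1 (inv_mem hc)
  rw [inv_inv] at hci
  have h1 : c * g * z * (c * g)⁻¹ = z := by
    have : c * g * z * (c * g)⁻¹ = c * (g * z * g⁻¹) * c⁻¹ := by group
    rw [this, hg, fix_z h.y2 z2 hcc]
  have h2 : c * g * y * (c * g)⁻¹ ∈ S := by
    have : c * g * y * (c * g)⁻¹ = c * (g * y * g⁻¹) * c⁻¹ := by group
    rw [this]
    exact hle (cj_mem c (mem_zpowers _))
  have e0 : g * y * g⁻¹ = c⁻¹ * (c * g * y * (c * g)⁻¹) * c := by group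
  have e1 : c⁻¹ * y⁻¹ * c = (c⁻¹ * y * c)⁻¹ := by group
  rcases h.oi k h1 h2 with e | e <;> rw [e0, e]
  · exact hci
  · rw [e1]
    rcases hci with e' | e' <;> rw [e']
    · exact Or.inr rfl
    · exact Or.inl (inv_inv y)

end OZ

theorem ON.zst (h : ON S U V z u f β l e ρ γ φ y) (k : TH S V z β e y θ) (hg : g * z * g⁻¹ = z) :
    ∃ k ∈ 𝐍(zpowers y), ∃ o ∈ Gold.Od (centralizer {z}), g = k * o := by
  have z2 := h.toEE.toQ4.toQ3.toP1.z2
  have z1 := h.toEE.toQ4.toQ3.toP1.ne.1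
  have y2 := h.y2
  have yi := OZ.zp_inv y2 z2
  have zC : z ∈ centralizer ({z} : Set G) := mem_centralizer_singleton_iff.2 rfl
  have yC : y ∈ centralizer ({z} : Set G) := h.cz h.yA.1
  have gC : g ∈ centralizer ({z} : Set G) :=
    mem_centralizer_singleton_iff.2 (mul_inv_eq_iff_eq_mul.1 hg)
  have hzC : zpowers z ≤ centralizer ({z} : Set G) := zpowers_le.2 zC
  have hCz : centralizer ({z} : Set G) ≤ 𝐂(zpowers z) := (H69.centralizer_zpowers z).ge
  have hnm : ((zpowers z).subgroupOf (centralizer ({z} : Set G))).Normal :=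
    (normal_subgroupOf_iff_le_normalizer hzC).2 (le_normalizer_of_le_centralizer hCz)
  obtain ⟨π, hπ⟩ : ∃ π, π = QuotientGroup.mk' ((zpowers z).subgroupOf (centralizer ({z} : Set G))) :=
    ⟨_, rfl⟩
  have hs : Function.Surjective π := hπ ▸ QuotientGroup.mk'_surjective _
  have hk : ∀ x : centralizer ({z} : Set G), π x = 1 ↔ (x : G) = 1 ∨ (x : G) = z := fun x => by
    rw [hπ, QuotientGroup.mk'_apply, QuotientGroup.eq_one_iff, mem_subgroupOf,
      Gold.mem_zpowers_of_mul_self z2]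
  have hcj : ∀ a : centralizer ({z} : Set G), π a * π ⟨y, yC⟩ = π ⟨y, yC⟩ * π a →
      (a : G) ∈ 𝐍(zpowers y) := fun a ha => by
    have e1 : π (a * ⟨y, yC⟩ * a⁻¹ * (⟨y, yC⟩ : centralizer ({z} : Set G))⁻¹) = 1 := by
      rw [map_mul, map_mul, map_mul, map_inv, map_inv, ha]; group
    refine OZ.nrm_of ?_
    rcases (hk _).1 e1 with e | e
    · exact Or.inl (mul_inv_eq_one.1 e)
    · exact Or.inr ((mul_inv_eq_iff_eq_mul.1 e).trans yi.symm)
  have v2 : π ⟨y, yC⟩ * π ⟨y, yC⟩ = 1 := by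
    rw [← map_mul]; exact (hk _).2 (Or.inr y2)
  have v1 : π ⟨y, yC⟩ ≠ 1 := fun e0 => by
    rcases (hk _).1 e0 with e | e
    · exact h.y_ne (by rw [show y = 1 from e, inv_one])
    · exact h.y_ne (by rw [show y = z from e, eq_inv_iff_mul_eq_one, z2])
  obtain ⟨c, hc, o, ho, e0⟩ := H13.PS.ZS' (H := ⊤) (mem_top (π ⟨y, yC⟩)) v2 v1 (fun b _ hb => by
    obtain ⟨a, rfl⟩ := hs b
    have ha : (a : G) * z * (a : G)⁻¹ = z :=
      mul_inv_eq_iff_eq_mul.2 (mem_centralizer_singleton_iff.1 a.2)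
    have e1 : π a * π ⟨y, yC⟩ * (π a)⁻¹ = π (a * ⟨y, yC⟩ * a⁻¹) := by
      rw [map_mul, map_mul, map_inv]
    rw [e1] at hb ⊢
    rcases OZ.iso h k ha (hcj _ hb) with e | e
    · exact congrArg π (Subtype.ext e)
    · have e2 : a * ⟨y, yC⟩ * a⁻¹ = (⟨y, yC⟩ : centralizer ({z} : Set G))⁻¹ := Subtype.ext e
      rw [e2, map_inv, inv_eq_iff_mul_eq_one, v2]) (mem_top (π ⟨g, gC⟩))
  obtain ⟨c, rfl⟩ := hs c
  have hcn := hcj c hc
  have hNC : ((Gold.Od ⊤).comap π).map (centralizer ({z} : Set G)).subtype ≤ centralizer {z} :=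
    map_subtype_le _
  have : (Gold.Od (⊤ : Subgroup (centralizer ({z} : Set G) ⧸
      (zpowers z).subgroupOf (centralizer ({z} : Set G))))).Normal :=
    normal_iff_top_le_normalizer.2 (Gold.le_norm_Od ⊤)
  have hn : centralizer ({z} : Set G) ≤
      𝐍(((Gold.Od ⊤).comap π).map (centralizer ({z} : Set G)).subtype) :=
    normal_iff_le_normalizer_map.1 inferInstance
  have hsyl : IsSylowIn 2 (zpowers z)
      (((Gold.Od ⊤).comap π).map (centralizer ({z} : Set G)).subtype) := by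
    refine OZ.syl_of_el2 (Gold.El2.of_mul_self z2).isPGroup (zpowers_le.2 ⟨⟨z, zC⟩, ?_, rfl⟩) ?_
    · show π ⟨z, zC⟩ ∈ Gold.Od ⊤
      rw [(hk _).2 (Or.inr rfl)]; exact one_mem _
    · rintro _ ⟨x, hx, rfl⟩ ⟨j, hj⟩
      have e1 : π x = 1 := (Gold.Od_odd ⊤).eq_one hx ⟨j, by
        rw [← map_pow, show x ^ 2 ^ j = 1 from Subtype.ext hj, map_one]⟩
      exact (Gold.mem_zpowers_of_mul_self z2).2 ((hk x).1 e1)
  have hm : (c : G)⁻¹ * g ∈ ((Gold.Od ⊤).comap π).map (centralizer ({z} : Set G)).subtype := by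
    refine ⟨c⁻¹ * ⟨g, gC⟩, ?_, rfl⟩
    show π (c⁻¹ * ⟨g, gC⟩) ∈ Gold.Od ⊤
    rw [map_mul, map_inv, e0, inv_mul_cancel_left]; exact ho
  obtain ⟨a, ha, b, hb, e1⟩ := (mem_sup_of_le_normalizer_right (hzC.trans (Gold.le_norm_Od _))).1
    (OZ.split hsyl (hNC.trans hCz) hNC hn hm)
  have hzy : zpowers z ≤ zpowers y := zpowers_le.2 (y2 ▸ mul_mem (mem_zpowers y) (mem_zpowers y))
  refine ⟨c * a, mul_mem hcn (le_normalizer (hzy ha)), b, hb, ?_⟩
  rw [mul_assoc, ← e1, mul_inv_cancel_left]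

theorem ON.od_le (h : ON S U V z u f β l e ρ γ φ y) (k : TH S V z β e y θ) :
    Gold.Od (centralizer {y}) ≤ Gold.Od (centralizer {z}) := by
  have z2 := h.toEE.toQ4.toQ3.toP1.z2
  have z1 := h.toEE.toQ4.toQ3.toP1.ne.1
  have hyz : centralizer ({y} : Set G) ≤ centralizer {z} := fun x hx => by
    have e1 := mem_centralizer_singleton_iff.1 hx
    rw [mem_centralizer_singleton_iff, ← h.y2, ← mul_assoc, e1, mul_assoc, e1, mul_assoc]
  have h1 : Gold.Od (centralizer ({y} : Set G)) ≤ centralizer {z} := (Gold.Od_le _).trans hyz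
  refine le_sup_right.trans (Gold.le_Od (X := Gold.Od (centralizer {z}) ⊔ Gold.Od (centralizer {y}))
    (sup_le (Gold.Od_le _) h1)
    ((Gold.Od_odd _).sup (Gold.Od_odd _) (h1.trans (Gold.le_norm_Od _))) fun g hg => ?_)
  obtain ⟨c, hc, o, ho, rfl⟩ := h.zst k
    (mul_inv_eq_iff_eq_mul.2 (mem_centralizer_singleton_iff.1 hg))
  refine mul_mem ?_ (le_normalizer (mem_sup_left ho))
  have c1 : c ∈ centralizer ({z} : Set G) := mem_centralizer_singleton_iff.2
    (mul_inv_eq_iff_eq_mul.1 (OZ.fix_z h.y2 z2 (OZ.nrm_cases h.y2 z2 z1 hc)))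
  have c2 : c ∈ 𝐍(centralizer ({y} : Set G)) := by
    rw [← H69.centralizer_zpowers]; exact H69.normalizer_le_normalizer_centralizer _ hc
  exact le_normalizer_sup (L := zpowers c) (zpowers_le.2 (Gold.le_norm_Od _ c1))
    (zpowers_le.2 (Gold.norm_Od _ c2)) (mem_zpowers c)

theorem od_cen (hy : ∃ k : ℕ, y ^ 2 ^ k = 1) {N : Subgroup G} (h1 : zpowers y ⊔ Gold.Od (centralizer {y}) ≤ N)
    (h2 : N ≤ centralizer {y}) (h3 : centralizer {y} ≤ 𝐍(N))
    (h4 : Odd ((zpowers y ⊔ Gold.Od (centralizer {y})).subgroupOf N).index) :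
    N ≤ zpowers y ⊔ Gold.Od (centralizer {y}) := by
  have hp : IsPGroup 2 (zpowers y) := Gold.El2.isPGroup hy
  have hCy : centralizer ({y} : Set G) ≤ 𝐂(zpowers y) := (H69.centralizer_zpowers y).ge
  have s1 : IsSylowIn 2 (zpowers y) (zpowers y ⊔ Gold.Od (centralizer {y})) :=
    OZ.syl_of_el2 hp le_sup_left fun x hx ex => Gold.mem_of_el2 (Gold.Od_odd _)
      (le_normalizer_of_le_centralizer ((Gold.Od_le _).trans hCy)) hx ex
  exact OZ.split (s1.trans_of_not_dvd h1 h4.not_two_dvd_nat) (h2.trans hCy) h2 h3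

theorem ON.exists_g (h : ON S U V z u f β l e ρ γ φ y) (k : TH S V z β e y θ) :
    ∃ g, (g = γ ∨ g = γ * (e₂)) ∧ g * y * g⁻¹ = y ∧ V ^ᶜ g = V ^ᶜ γ := by
  have q := h.toEE.toQ4.toQ3
  have hst : St0 (W) z y := fun w hw => Or.inl (conj_eq_of_mem_centralizer (by
    rw [centralizer_sup, H69.centralizer_zpowers]
    refine ⟨centralizer_anti h.UV h.yA.2, mem_centralizer_singleton_iff.2 ?_⟩
    exact (mul_inv_eq_iff_eq_mul.1 h.ey).symm) hw)
  rcases h.oi k h.gz (h.gS y h.yA.1 hst) with e1 | e1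
  · exact ⟨γ, Or.inl rfl, e1, rfl⟩
  · refine ⟨γ * (e₂), Or.inr rfl, ?_, ?_⟩
    · have e2 : γ * (e₂) * y * (γ * (e₂))⁻¹ = γ * (e₂ * y * (e₂)⁻¹) * γ⁻¹ := by group
      have e3 : γ * y⁻¹ * γ⁻¹ = (γ * y * γ⁻¹)⁻¹ := by group
      rw [e2, h.e2y, e3, e1, inv_inv]
    · rw [← cj_cj, cj_eq_of_mem_normalizer
        (mul_mem (mul_mem q.bV (h.nV h.eT.1)) (inv_mem q.bV))]

end H13.R3
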