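import Mathlib
import Cfsg.Agent.Base
import Cfsg.Agent.Lib.RK3.NC
import Cfsg.Agent.Lib.RK3.EK2
import Cfsg.Agent.Lib.RK3.II3

/-! Simple groups of 2-rank 3, package SS (see `blueprint/RK3/README.md`). -/

set_option autoImplicit false
set_option linter.unusedSectionVars false
set_option linter.unusedVariables false

namespace H13.R3

open Subgroup H69 H70 Cfsg H22.RK H22.RG
open scoped commutatorElement Pointwise

variable {G : Type*} [Group G] [Finite G] {S U V M : Subgroup G}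
  {z u f β l e ρ γ φ y θ t t' x a g s v w : G} {n : ℕ}

local notation "T" => S ⊓ 𝐂(U)
local notation "A" => S ⊓ 𝐂(V)
local notation "W" => U ⊔ zpowers e
local notation "m" => β * l * β⁻¹
local notation "e₂" => β * e * β⁻¹
local notation "S₀" => S ⊓ centralizer (Singleton.singleton y : Set G)

theorem SS.nf (h : Q3 S U V z u f β) (hf : ¬ IsConj z f) {f' : G} (e : f' * f⁻¹ ∈ U) : ¬ IsConj z f' :=
  fun k => by
    obtain ⟨x, -, e'⟩ := h.onto e
    rw [inv_mul_cancel_right] at e'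
    exact hf (k.trans (isConj_iff.2 ⟨x, e'⟩ : IsConj f f').symm)

theorem Q4.ss (h : Q4 S U V z u f β l) :
    IsConj z f := by
  by_contra hf
  have hon := h.lh hf
  by_cases nn : NN S U z
  · obtain ⟨x, hx, g, h1, h2⟩ := h.nsc.exists h.US (fun e => h.ne.1 (mem_bot.1 (e ▸ h.zU))) fun _ => h.sqU
    have x1 : x ≠ 1 := fun e => h2 (by rw [e, mul_one, mul_inv_cancel]; exact one_mem _)
    have hz : IsConj z (g * x * g⁻¹) := (h.conjU hx x1).trans (isConj_iff.2 ⟨g, rfl⟩)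
    have kt : KK S U z (g * x * g⁻¹) := ⟨h1, fun k => h2 (nn _ ⟨h1, k⟩ hz), hz⟩
    obtain ⟨f', β', l', h', tb, tf, tl, e1, -, -⟩ := h.reinv h1 kt.2.1 (sq_cj g (h.sqU hx))
    obtain ⟨y, X⟩ := h'.na2 kt
    exact h'.nc nn (SS.nf h.toQ3 hf e1) X tb (h'.nd nn X tb tf tl)
  · simp only [NN, not_forall] at nn
    obtain ⟨e, he, hz, hU⟩ := nn
    have e2 : e * e = 1 := by
      obtain ⟨g, rfl⟩ := isConj_iff.1 hz
      exact sq_cj g h.z2
    have kf : ∀ v ∈ V, v ∉ U → ¬ IsConj z v := fun v hv hn k => by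
      obtain ⟨x, -, rfl⟩ := h.conjf hv hn
      exact hf (k.trans (isConj_iff.2 ⟨x, rfl⟩ : IsConj f _).symm)
    have hA : e ∉ 𝐂(V) := fun k => kf e (h.invA ⟨he.1, k⟩ e2) hU hz
    obtain ⟨f', β', l', e', ρ, γ, h', e1, e3⟩ := h.ii hon he hA hz fun k hk eq => by
      have hf' : k⁻¹ * f * k ∈ U ⊔ zpowers e := mem_cj.1 (eq ▸ h.fV)
      refine hf (IsConj.trans ?_ (isConj_iff.2 ⟨k, by group⟩ : IsConj (k⁻¹ * f * k) f))
      rcases (h.mem_sup he.2 e2).1 hf' with k1 | ⟨v, hv, k1⟩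
      · refine h.conjU k1 fun e0 => h.fU ?_
        rw [show f = k * (k⁻¹ * f * k) * k⁻¹ by group, e0, mul_one, mul_inv_cancel]; exact one_mem _
      · obtain ⟨a, -, k2⟩ := h.on_conj he (hon e he hA hz) hv
        exact hz.trans (isConj_iff.2 ⟨a, k2.trans k1.symm⟩)
    exact h'.ek (SS.nf h.toQ3 hf e1) (e3 ▸ hon)

end H13.R3
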